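import Mathlib
import Cfsg.Prelude.Def_Involutions
import Cfsg.Agent.TwoFusion.StronglyEmbeddedBasic

/-!
# Closing with two classes of involutions

`G` finite, `M ≤ G`, `t` and `z` involutions of `M`, not conjugate in `G`, such that every
involution of `G` is conjugate to `t` or to `z`, every involution of `M` is `M`-conjugate to `t` or
to `z`, `C_G(t) ≤ M`, the product of two commuting different conjugates of `z` is conjugate to `t`,
and `M` contains `d`, `e` conjugate to `t` and commuting with `z` such that `d z` is conjugate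
to `z` and `e z` is conjugate to `t`. Then `M = G`. Nothing is assumed on `C_G(z)`.
-/

set_option autoImplicit false

namespace Cfsg.Agent.SylowLFive.Closing

open Cfsg Cfsg.Agent.TwoFusion.StronglyEmbeddedBasic

/-- Hypotheses of the closing theorem. -/
structure Hyp {G : Type*} [Group G] (M : Subgroup G) (t z : G) : Prop where
  ht : orderOf t = 2
  hz : orderOf z = 2
  tM : t ∈ M
  zM : z ∈ M
  /-- two classes of involutions in `G` -/
  all : ∀ u : G, orderOf u = 2 → (∃ g : G, g * t * g⁻¹ = u) ∨ ∃ g : G, g * z * g⁻¹ = u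
  /-- two classes of involutions in `M` -/
  cls : ∀ u ∈ M, orderOf u = 2 → (∃ m ∈ M, m * t * m⁻¹ = u) ∨ ∃ m ∈ M, m * z * m⁻¹ = u
  ne : ∀ g : G, g * t * g⁻¹ ≠ z
  ct : ∀ g : G, g * t = t * g → g ∈ M
  zprod : ∀ g : G, (g * z * g⁻¹) * z = z * (g * z * g⁻¹) → g * z * g⁻¹ ≠ z →
    ∃ h : G, h * t * h⁻¹ = z * (g * z * g⁻¹)
  d : ∃ d ∈ M, d * z = z * d ∧ (∃ g : G, g * t * g⁻¹ = d) ∧ ∃ g : G, g * z * g⁻¹ = d * z
  e : ∃ e ∈ M, e * z = z * e ∧ (∃ g : G, g * t * g⁻¹ = e) ∧ ∃ g : G, g * t * g⁻¹ = e * z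

section

variable {G : Type*} [Group G] {M : Subgroup G} {t z : G}

/-- No element is conjugate to `t` and to `z`. -/
theorem Hyp.not_both (H : Hyp M t z) {u : G} (h1 : ∃ g : G, g * t * g⁻¹ = u)
    (h2 : ∃ g : G, g * z * g⁻¹ = u) : False := by
  obtain ⟨g, hg⟩ := h1
  obtain ⟨k, hk⟩ := h2
  apply H.ne (k⁻¹ * g)
  calc k⁻¹ * g * t * (k⁻¹ * g)⁻¹ = k⁻¹ * (g * t * g⁻¹) * k := by group
    _ = k⁻¹ * (k * z * k⁻¹) * k := by rw [hg, hk]
    _ = z := by group

theorem orderOf_of_conj {a u : G} (ha : orderOf a = 2) (h : ∃ g : G, g * a * g⁻¹ = u) :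
    orderOf u = 2 := by
  obtain ⟨g, rfl⟩ := h
  rw [orderOf_conj, ha]

/-- A conjugate of `t` in `M` is an `M`-conjugate of `t`. -/
theorem Hyp.conj_t (H : Hyp M t z) {u : G} (hu : u ∈ M) (h : ∃ g : G, g * t * g⁻¹ = u) :
    ∃ m ∈ M, m * t * m⁻¹ = u := by
  rcases H.cls u hu (orderOf_of_conj H.ht h) with h1 | ⟨m, _, hm⟩
  · exact h1
  · exact (H.not_both h ⟨m, hm⟩).elim

/-- A conjugate of `z` in `M` is an `M`-conjugate of `z`. -/
theorem Hyp.conj_z (H : Hyp M t z) {u : G} (hu : u ∈ M) (h : ∃ g : G, g * z * g⁻¹ = u) :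
    ∃ m ∈ M, m * z * m⁻¹ = u := by
  rcases H.cls u hu (orderOf_of_conj H.hz h) with ⟨m, _, hm⟩ | h1
  · exact (H.not_both ⟨m, hm⟩ h).elim
  · exact h1

/-- If `g` conjugates a conjugate of `t` lying in `M` into `M` then `g ∈ M`. -/
theorem Hyp.mem_of_conj (H : Hyp M t z) {u g : G} (hu : u ∈ M) (h : ∃ g : G, g * t * g⁻¹ = u)
    (hg : g * u * g⁻¹ ∈ M) : g ∈ M := by
  obtain ⟨m, hm, hmu⟩ := H.conj_t hu h
  have h2 : ∃ k : G, k * t * k⁻¹ = g * u * g⁻¹ := by
    obtain ⟨k, hk⟩ := h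
    exact ⟨g * k, by rw [← hk]; group⟩
  obtain ⟨n, hn, hnu⟩ := H.conj_t hg h2
  have h3 : n⁻¹ * (g * m) ∈ M := by
    apply H.ct
    have e1 : g * m * t * (g * m)⁻¹ = n * t * n⁻¹ := by
      rw [hnu, ← hmu]; group
    calc n⁻¹ * (g * m) * t = n⁻¹ * (g * m * t * (g * m)⁻¹) * (g * m) := by group
      _ = n⁻¹ * (n * t * n⁻¹) * (g * m) := by rw [e1]
      _ = t * (n⁻¹ * (g * m)) := by group
  have h4 : g = n * (n⁻¹ * (g * m)) * m⁻¹ := by group
  rw [h4]
  exact mul_mem (mul_mem hn h3) (inv_mem hm)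

/-- The centralizer of a conjugate of `t` lying in `M` is contained in `M`. -/
theorem Hyp.mem_of_comm (H : Hyp M t z) {u g : G} (hu : u ∈ M) (h : ∃ g : G, g * t * g⁻¹ = u)
    (hg : g * u = u * g) : g ∈ M := by
  refine H.mem_of_conj hu h ?_
  rw [hg, mul_inv_cancel_right]
  exact hu

/-- For an involution `v ≠ z` commuting with `z`, `v` or `z v` is conjugate to `t`. -/
theorem Hyp.or_mul (H : Hyp M t z) {v : G} (hv : orderOf v = 2) (hvz : v ≠ z)
    (hc : v * z = z * v) : (∃ g : G, g * t * g⁻¹ = v) ∨ ∃ g : G, g * t * g⁻¹ = z * v := by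
  rcases H.all v hv with h | ⟨g, hg⟩
  · exact Or.inl h
  · right
    have := H.zprod g (by rw [hg]; exact hc) (by rw [hg]; exact hvz)
    rwa [hg] at this

/-- **Key step**: the centralizer of `z` is contained in `M`. -/
theorem Hyp.cz [Finite G] (H : Hyp M t z) {x : G} (hx : x * z = z * x) : x ∈ M := by
  obtain ⟨d, hdM, hdz, hdt, hdz'⟩ := H.d
  obtain ⟨e, heM, hez, het, hez'⟩ := H.e
  have hzz : z * z = 1 := mul_self_of_orderOf H.hz
  have hdd : d * d = 1 := mul_self_of_orderOf (orderOf_of_conj H.ht hdt)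
  -- the conjugate `f` of `e`
  set f := x * e * x⁻¹ with hf
  have hft : ∃ g : G, g * t * g⁻¹ = f := by
    obtain ⟨g, hg⟩ := het
    exact ⟨x * g, by rw [hf, ← hg]; group⟩
  have hff : f * f = 1 := mul_self_of_orderOf (orderOf_of_conj H.ht hft)
  have hxz : x⁻¹ * z = z * x⁻¹ := by
    calc x⁻¹ * z = x⁻¹ * (z * x) * x⁻¹ := by group
      _ = x⁻¹ * (x * z) * x⁻¹ := by rw [hx]
      _ = z * x⁻¹ := by group
  have hfz : f * z = z * f := by
    calc x * e * x⁻¹ * z = x * e * (x⁻¹ * z) := by group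
      _ = x * (e * z) * x⁻¹ := by rw [hxz]; group
      _ = (x * z) * e * x⁻¹ := by rw [hez]; group
      _ = z * (x * e * x⁻¹) := by rw [hx]; group
  have hfz' : ∃ g : G, g * t * g⁻¹ = f * z := by
    obtain ⟨g, hg⟩ := hez'
    refine ⟨x * g, ?_⟩
    calc x * g * t * (x * g)⁻¹ = x * (g * t * g⁻¹) * x⁻¹ := by group
      _ = x * (e * z) * x⁻¹ := by rw [hg]
      _ = x * e * (z * x⁻¹) := by group
      _ = x * e * (x⁻¹ * z) := by rw [hxz]
      _ = x * e * x⁻¹ * z := by group
  -- the rotation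
  set r := d * f with hr
  have hdi : d⁻¹ = d := inv_eq_of_mul_eq_one_right hdd
  have hfi : f⁻¹ = f := inv_eq_of_mul_eq_one_right hff
  have hri : r⁻¹ = f * d := by rw [hr, mul_inv_rev, hdi, hfi]
  have hsc : SemiconjBy d r r⁻¹ := by
    show d * r = r⁻¹ * d
    rw [hri, hr, ← mul_assoc, hdd, mul_assoc, hdd]; simp
  have hdk : ∀ k : ℕ, d * r ^ k = (r ^ k)⁻¹ * d := by
    intro k
    have := (hsc.pow_right k).eq
    rwa [inv_pow] at this
  have hrz : Commute r z := by
    show d * f * z = z * (d * f)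
    rw [mul_assoc, hfz, ← mul_assoc, hdz, mul_assoc]
  have hrkz : ∀ k : ℕ, r ^ k * z = z * r ^ k := fun k => (hrz.pow_left k).eq
  -- the least `n > 0` with `r ^ n ∈ {1, z}`
  have hex : ∃ n : ℕ, 0 < n ∧ (r ^ n = 1 ∨ r ^ n = z) := ⟨orderOf r, orderOf_pos r,
    Or.inl (pow_orderOf_eq_one r)⟩
  classical
  obtain ⟨hn0, hn⟩ := Nat.find_spec hex
  have hmin := fun m => Nat.find_min hex (m := m)
  set n := Nat.find hex with hnn
  rcases Nat.even_or_odd' n with ⟨k, hk | hk⟩
  · -- even case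
    have hk0 : 0 < k := by omega
    have hkn : k < n := by omega
    set v := r ^ k with hv
    have hv1 : v ≠ 1 := fun h => hmin k hkn ⟨hk0, Or.inl h⟩
    have hvz : v ≠ z := fun h => hmin k hkn ⟨hk0, Or.inr h⟩
    have hvv' : v * v = r ^ n := by rw [hv, ← pow_add, hk, two_mul]
    have hvd : d * v = v⁻¹ * d := hdk k
    have hvv : v * v = 1 := by
      rcases hn with h | h
      · rw [hvv', h]
      · exfalso
        -- `v² = z`: then `d` and `d z` are conjugate
        have h1 : v * v = z := by rw [hvv', h]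
        have h2 : ∃ g : G, g * t * g⁻¹ = d * z := by
          obtain ⟨g, hg⟩ := hdt
          refine ⟨v⁻¹ * g, ?_⟩
          calc v⁻¹ * g * t * (v⁻¹ * g)⁻¹ = v⁻¹ * (g * t * g⁻¹) * v := by group
            _ = v⁻¹ * d * v := by rw [hg]
            _ = d * v * v := by rw [← hvd]
            _ = d * z := by rw [mul_assoc, h1]
        exact H.not_both h2 hdz'
    have hvi : v⁻¹ = v := inv_eq_of_mul_eq_one_right hvv
    have hvd' : v * d = d * v := by rw [hvd, hvi]
    have hvo : orderOf v = 2 := orderOf_eq_two_of_mul_self hvv hv1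
    have hvzc : v * z = z * v := hrkz k
    -- `v` commutes with `f = d r`
    have hfd : f = d * r := by rw [hr, ← mul_assoc, hdd, one_mul]
    have hvf : v * f = f * v := by
      have hvr : v * r = r * v := by rw [hv, ← pow_succ, ← pow_succ']
      calc v * f = v * (d * r) := by rw [← hfd]
        _ = (v * d) * r := (mul_assoc v d r).symm
        _ = (d * v) * r := by rw [hvd']
        _ = d * (v * r) := mul_assoc d v r
        _ = d * (r * v) := by rw [hvr]
        _ = (d * r) * v := (mul_assoc d r v).symm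
        _ = f * v := by rw [← hfd]
    -- a conjugate `w` of `t` commuting with `d` and `f`
    obtain ⟨w, hwt, hwd, hwf⟩ : ∃ w : G, (∃ g : G, g * t * g⁻¹ = w) ∧ w * d = d * w ∧
        w * f = f * w := by
      rcases H.or_mul hvo hvz hvzc with h | h
      · exact ⟨v, h, hvd', hvf⟩
      · refine ⟨z * v, h, ?_, ?_⟩
        · rw [mul_assoc, hvd', ← mul_assoc, ← hdz, mul_assoc]
        · rw [mul_assoc, hvf, ← mul_assoc, ← hfz, mul_assoc]
    have hwM : w ∈ M := H.mem_of_comm hdM hdt hwd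
    have hfM : f ∈ M := H.mem_of_comm hwM hwt hwf.symm
    exact H.mem_of_conj heM het hfM
  · -- odd case
    exfalso
    have h1 : (r ^ k)⁻¹ * d * r ^ k = (d * f * d) * r ^ n := by
      calc (r ^ k)⁻¹ * d * r ^ k = d * r ^ k * r ^ k := by rw [← hdk]
        _ = d * r ^ (2 * k) := by rw [mul_assoc, ← pow_add, two_mul]
        _ = d * (r⁻¹ * r ^ (2 * k + 1)) := by rw [pow_succ']; group
        _ = d * (f * d * r ^ n) := by rw [hri, hk]
        _ = (d * f * d) * r ^ n := by group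
    -- `d` is conjugate to `f` or `f z`, both by an element commuting with `z`
    have hdr : (d * r ^ k) * z = z * (d * r ^ k) := by
      rw [mul_assoc, hrkz, ← mul_assoc, hdz, mul_assoc]
    have h2 : ∃ y : G, y * z = z * y ∧ (y * f * y⁻¹ = d ∨ y * (f * z) * y⁻¹ = d) := by
      refine ⟨r ^ k * d, ?_, ?_⟩
      · rw [mul_assoc, hdz, ← mul_assoc, hrkz, mul_assoc]
      · rcases hn with h | h
        · left
          rw [h, mul_one] at h1
          calc r ^ k * d * f * (r ^ k * d)⁻¹ = r ^ k * (d * f * d⁻¹) * (r ^ k)⁻¹ := by group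
            _ = r ^ k * (d * f * d) * (r ^ k)⁻¹ := by rw [hdi]
            _ = r ^ k * ((r ^ k)⁻¹ * d * r ^ k) * (r ^ k)⁻¹ := by rw [h1]
            _ = d := by group
        · right
          rw [h] at h1
          calc r ^ k * d * (f * z) * (r ^ k * d)⁻¹
              = r ^ k * (d * f * (z * d⁻¹)) * (r ^ k)⁻¹ := by group
            _ = r ^ k * (d * f * d * z) * (r ^ k)⁻¹ := by rw [hdi, ← hdz]; group
            _ = r ^ k * ((r ^ k)⁻¹ * d * r ^ k) * (r ^ k)⁻¹ := by rw [h1]
            _ = d := by group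
    obtain ⟨y, hyz, hy⟩ := h2
    have hyz' : z * y⁻¹ = y⁻¹ * z := by
      calc z * y⁻¹ = y⁻¹ * (y * z) * y⁻¹ := by group
        _ = y⁻¹ * (z * y) * y⁻¹ := by rw [hyz]
        _ = y⁻¹ * z := by group
    have h3 : ∃ g : G, g * t * g⁻¹ = d * z := by
      rcases hy with h | h
      · obtain ⟨g, hg⟩ := hfz'
        refine ⟨y * g, ?_⟩
        calc y * g * t * (y * g)⁻¹ = y * (g * t * g⁻¹) * y⁻¹ := by group
          _ = y * f * (z * y⁻¹) := by rw [hg]; group
          _ = y * f * y⁻¹ * z := by rw [hyz']; group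
          _ = d * z := by rw [h]
      · obtain ⟨g, hg⟩ := hft
        refine ⟨y * g, ?_⟩
        calc y * g * t * (y * g)⁻¹ = y * (g * t * g⁻¹) * y⁻¹ := by group
          _ = y * f * y⁻¹ := by rw [hg]
          _ = y * (f * (z * z)) * y⁻¹ := by rw [hzz, mul_one]
          _ = y * (f * z) * (z * y⁻¹) := by group
          _ = y * (f * z) * y⁻¹ * z := by rw [hyz']; group
          _ = d * z := by rw [h]
    exact H.not_both h3 hdz'

/-- **Closing theorem**: `M = G`. -/
theorem Hyp.eq_top [Finite G] (H : Hyp M t z) : M = ⊤ := by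
  by_contra hne
  have hSE : IsStronglyEmbedded M := by
    refine ⟨hne, ?_, ?_⟩
    · by_contra hodd
      exact not_odd_of_mem M t H.tM H.ht (Nat.not_even_iff_odd.1 hodd)
    · intro g hg
      by_contra hodd
      rw [Nat.not_odd_iff_even] at hodd
      obtain ⟨⟨u, hu⟩, hu2⟩ := exists_prime_orderOf_dvd_card'
        (G := ↥(M ⊓ M.map (MulAut.conj g).toMonoidHom)) 2 (even_iff_two_dvd.mp hodd)
      rw [Subgroup.orderOf_mk] at hu2
      obtain ⟨huM, w, hw, hwu⟩ := hu
      have hwu' : g * w * g⁻¹ = u := by simpa using hwu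
      have hw2 : orderOf w = 2 := by rw [← orderOf_conj g w, hwu', hu2]
      apply hg
      rcases H.cls w hw hw2 with ⟨m, hm, hmw⟩ | ⟨m, hm, hmw⟩
      · exact H.mem_of_conj hw ⟨m, hmw⟩ (by rw [hwu']; exact huM)
      · have h2 : ∃ k : G, k * z * k⁻¹ = u := ⟨g * m, by rw [← hwu', ← hmw]; group⟩
        obtain ⟨n, hn, hnu⟩ := H.conj_z huM h2
        have h3 : n⁻¹ * (g * m) ∈ M := by
          apply H.cz
          have e1 : g * m * z * (g * m)⁻¹ = n * z * n⁻¹ := by
            rw [hnu, ← hwu', ← hmw]; group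
          calc n⁻¹ * (g * m) * z = n⁻¹ * (g * m * z * (g * m)⁻¹) * (g * m) := by group
            _ = n⁻¹ * (n * z * n⁻¹) * (g * m) := by rw [e1]
            _ = z * (n⁻¹ * (g * m)) := by group
        have h4 : g = n * (n⁻¹ * (g * m)) * m⁻¹ := by group
        rw [h4]
        exact mul_mem (mul_mem hn h3) (inv_mem hm)
  obtain ⟨g, hg⟩ := isConj_iff.1 (isConj_of_involutions hSE t z H.ht H.hz)
  exact H.ne g hg

end

end Cfsg.Agent.SylowLFive.Closing
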