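import Mathlib
import Cfsg.Prelude.Def_Involutions
import Cfsg.Agent.SylowLFive.Closing

/-!
# The frame of `L₅^ε(q)`, `q` odd, and the closing argument

`T i j` (`i j : Fin 5`) are the ten involutions `t_ij` of the diagonal elementary abelian
subgroup `E` of order 16, `z i` are the other five. `J` is a normal subgroup of `C(t_01)`
containing `t_23`, `t_34` (`J = SL₃^ε(q)` on the points 2, 3, 4).
Then `G = N_G(⟨J_ij⟩)`, in particular `G = ⟨J_ij⟩` for `G` simple: `Fr5.G0_eq_top`.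
-/

set_option autoImplicit false

namespace Cfsg.Agent.SylowLFive.Frame

open Cfsg Cfsg.Agent.TwoFusion.StronglyEmbeddedBasic

/-! ### vectors -/

/-- unit vectors of `F₂⁵` -/
def ev (i : Fin 5) : Fin 5 → ZMod 2 := fun j => if i = j then 1 else 0

set_option maxRecDepth 100000 in
theorem spec0 : ∀ a b c d i : Fin 5, a ≠ b → a ≠ c → a ≠ d → a ≠ i → b ≠ c → b ≠ d → b ≠ i →
    c ≠ d → c ≠ i → d ≠ i → ∀ j, (ev a + ev b + (ev c + ev d)) j =
      (ev (i+1) + ev (i+2) + (ev (i+3) + ev (i+4))) j := by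
  decide

theorem spec1 : ∀ a b c d : ZMod 2, (∀ k, ![a,b,c,d,a+b+c+d] k = 0) ∨
    (∃ i j, i ≠ j ∧ ∀ k, ![a,b,c,d,a+b+c+d] k = (ev i + ev j) k) ∨
    ∃ i, ∀ k, ![a,b,c,d,a+b+c+d] k = (ev (i+1) + ev (i+2) + (ev (i+3) + ev (i+4))) k := by
  decide

theorem spec2 : ∀ i j k : Fin 5, (ev (i+1) + ev (i+2) + (ev (i+3) + ev (i+4)) + (ev i + ev j)) k =
    (ev (j+1) + ev (j+2) + (ev (j+3) + ev (j+4))) k := by
  decide

/-- The ten involutions `T i j` of the frame, permuted as `S₅`. -/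
structure Fr (G : Type*) [Group G] where
  T : Fin 5 → Fin 5 → G
  T_self : ∀ i, T i i = 1
  T_symm : ∀ i j, T i j = T j i
  T_mul : ∀ i j k, T i j * T j k = T i k
  T_ne : T 0 1 ≠ 1
  perm : ∀ σ : Equiv.Perm (Fin 5), ∃ n : G, ∀ i j, n * T i j * n⁻¹ = T (σ i) (σ j)

namespace Fr

variable {G : Type*} [Group G] (F : Fr G)

/-- the involution `z i`, the product of two disjoint `T`'s avoiding `i` -/
def z (i : Fin 5) : G := F.T (i + 1) (i + 2) * F.T (i + 3) (i + 4)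

/-- elements inducing a permutation of the frame -/
def Ind (n : G) : Prop := ∃ σ : Equiv.Perm (Fin 5), ∀ i j, n * F.T i j * n⁻¹ = F.T (σ i) (σ j)

theorem T_sq (i j : Fin 5) : F.T i j * F.T i j = 1 := by
  conv_lhs => rw [F.T_symm i j]
  rw [← F.T_self j]
  conv_lhs => arg 2; rw [F.T_symm]
  exact F.T_mul j i j

theorem T_inv (i j : Fin 5) : (F.T i j)⁻¹ = F.T i j := inv_eq_of_mul_eq_one_right (F.T_sq i j)

theorem comm1 (i j k : Fin 5) : F.T i j * F.T j k = F.T j k * F.T i j := by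
  rw [F.T_mul, F.T_symm i j, F.T_symm j k, F.T_mul, F.T_symm]

/-- the frame is commutative -/
theorem comm (i j k l : Fin 5) : F.T i j * F.T k l = F.T k l * F.T i j := by
  have h1 : F.T k l = F.T k j * F.T j l := (F.T_mul k j l).symm
  have h2 := F.comm1 i j k
  have h3 := F.comm1 i j l
  rw [h1, F.T_symm k j]
  calc F.T i j * (F.T j k * F.T j l) = (F.T i j * F.T j k) * F.T j l := (mul_assoc _ _ _).symm
    _ = F.T j k * (F.T i j * F.T j l) := by rw [h2, mul_assoc]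
    _ = F.T j k * F.T j l * F.T i j := by rw [h3, mul_assoc]

theorem exists_perm {i j : Fin 5} (h : i ≠ j) :
    ∃ σ : Equiv.Perm (Fin 5), σ 0 = i ∧ σ 1 = j := by
  refine ⟨Equiv.swap 0 i * Equiv.swap 1 (Equiv.swap 0 i j), ?_, ?_⟩
  · have h1 : Equiv.swap 0 i j ≠ 0 := by
      intro h2
      apply h
      have := congrArg (Equiv.swap 0 i) h2
      rw [Equiv.swap_apply_self, Equiv.swap_apply_left] at this
      exact this.symm
    rw [Equiv.Perm.mul_apply, Equiv.swap_apply_of_ne_of_ne (by decide) h1.symm,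
      Equiv.swap_apply_left]
  · rw [Equiv.Perm.mul_apply, Equiv.swap_apply_left, Equiv.swap_apply_self]

theorem exists_conj {i j : Fin 5} (h : i ≠ j) :
    ∃ n, F.Ind n ∧ n * F.T 0 1 * n⁻¹ = F.T i j := by
  obtain ⟨σ, h0, h1⟩ := exists_perm h
  obtain ⟨n, hn⟩ := F.perm σ
  refine ⟨n, ⟨σ, hn⟩, ?_⟩
  rw [hn, h0, h1]

theorem T_ne_one {i j : Fin 5} (h : i ≠ j) : F.T i j ≠ 1 := by
  obtain ⟨n, _, hn⟩ := F.exists_conj h
  rw [← hn]
  intro h1
  apply F.T_ne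
  have h2 : n * F.T 0 1 = n := by
    have := congrArg (· * n) h1
    simpa using this
  exact mul_eq_left.1 h2

theorem orderOf_T {i j : Fin 5} (h : i ≠ j) : orderOf (F.T i j) = 2 :=
  orderOf_eq_two_of_mul_self (F.T_sq i j) (F.T_ne_one h)

/-! ### the parametrisation of `E` by vectors -/

theorem pow_val_add {a : G} (ha : a * a = 1) (x y : ZMod 2) :
    a ^ (x + y).val = a ^ x.val * a ^ y.val := by
  have h : ∀ x : ZMod 2, x = 0 ∨ x = 1 := by decide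
  rcases h x with rfl | rfl <;> rcases h y with rfl | rfl
  · simp
  · simp
  · simp
  · have h2 : (1 + 1 : ZMod 2) = 0 := by decide
    rw [h2]
    simp [ZMod.val_one, ha]

/-- the element of `E` with a given vector -/
def el (v : Fin 5 → ZMod 2) : G :=
  F.T 0 4 ^ (v 0).val * F.T 1 4 ^ (v 1).val * F.T 2 4 ^ (v 2).val * F.T 3 4 ^ (v 3).val

theorem el_congr {v w : Fin 5 → ZMod 2} (h : ∀ i, v i = w i) : F.el v = F.el w := by
  unfold el
  rw [h 0, h 1, h 2, h 3]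

theorem el_zero : F.el 0 = 1 := by simp [el]

theorem el_add (v w : Fin 5 → ZMod 2) : F.el (v + w) = F.el v * F.el w := by
  have c : ∀ i j (m n : ℕ), Commute (F.T i 4 ^ m) (F.T j 4 ^ n) := fun i j m n =>
    Commute.pow_pow (F.comm i 4 j 4) m n
  unfold el
  simp only [Pi.add_apply]
  rw [pow_val_add (F.T_sq 0 4), pow_val_add (F.T_sq 1 4), pow_val_add (F.T_sq 2 4),
    pow_val_add (F.T_sq 3 4)]
  set a := F.T 0 4 ^ (v 0).val
  set b := F.T 1 4 ^ (v 1).val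
  set c' := F.T 2 4 ^ (v 2).val
  set d := F.T 3 4 ^ (v 3).val
  set a' := F.T 0 4 ^ (w 0).val
  set b' := F.T 1 4 ^ (w 1).val
  set c'' := F.T 2 4 ^ (w 2).val
  set d' := F.T 3 4 ^ (w 3).val
  have h1 : a' * b = b * a' := c 0 1 _ _
  have h2 : a' * c' = c' * a' := c 0 2 _ _
  have h3 : a' * d = d * a' := c 0 3 _ _
  have h4 : b' * c' = c' * b' := c 1 2 _ _
  have h5 : b' * d = d * b' := c 1 3 _ _
  have h6 : c'' * d = d * c'' := c 2 3 _ _
  calc a * a' * (b * b') * (c' * c'') * (d * d')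
      = a * (a' * b) * b' * c' * (c'' * d) * d' := by group
    _ = a * b * a' * (b' * c') * d * c'' * d' := by rw [h1, h6]; group
    _ = a * b * (a' * c') * b' * d * c'' * d' := by rw [h4]; group
    _ = a * b * c' * a' * (b' * d) * c'' * d' := by rw [h2]; group
    _ = a * b * c' * (a' * d) * b' * c'' * d' := by rw [h5]; group
    _ = a * b * c' * d * (a' * b' * c'' * d') := by rw [h3]; group

theorem el_ev (i : Fin 5) : F.el (ev i) = F.T i 4 := by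
  fin_cases i <;> simp [el, ev, F.T_self, ZMod.val_one]

theorem el_T (i j : Fin 5) : F.el (ev i + ev j) = F.T i j := by
  rw [el_add, el_ev, el_ev, F.T_symm j 4, F.T_mul]

theorem el_TT (i j k l : Fin 5) : F.el (ev i + ev j + (ev k + ev l)) = F.T i j * F.T k l := by
  rw [el_add, el_T, el_T]

theorem el_z (i : Fin 5) : F.el (ev (i+1) + ev (i+2) + (ev (i+3) + ev (i+4))) = F.z i :=
  F.el_TT _ _ _ _

/-- the product of two disjoint `T`'s is `z i`, `i` the fifth point -/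
theorem TT_eq_z {a b c d i : Fin 5} (h1 : a ≠ b) (h2 : a ≠ c) (h3 : a ≠ d) (h4 : a ≠ i)
    (h5 : b ≠ c) (h6 : b ≠ d) (h7 : b ≠ i) (h8 : c ≠ d) (h9 : c ≠ i) (h0 : d ≠ i) :
    F.T a b * F.T c d = F.z i := by
  rw [← el_TT, ← el_z]
  exact F.el_congr (spec0 a b c d i h1 h2 h3 h4 h5 h6 h7 h8 h9 h0)

theorem z_mul_T (i j : Fin 5) : F.z i * F.T i j = F.z j := by
  rw [← el_z, ← el_z, ← el_T, ← el_add]
  exact F.el_congr (spec2 i j)

theorem z_sq (i : Fin 5) : F.z i * F.z i = 1 := by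
  have h : F.T (i + 1) (i + 2) * F.T (i + 3) (i + 4) * (F.T (i + 1) (i + 2) * F.T (i + 3) (i + 4))
      = 1 := by
    rw [F.comm (i + 1) (i + 2) (i + 3) (i + 4)]
    calc F.T (i + 3) (i + 4) * F.T (i + 1) (i + 2) * (F.T (i + 3) (i + 4) * F.T (i + 1) (i + 2))
        = F.T (i + 3) (i + 4) * (F.T (i + 1) (i + 2) * F.T (i + 3) (i + 4)) * F.T (i + 1) (i + 2)
          := by group
      _ = F.T (i + 3) (i + 4) * (F.T (i + 3) (i + 4) * F.T (i + 1) (i + 2)) * F.T (i + 1) (i + 2)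
          := by rw [F.comm (i + 1) (i + 2) (i + 3) (i + 4)]
      _ = (F.T (i + 3) (i + 4) * F.T (i + 3) (i + 4)) * (F.T (i + 1) (i + 2) *
            F.T (i + 1) (i + 2)) := by group
      _ = 1 := by rw [F.T_sq, F.T_sq, one_mul]
  exact h

theorem z_mul_z (i j : Fin 5) : F.z i * F.z j = F.T i j := by
  rw [← F.z_mul_T i j, ← mul_assoc, F.z_sq, one_mul]

theorem z_comm_T (i j k : Fin 5) : F.z i * F.T j k = F.T j k * F.z i := by
  unfold z
  rw [mul_assoc, F.comm (i + 3) (i + 4) j k, ← mul_assoc, F.comm (i + 1) (i + 2) j k, mul_assoc]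

theorem z_conj {n : G} {σ : Equiv.Perm (Fin 5)}
    (h : ∀ i j, n * F.T i j * n⁻¹ = F.T (σ i) (σ j)) (i : Fin 5) :
    n * F.z i * n⁻¹ = F.z (σ i) := by
  have e : n * F.z i * n⁻¹ = F.T (σ (i + 1)) (σ (i + 2)) * F.T (σ (i + 3)) (σ (i + 4)) := by
    rw [← h, ← h]
    unfold z
    group
  rw [e]
  have inj : ∀ {a b : Fin 5}, a ≠ b → σ a ≠ σ b := fun h => σ.injective.ne h
  have hd : ∀ i : Fin 5, i + 1 ≠ i + 2 ∧ i + 1 ≠ i + 3 ∧ i + 1 ≠ i + 4 ∧ i + 1 ≠ i ∧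
      i + 2 ≠ i + 3 ∧ i + 2 ≠ i + 4 ∧ i + 2 ≠ i ∧ i + 3 ≠ i + 4 ∧ i + 3 ≠ i ∧ i + 4 ≠ i := by
    decide
  obtain ⟨h1, h2, h3, h4, h5, h6, h7, h8, h9, h0⟩ := hd i
  exact F.TT_eq_z (inj h1) (inj h2) (inj h3) (inj h4) (inj h5) (inj h6) (inj h7) (inj h8)
    (inj h9) (inj h0)

/-- all `z i` are conjugate by elements inducing permutations -/
theorem z_exists_conj (i j : Fin 5) : ∃ n, F.Ind n ∧ n * F.z i * n⁻¹ = F.z j := by
  obtain ⟨n, hn⟩ := F.perm (Equiv.swap i j)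
  refine ⟨n, ⟨_, hn⟩, ?_⟩
  rw [F.z_conj hn, Equiv.swap_apply_left]

theorem z_four : F.z 4 = F.T 0 1 * F.T 2 3 := rfl

/-- the elements of `E` -/
theorem el_cases (v : Fin 5 → ZMod 2) :
    F.el v = 1 ∨ (∃ i j, i ≠ j ∧ F.el v = F.T i j) ∨ ∃ i, F.el v = F.z i := by
  have h : F.el v = F.el ![v 0, v 1, v 2, v 3, v 0 + v 1 + v 2 + v 3] := rfl
  rw [h]
  rcases spec1 (v 0) (v 1) (v 2) (v 3) with h | ⟨i, j, hij, h⟩ | ⟨i, h⟩
  · left
    rw [F.el_congr h]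
    exact F.el_zero
  · right; left
    exact ⟨i, j, hij, by rw [F.el_congr h, el_T]⟩
  · right; right
    exact ⟨i, by rw [F.el_congr h, el_z]⟩

/-- the elements of `E` -/
theorem mem_closure {x : G} (hx : x ∈ Subgroup.closure {y | ∃ i j, y = F.T i j}) :
    ∃ v, F.el v = x := by
  induction hx using Subgroup.closure_induction with
  | mem x h => obtain ⟨i, j, rfl⟩ := h; exact ⟨_, F.el_T i j⟩
  | one => exact ⟨0, F.el_zero⟩
  | mul a b _ _ ha hb =>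
    obtain ⟨v, rfl⟩ := ha
    obtain ⟨w, rfl⟩ := hb
    exact ⟨v + w, F.el_add v w⟩
  | inv a _ ha =>
    obtain ⟨v, rfl⟩ := ha
    refine ⟨v, ?_⟩
    rw [eq_inv_iff_mul_eq_one, ← el_add]
    have : v + v = 0 := by
      funext i
      exact CharTwo.add_self_eq_zero (v i)
    rw [this, el_zero]

theorem closure_cases {x : G} (hx : x ∈ Subgroup.closure {y | ∃ i j, y = F.T i j}) :
    x = 1 ∨ (∃ i j, i ≠ j ∧ x = F.T i j) ∨ ∃ i, x = F.z i := by
  obtain ⟨v, rfl⟩ := F.mem_closure hx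
  exact F.el_cases v

/-! ### transport of a subgroup along the frame -/

/-- the conjugates of `H` by the elements moving `t_01` to `t` -/
def tr (H : Subgroup G) (t : G) : Subgroup G :=
  Subgroup.closure {x | ∃ g, g * F.T 0 1 * g⁻¹ = t ∧ ∃ h ∈ H, g * h * g⁻¹ = x}

theorem conj_mem_tr {H : Subgroup G} {t x : G} (n : G) (hx : x ∈ F.tr H t) :
    n * x * n⁻¹ ∈ F.tr H (n * t * n⁻¹) := by
  unfold tr at hx
  induction hx using Subgroup.closure_induction with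
  | mem x h =>
    obtain ⟨g, hg, y, hy, rfl⟩ := h
    exact Subgroup.subset_closure ⟨n * g, by rw [← hg]; group, y, hy, by group⟩
  | one => simp
  | mul a b _ _ ha hb =>
    have : n * (a * b) * n⁻¹ = (n * a * n⁻¹) * (n * b * n⁻¹) := by group
    rw [this]
    exact mul_mem ha hb
  | inv a _ ha =>
    have : n * a⁻¹ * n⁻¹ = (n * a * n⁻¹)⁻¹ := by group
    rw [this]
    exact inv_mem ha

theorem conj_mem_tr_iff {H : Subgroup G} {t x : G} (n : G) :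
    n * x * n⁻¹ ∈ F.tr H (n * t * n⁻¹) ↔ x ∈ F.tr H t := by
  refine ⟨fun h => ?_, F.conj_mem_tr n⟩
  have := F.conj_mem_tr n⁻¹ h
  have e1 : n⁻¹ * (n * x * n⁻¹) * n⁻¹⁻¹ = x := by group
  have e2 : n⁻¹ * (n * t * n⁻¹) * n⁻¹⁻¹ = t := by group
  rwa [e1, e2] at this

/-- an element commuting with `t` normalises `tr H t` -/
theorem mem_tr_of_comm {H : Subgroup G} {t x n : G} (hn : n * t = t * n) (hx : x ∈ F.tr H t) :
    n * x * n⁻¹ ∈ F.tr H t := by
  have := F.conj_mem_tr n hx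
  rwa [hn, mul_inv_cancel_right] at this

/-- `H` is normalised by `C(t_01)` -/
def Nml (H : Subgroup G) : Prop :=
  ∀ c, c * F.T 0 1 = F.T 0 1 * c → ∀ h ∈ H, c * h * c⁻¹ ∈ H

theorem mem_tr_iff {H : Subgroup G} (hH : F.Nml H) {g t x : G} (hg : g * F.T 0 1 * g⁻¹ = t) :
    x ∈ F.tr H t ↔ g⁻¹ * x * g ∈ H := by
  constructor
  · intro hx
    unfold tr at hx
    induction hx using Subgroup.closure_induction with
    | mem x h =>
      obtain ⟨k, hk, y, hy, rfl⟩ := h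
      have h1 : g⁻¹ * k * F.T 0 1 = F.T 0 1 * (g⁻¹ * k) := by
        calc g⁻¹ * k * F.T 0 1 = g⁻¹ * (k * F.T 0 1 * k⁻¹) * k := by group
          _ = g⁻¹ * (g * F.T 0 1 * g⁻¹) * k := by rw [hk, hg]
          _ = _ := by group
      have := hH _ h1 y hy
      have e : g⁻¹ * k * y * (g⁻¹ * k)⁻¹ = g⁻¹ * (k * y * k⁻¹) * g := by group
      rwa [e] at this
    | one => simp
    | mul a b _ _ ha hb =>
      have : g⁻¹ * (a * b) * g = (g⁻¹ * a * g) * (g⁻¹ * b * g) := by group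
      rw [this]
      exact mul_mem ha hb
    | inv a _ ha =>
      have : g⁻¹ * a⁻¹ * g = (g⁻¹ * a * g)⁻¹ := by group
      rw [this]
      exact inv_mem ha
  · intro hx
    exact Subgroup.subset_closure ⟨g, hg, _, hx, by group⟩

theorem mem_tr_self {H : Subgroup G} (hH : F.Nml H) {x : G} :
    x ∈ F.tr H (F.T 0 1) ↔ x ∈ H := by
  have := F.mem_tr_iff hH (g := 1) (t := F.T 0 1) (x := x) (by simp)
  simpa using this

theorem mem_tr_of_conj {H : Subgroup G} {g t x : G} (hg : g * F.T 0 1 * g⁻¹ = t) (hx : x ∈ H) :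
    g * x * g⁻¹ ∈ F.tr H t := Subgroup.subset_closure ⟨g, hg, _, hx, rfl⟩

end Fr

/-- Frame with the closing property: a subgroup containing `C(t_01)` and the elements inducing permutations
of the frame is `G` (`FrC.eq_top` in `TypeLFive.CoreClose` for Sylow 2-subgroups `W ≀ 2`; `Cit.Two.frame_close`
in the classical involution theorem). -/
structure FrX (G : Type*) [Group G] extends Fr G where
  ne : ∀ g, g * T 0 1 * g⁻¹ ≠ T 0 1 * T 2 3
  close : ∀ M : Subgroup G, (∀ c, c * T 0 1 = T 0 1 * c → c ∈ M) → (∀ n, toFr.Ind n → n ∈ M) → M = ⊤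

/-- Frame with a normal subgroup `J` of `C(t_01)` (in `L₅^ε(q)`: `SL₃^ε(q)` on the points
`2, 3, 4`) and the closing property. -/
structure Fr5 (G : Type*) [Group G] extends FrX G where
  /-- the normal subgroup of `C(t_01)` -/
  J : Subgroup G
  J_comm : ∀ j ∈ J, j * T 0 1 = T 0 1 * j
  J_nml : ∀ c, c * T 0 1 = T 0 1 * c → ∀ j ∈ J, c * j * c⁻¹ ∈ J
  T23 : T 2 3 ∈ J
  T34 : T 3 4 ∈ J
  decomp : ∀ c, c * T 0 1 = T 0 1 * c → ∃ j ∈ J, ∃ x, c = j * x ∧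
    x * T 2 3 = T 2 3 * x ∧ x * T 3 4 = T 3 4 * x
  /-- `J_04` (on the points 1, 2, 3) is in `⟨J_01, J_23, J_24, J_34⟩` -/
  cov : ∀ x ∈ toFr.tr J (T 0 4), x ∈ toFr.tr J (T 0 1) ⊔ toFr.tr J (T 2 3) ⊔ toFr.tr J (T 2 4) ⊔
    toFr.tr J (T 3 4)

namespace Fr5

variable {G : Type*} [Group G] (F : Fr5 G)

/-- `G₀ = ⟨J_01, J_23, J_24, J_34⟩` -/
def G0 : Subgroup G := F.toFr.tr F.J (F.T 0 1) ⊔ F.toFr.tr F.J (F.T 2 3) ⊔
  F.toFr.tr F.J (F.T 2 4) ⊔ F.toFr.tr F.J (F.T 3 4)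

/-- `M = N_G(G₀)` -/
def M : Subgroup G := Subgroup.normalizer (F.G0 : Set G)

theorem J_le_G0 {x : G} (hx : x ∈ F.J) : x ∈ F.G0 := by
  have h := (F.toFr.mem_tr_self F.J_nml).2 hx
  exact Subgroup.mem_sup_left (Subgroup.mem_sup_left (Subgroup.mem_sup_left h))

theorem tr01_le : F.toFr.tr F.J (F.T 0 1) ≤ F.G0 :=
  le_trans le_sup_left (le_trans le_sup_left le_sup_left)

theorem tr23_le : F.toFr.tr F.J (F.T 2 3) ≤ F.G0 :=
  le_trans le_sup_right (le_trans le_sup_left le_sup_left)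

theorem tr24_le : F.toFr.tr F.J (F.T 2 4) ≤ F.G0 :=
  le_trans le_sup_right le_sup_left

theorem tr34_le : F.toFr.tr F.J (F.T 3 4) ≤ F.G0 := le_sup_right

/-- criterion: conjugation by `n` maps the four generating subgroups into `G₀` -/
theorem conj_G0 {n : G}
    (h01 : F.toFr.tr F.J (n * F.T 0 1 * n⁻¹) ≤ F.G0)
    (h23 : F.toFr.tr F.J (n * F.T 2 3 * n⁻¹) ≤ F.G0)
    (h24 : F.toFr.tr F.J (n * F.T 2 4 * n⁻¹) ≤ F.G0)
    (h34 : F.toFr.tr F.J (n * F.T 3 4 * n⁻¹) ≤ F.G0) {x : G} (hx : x ∈ F.G0) :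
    n * x * n⁻¹ ∈ F.G0 := by
  have key : F.G0 ≤ F.G0.comap (MulAut.conj n).toMonoidHom := by
    conv_lhs => unfold G0
    refine sup_le (sup_le (sup_le ?_ ?_) ?_) ?_
    · exact fun y hy => h01 (F.toFr.conj_mem_tr n hy)
    · exact fun y hy => h23 (F.toFr.conj_mem_tr n hy)
    · exact fun y hy => h24 (F.toFr.conj_mem_tr n hy)
    · exact fun y hy => h34 (F.toFr.conj_mem_tr n hy)
  exact key hx

theorem mem_M_of {n : G} (h1 : ∀ x ∈ F.G0, n * x * n⁻¹ ∈ F.G0)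
    (h2 : ∀ x ∈ F.G0, n⁻¹ * x * n ∈ F.G0) : n ∈ F.M := by
  unfold M
  rw [Subgroup.mem_normalizer_iff]
  intro x
  refine ⟨h1 x, fun h => ?_⟩
  have := h2 _ h
  have e : n⁻¹ * (n * x * n⁻¹) * n = x := by group
  rwa [e] at this

theorem G0_le_M : F.G0 ≤ F.M := Subgroup.le_normalizer

/-- an element commuting with `t_01`, `t_23`, `t_34` is in `M` -/
theorem comm_mem_M {x : G} (h1 : x * F.T 0 1 = F.T 0 1 * x) (h2 : x * F.T 2 3 = F.T 2 3 * x)
    (h3 : x * F.T 3 4 = F.T 3 4 * x) : x ∈ F.M := by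
  have h4 : x * F.T 2 4 = F.T 2 4 * x := by
    rw [← F.T_mul 2 3 4, ← mul_assoc, h2, mul_assoc, h3, mul_assoc]
  have aux : ∀ {y : G}, y * F.T 0 1 = F.T 0 1 * y → y * F.T 2 3 = F.T 2 3 * y →
      y * F.T 3 4 = F.T 3 4 * y → y * F.T 2 4 = F.T 2 4 * y → ∀ w ∈ F.G0, y * w * y⁻¹ ∈ F.G0 := by
    intro y h1 h2 h3 h4 w hw
    apply F.conj_G0 _ _ _ _ hw
    · rw [h1, mul_inv_cancel_right]; exact F.tr01_le
    · rw [h2, mul_inv_cancel_right]; exact F.tr23_le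
    · rw [h4, mul_inv_cancel_right]; exact F.tr24_le
    · rw [h3, mul_inv_cancel_right]; exact F.tr34_le
  have inv : ∀ {a b : G}, a * b = b * a → a⁻¹ * b = b * a⁻¹ := fun {a b} h => by
    calc a⁻¹ * b = a⁻¹ * (b * a) * a⁻¹ := by group
      _ = a⁻¹ * (a * b) * a⁻¹ := by rw [h]
      _ = b * a⁻¹ := by group
  refine F.mem_M_of (aux h1 h2 h3 h4) ?_
  intro w hw
  have := aux (inv h1) (inv h2) (inv h3) (inv h4) w hw
  rwa [inv_inv] at this

/-- `C(t_01) ≤ M` -/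
theorem C_le_M {c : G} (hc : c * F.T 0 1 = F.T 0 1 * c) : c ∈ F.M := by
  obtain ⟨j, hj, x, rfl, h1, h2⟩ := F.decomp c hc
  refine mul_mem (F.G0_le_M (F.J_le_G0 hj)) (F.comm_mem_M ?_ h1 h2)
  have hj' := F.J_comm j hj
  have : j * (x * F.T 0 1) = j * (F.T 0 1 * x) := by
    rw [← mul_assoc, hc, ← mul_assoc, ← mul_assoc, hj']
  exact mul_left_cancel this

theorem inv_ind {n : G} {σ : Equiv.Perm (Fin 5)}
    (h : ∀ i j, n * F.T i j * n⁻¹ = F.T (σ i) (σ j)) (i j : Fin 5) :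
    n⁻¹ * F.T i j * n⁻¹⁻¹ = F.T (σ.symm i) (σ.symm j) := by
  have := h (σ.symm i) (σ.symm j)
  rw [Equiv.apply_symm_apply, Equiv.apply_symm_apply] at this
  rw [← this]
  group

/-- the swap of `0, i` and of `4, j` (`i ≤ 1 < j`) maps the four duads to the four duads -/
theorem duads (i j : Fin 5) (hi : i = 0 ∨ i = 1) (hj : j = 2 ∨ j = 3 ∨ j = 4) :
    F.toFr.tr F.J (F.T i j) ≤ F.G0 := by
  obtain ⟨n, hn⟩ := F.perm (Equiv.swap 0 i * Equiv.swap 4 j)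
  have hs : ∀ a b, F.toFr.tr F.J (F.T a b) ≤ F.G0 → F.toFr.tr F.J (F.T b a) ≤ F.G0 := by
    intro a b h; rwa [F.T_symm b a]
  have h10 := hs 0 1 F.tr01_le
  have h32 := hs 2 3 F.tr23_le
  have h42 := hs 2 4 F.tr24_le
  have h43 := hs 3 4 F.tr34_le
  intro x hx
  have e : n * F.T 0 4 * n⁻¹ = F.T i j := by
    rw [hn]
    rcases hi with rfl | rfl <;> rcases hj with rfl | rfl | rfl <;> rfl
  rw [← e] at hx
  have h1 : n⁻¹ * x * n ∈ F.toFr.tr F.J (F.T 0 4) := by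
    rw [← F.toFr.conj_mem_tr_iff n]
    have : n * (n⁻¹ * x * n) * n⁻¹ = x := by group
    rwa [this]
  have h2 := F.cov _ h1
  have h3 : n * (n⁻¹ * x * n) * n⁻¹ ∈ F.G0 := by
    apply F.conj_G0 _ _ _ _ h2
    · rw [hn]
      rcases hi with rfl | rfl <;> rcases hj with rfl | rfl | rfl <;>
      first
        | exact F.tr01_le
        | exact h10
    · rw [hn]
      rcases hi with rfl | rfl <;> rcases hj with rfl | rfl | rfl <;>
      first
        | exact F.tr23_le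
        | exact h32
        | exact F.tr24_le
        | exact h42
        | exact F.tr34_le
        | exact h43
    · rw [hn]
      rcases hi with rfl | rfl <;> rcases hj with rfl | rfl | rfl <;>
      first
        | exact F.tr23_le
        | exact h32
        | exact F.tr24_le
        | exact h42
    · rw [hn]
      rcases hi with rfl | rfl <;> rcases hj with rfl | rfl | rfl <;>
      first
        | exact F.tr23_le
        | exact h32
        | exact F.tr24_le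
        | exact h42
        | exact F.tr34_le
        | exact h43
  have e3 : n * (n⁻¹ * x * n) * n⁻¹ = x := by group
  rwa [e3] at h3

/-- all ten `J_ij` are in `G₀` -/
theorem tr_le (i j : Fin 5) (h : i ≠ j) : F.toFr.tr F.J (F.T i j) ≤ F.G0 := by
  have hs : ∀ a b, F.toFr.tr F.J (F.T a b) ≤ F.G0 → F.toFr.tr F.J (F.T b a) ≤ F.G0 := by
    intro a b h; rwa [F.T_symm b a]
  have key : ∀ i j : Fin 5, i ≠ j → (i = 0 ∧ j = 1) ∨ (i = 1 ∧ j = 0) ∨ (i = 2 ∧ j = 3) ∨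
      (i = 3 ∧ j = 2) ∨ (i = 2 ∧ j = 4) ∨ (i = 4 ∧ j = 2) ∨ (i = 3 ∧ j = 4) ∨
      (i = 4 ∧ j = 3) ∨ ((i = 0 ∨ i = 1) ∧ (j = 2 ∨ j = 3 ∨ j = 4)) ∨
      ((j = 0 ∨ j = 1) ∧ (i = 2 ∨ i = 3 ∨ i = 4)) := by decide
  rcases key i j h with ⟨rfl, rfl⟩ | ⟨rfl, rfl⟩ | ⟨rfl, rfl⟩ | ⟨rfl, rfl⟩ | ⟨rfl, rfl⟩ |
    ⟨rfl, rfl⟩ | ⟨rfl, rfl⟩ | ⟨rfl, rfl⟩ | ⟨h1, h2⟩ | ⟨h1, h2⟩
  · exact F.tr01_le
  · exact hs _ _ F.tr01_le
  · exact F.tr23_le
  · exact hs _ _ F.tr23_le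
  · exact F.tr24_le
  · exact hs _ _ F.tr24_le
  · exact F.tr34_le
  · exact hs _ _ F.tr34_le
  · exact F.duads i j h1 h2
  · exact hs _ _ (F.duads j i h1 h2)

/-- the elements inducing permutations are in `M` -/
theorem Ind_mem_M {n : G} (hn : F.toFr.Ind n) : n ∈ F.M := by
  obtain ⟨σ, hσ⟩ := hn
  refine F.mem_M_of (fun x hx => ?_) (fun x hx => ?_)
  · refine F.conj_G0 ?_ ?_ ?_ ?_ hx <;> rw [hσ]
    · exact F.tr_le _ _ (σ.injective.ne (by decide))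
    · exact F.tr_le _ _ (σ.injective.ne (by decide))
    · exact F.tr_le _ _ (σ.injective.ne (by decide))
    · exact F.tr_le _ _ (σ.injective.ne (by decide))
  · have := F.conj_G0 (n := n⁻¹) ?_ ?_ ?_ ?_ hx
    · rwa [inv_inv] at this
    all_goals rw [F.inv_ind hσ]
    · exact F.tr_le _ _ (σ.symm.injective.ne (by decide))
    · exact F.tr_le _ _ (σ.symm.injective.ne (by decide))
    · exact F.tr_le _ _ (σ.symm.injective.ne (by decide))
    · exact F.tr_le _ _ (σ.symm.injective.ne (by decide))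

theorem T_mem_G0 (i j : Fin 5) : F.T i j ∈ F.G0 := by
  by_cases h : i = j
  · rw [h, F.T_self]; exact one_mem _
  · obtain ⟨n, hn, h1⟩ : ∃ n, F.toFr.Ind n ∧ n * F.T 2 3 * n⁻¹ = F.T i j := by
      obtain ⟨n, hn, h1⟩ := F.toFr.exists_conj h
      obtain ⟨m, hm, h2⟩ := F.toFr.exists_conj (show (2 : Fin 5) ≠ 3 by decide)
      refine ⟨n * m⁻¹, ?_, ?_⟩
      · obtain ⟨σ, hσ⟩ := hn
        obtain ⟨τ, hτ⟩ := hm
        refine ⟨σ * τ.symm, fun a b => ?_⟩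
        have := F.inv_ind hτ a b
        calc n * m⁻¹ * F.T a b * (n * m⁻¹)⁻¹ = n * (m⁻¹ * F.T a b * m⁻¹⁻¹) * n⁻¹ := by group
          _ = n * F.T (τ.symm a) (τ.symm b) * n⁻¹ := by rw [this]
          _ = _ := by rw [hσ]; rfl
      · rw [← h2, ← h1]; group
    have h2 : F.T 2 3 ∈ F.G0 := F.J_le_G0 F.T23
    have h3 := (Subgroup.mem_normalizer_iff.1 (F.Ind_mem_M hn) _).1 h2
    rwa [h1] at h3

theorem z_mem_G0 (i : Fin 5) : F.z i ∈ F.G0 := mul_mem (F.T_mem_G0 _ _) (F.T_mem_G0 _ _)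

theorem z_ne_one (i : Fin 5) : F.z i ≠ 1 := by
  intro h
  obtain ⟨n, _, hn⟩ := F.z_exists_conj i 4
  rw [h, mul_one, mul_inv_cancel] at hn
  -- `z 4 = 1` means `t_01 = t_23`
  have h1 : F.T 0 1 = F.T 2 3 := by
    have h2 : F.T 0 1 * F.T 2 3 = 1 := by rw [← F.z_four, hn]
    rw [← F.T_inv 2 3]
    exact eq_inv_of_mul_eq_one_left h2
  obtain ⟨n, hn2, hn1⟩ := F.toFr.exists_conj (show (1 : Fin 5) ≠ 3 by decide)
  -- then all `T i j = T k l` for disjoint duads, by symmetry `T 0 1 = T 2 3 = T 0 4`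
  obtain ⟨m, hm⟩ := F.perm (Equiv.swap 1 4)
  have h3 : F.T 0 4 = F.T 2 3 := by
    have a1 := hm 0 1
    have a2 := hm 2 3
    have e1 : (Equiv.swap 1 4 : Equiv.Perm (Fin 5)) 0 = 0 := by decide
    have e2 : (Equiv.swap 1 4 : Equiv.Perm (Fin 5)) 1 = 4 := by decide
    have e3 : (Equiv.swap 1 4 : Equiv.Perm (Fin 5)) 2 = 2 := by decide
    have e4 : (Equiv.swap 1 4 : Equiv.Perm (Fin 5)) 3 = 3 := by decide
    rw [e1, e2] at a1
    rw [e3, e4] at a2
    rw [← a1, ← a2, h1]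
  have h4 : F.T 1 4 = 1 := by
    rw [← F.T_mul 1 0 4, F.T_symm 1 0, h1, h3, F.T_sq]
  exact F.toFr.T_ne_one (by decide) h4

theorem orderOf_z (i : Fin 5) : orderOf (F.z i) = 2 :=
  orderOf_eq_two_of_mul_self (F.z_sq i) (F.z_ne_one i)

theorem conj_T {i j : Fin 5} (h : i ≠ j) : ∃ m ∈ F.M, m * F.T 0 1 * m⁻¹ = F.T i j := by
  obtain ⟨n, hn, h1⟩ := F.toFr.exists_conj h
  exact ⟨n, F.Ind_mem_M hn, h1⟩

theorem conj_z (i : Fin 5) : ∃ m ∈ F.M, m * F.z 4 * m⁻¹ = F.z i := by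
  obtain ⟨n, hn, h1⟩ := F.z_exists_conj 4 i
  exact ⟨n, F.Ind_mem_M hn, h1⟩

/-- no element is conjugate to `t_ij` and to `z_4` -/
theorem not_both {u : G} (h1 : ∃ g : G, g * F.T 0 1 * g⁻¹ = u)
    (h2 : ∃ g : G, g * F.z 4 * g⁻¹ = u) : False := by
  obtain ⟨g, hg⟩ := h1
  obtain ⟨k, hk⟩ := h2
  apply F.ne (k⁻¹ * g)
  rw [← F.z_four]
  calc k⁻¹ * g * F.T 0 1 * (k⁻¹ * g)⁻¹ = k⁻¹ * (g * F.T 0 1 * g⁻¹) * k := by group
    _ = k⁻¹ * (k * F.z 4 * k⁻¹) * k := by rw [hg, hk]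
    _ = F.z 4 := by group

/-- **`N_G(G₀) = G`** -/
theorem M_eq_top : F.M = ⊤ := F.close F.M (fun _ hc => F.C_le_M hc) (fun _ hn => F.Ind_mem_M hn)

theorem G0_normal : F.G0.Normal := Subgroup.normalizer_eq_top_iff.1 F.M_eq_top

/-- **`G = ⟨J_01, J_23, J_24, J_34⟩`** for `G` simple. -/
theorem G0_eq_top [IsSimpleGroup G] : F.G0 = ⊤ := by
  have := F.G0_normal
  rcases Subgroup.Normal.eq_bot_or_eq_top (H := F.G0) this with h | h
  · exfalso
    have h1 := F.T_mem_G0 0 1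
    rw [h, Subgroup.mem_bot] at h1
    exact F.T_ne h1
  · exact h

end Fr5

end Cfsg.Agent.SylowLFive.Frame
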