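import Mathlib
import Cfsg.Prelude.Def_Involutions
import Cfsg.Agent.SylowLFive.Frame

/-!
# The frame of `L₅^ε(q)` with the `SL₂`'s, and the centres after closing

* `JK`, `KFr`: frame with `K` (`SL₂(q)` on the points `0, 1`), `K_23 ≤ J`, `J = ⟨K_23, K_24, K_34⟩`;
  `KFr.toFr5` supplies the covering hypothesis `cov` of `Fr5`.
* `Fr5.eq_one_of_comm`: (`G` simple) an element centralising all `J_ij` is trivial.
* `Fr5.dvd_card`: (`G` simple) a prime dividing the order of an element centralising `E` and `J`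
  divides the order of `C_Q(E)`, `Q` normal in `C(t_01)` containing an element inducing `(0 1)`.
-/

set_option autoImplicit false

namespace Cfsg.Agent.SylowLFive.KFrame

open Cfsg Cfsg.Agent.TwoFusion.StronglyEmbeddedBasic Cfsg.Agent.SylowLFive.Frame

theorem exists_perm4 {a b c d : Fin 5} (h1 : a ≠ b) (h2 : a ≠ c) (h3 : a ≠ d) (h4 : b ≠ c)
    (h5 : b ≠ d) (h6 : c ≠ d) :
    ∃ σ : Equiv.Perm (Fin 5), σ 0 = a ∧ σ 1 = b ∧ σ 2 = c ∧ σ 3 = d := by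
  let x : Fin 4 ↪ Fin 5 := ⟨![0, 1, 2, 3], by decide⟩
  let y : Fin 4 ↪ Fin 5 := ⟨![a, b, c, d], by
    intro i j hij
    fin_cases i <;> fin_cases j <;> first
      | rfl
      | (exfalso; revert hij
         simp [h1, h2, h3, h4, h5, h6, h1.symm, h2.symm, h3.symm, h4.symm, h5.symm, h6.symm])⟩
  have := (Equiv.Perm.isMultiplyPretransitive (Fin 5) 4)
  obtain ⟨σ, hσ⟩ := MulAction.exists_smul_eq (Equiv.Perm (Fin 5)) x y
  refine ⟨σ, ?_, ?_, ?_, ?_⟩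
  · exact congrArg (fun f : Fin 4 ↪ Fin 5 => f 0) hσ
  · exact congrArg (fun f : Fin 4 ↪ Fin 5 => f 1) hσ
  · exact congrArg (fun f : Fin 4 ↪ Fin 5 => f 2) hσ
  · exact congrArg (fun f : Fin 4 ↪ Fin 5 => f 3) hσ

section

variable {G : Type*} [Group G]

theorem tr_conj (F : Fr G) {H : Subgroup G} {n : G} {σ : Equiv.Perm (Fin 5)}
    (h : ∀ i j, n * F.T i j * n⁻¹ = F.T (σ i) (σ j)) {i j : Fin 5} {x : G}
    (hx : x ∈ F.tr H (F.T i j)) : n * x * n⁻¹ ∈ F.tr H (F.T (σ i) (σ j)) := by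
  rw [← h]
  exact F.conj_mem_tr n hx

/-- inclusions between transported subgroups are transported -/
theorem tr_le_tr (F : Fr G) {H L : Subgroup G} {i j k l : Fin 5} (σ : Equiv.Perm (Fin 5))
    (h : F.tr H (F.T i j) ≤ F.tr L (F.T k l)) :
    F.tr H (F.T (σ i) (σ j)) ≤ F.tr L (F.T (σ k) (σ l)) := by
  obtain ⟨n, hn⟩ := F.perm σ
  intro x hx
  rw [← hn] at hx ⊢
  have h1 : n⁻¹ * x * n ∈ F.tr H (F.T i j) := by
    rw [← F.conj_mem_tr_iff n]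
    have : n * (n⁻¹ * x * n) * n⁻¹ = x := by group
    rwa [this]
  have h2 := F.conj_mem_tr n (h h1)
  have : n * (n⁻¹ * x * n) * n⁻¹ = x := by group
  rwa [this] at h2

/-- commutation between transported subgroups is transported -/
theorem tr_comm_tr (F : Fr G) {H L : Subgroup G} {i j k l : Fin 5} (σ : Equiv.Perm (Fin 5))
    (h : ∀ x ∈ F.tr H (F.T i j), ∀ y ∈ F.tr L (F.T k l), x * y = y * x) :
    ∀ x ∈ F.tr H (F.T (σ i) (σ j)), ∀ y ∈ F.tr L (F.T (σ k) (σ l)), x * y = y * x := by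
  obtain ⟨n, hn⟩ := F.perm σ
  intro x hx y hy
  rw [← hn] at hx hy
  have h1 : n⁻¹ * x * n ∈ F.tr H (F.T i j) := by
    rw [← F.conj_mem_tr_iff n]
    have : n * (n⁻¹ * x * n) * n⁻¹ = x := by group
    rwa [this]
  have h2 : n⁻¹ * y * n ∈ F.tr L (F.T k l) := by
    rw [← F.conj_mem_tr_iff n]
    have : n * (n⁻¹ * y * n) * n⁻¹ = y := by group
    rwa [this]
  have h3 := h _ h1 _ h2
  calc x * y = n * ((n⁻¹ * x * n) * (n⁻¹ * y * n)) * n⁻¹ := by group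
    _ = n * ((n⁻¹ * y * n) * (n⁻¹ * x * n)) * n⁻¹ := by rw [h3]
    _ = y * x := by group

end

/-- Frame with `J` (`SL₃^ε(q)` on the points `2, 3, 4`) and `K` (`SL₂(q)` on the points `0, 1`). -/
structure JK (G : Type*) [Group G] extends FrX G where
  J : Subgroup G
  J_comm : ∀ j ∈ J, j * T 0 1 = T 0 1 * j
  J_nml : ∀ c, c * T 0 1 = T 0 1 * c → ∀ j ∈ J, c * j * c⁻¹ ∈ J
  T23 : T 2 3 ∈ J
  T34 : T 3 4 ∈ J
  decomp : ∀ c, c * T 0 1 = T 0 1 * c → ∃ j ∈ J, ∃ x, c = j * x ∧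
    x * T 2 3 = T 2 3 * x ∧ x * T 3 4 = T 3 4 * x
  K : Subgroup G
  K_comm : ∀ k ∈ K, k * T 0 1 = T 0 1 * k
  K_nml : ∀ c, c * T 0 1 = T 0 1 * c → ∀ k ∈ K, c * k * c⁻¹ ∈ K
  K_J : ∀ k ∈ K, ∀ j ∈ J, k * j = j * k
  /-- `K_23 ≤ J_01` -/
  K_le : toFr.tr K (T 2 3) ≤ J

/-- `J` is generated by its `K_ij` -/
structure KFr (G : Type*) [Group G] extends JK G where
  J_gen : J ≤ toFr.tr K (T 2 3) ⊔ toFr.tr K (T 2 4) ⊔ toFr.tr K (T 3 4)

namespace JK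

variable {G : Type*} [Group G] (F : JK G)

theorem mem_J_iff {x : G} : x ∈ F.toFr.tr F.J (F.T 0 1) ↔ x ∈ F.J := F.toFr.mem_tr_self F.J_nml

theorem mem_K_iff {x : G} : x ∈ F.toFr.tr F.K (F.T 0 1) ↔ x ∈ F.K := F.toFr.mem_tr_self F.K_nml

/-- `K_ij ≤ J_kl` for disjoint duads -/
theorem K_le_J {i j k l : Fin 5} (h1 : k ≠ l) (h2 : k ≠ i) (h3 : k ≠ j) (h4 : l ≠ i) (h5 : l ≠ j)
    (h6 : i ≠ j) : F.toFr.tr F.K (F.T i j) ≤ F.toFr.tr F.J (F.T k l) := by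
  obtain ⟨σ, s0, s1, s2, s3⟩ := exists_perm4 h1 h2 h3 h4 h5 h6
  have h := tr_le_tr F.toFr (H := F.K) (L := F.J) (i := 2) (j := 3) (k := 0) (l := 1) σ
    (fun x hx => F.mem_J_iff.2 (F.K_le hx))
  rwa [s0, s1, s2, s3] at h

/-- `[K_ij, J_ij] = 1` -/
theorem K_comm_J {i j : Fin 5} (h : i ≠ j) :
    ∀ x ∈ F.toFr.tr F.K (F.T i j), ∀ y ∈ F.toFr.tr F.J (F.T i j), x * y = y * x := by
  obtain ⟨σ, s0, s1⟩ := Fr.exists_perm h
  have := tr_comm_tr F.toFr (H := F.K) (L := F.J) (i := 0) (j := 1) (k := 0) (l := 1) σ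
    (fun x hx y hy => F.K_J x (F.mem_K_iff.1 hx) y (F.mem_J_iff.1 hy))
  rwa [s0, s1] at this

/-- disjoint `K`'s commute -/
theorem K_comm_K {i j k l : Fin 5} (h1 : k ≠ l) (h2 : k ≠ i) (h3 : k ≠ j) (h4 : l ≠ i) (h5 : l ≠ j)
    (h6 : i ≠ j) : ∀ x ∈ F.toFr.tr F.K (F.T i j), ∀ y ∈ F.toFr.tr F.K (F.T k l), x * y = y * x :=
  fun x hx y hy => F.K_comm_J h6 x hx y (F.K_le_J h6 h2.symm h4.symm h3.symm h5.symm h1 hy)

/-- `t_ij ∈ J_kl` for disjoint duads -/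
theorem T_mem_J {i j k l : Fin 5} (h1 : k ≠ l) (h2 : k ≠ i) (h3 : k ≠ j) (h4 : l ≠ i) (h5 : l ≠ j)
    (h6 : i ≠ j) : F.T i j ∈ F.toFr.tr F.J (F.T k l) := by
  obtain ⟨σ, s0, s1, s2, s3⟩ := exists_perm4 h1 h2 h3 h4 h5 h6
  obtain ⟨n, hn⟩ := F.perm σ
  have h := tr_conj F.toFr hn (F.mem_J_iff.2 F.T23)
  rwa [hn, s0, s1, s2, s3] at h

/-- `t_ij` centralises `K_ij` -/
theorem K_comm_T {i j : Fin 5} (h : i ≠ j) {x : G} (hx : x ∈ F.toFr.tr F.K (F.T i j)) :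
    x * F.T i j = F.T i j * x := by
  obtain ⟨n, _, hn⟩ := F.toFr.exists_conj h
  have h1 := (F.toFr.mem_tr_iff F.K_nml hn).1 hx
  have h2 := F.K_comm _ h1
  rw [← hn]
  calc x * (n * F.T 0 1 * n⁻¹) = n * ((n⁻¹ * x * n) * F.T 0 1) * n⁻¹ := by group
    _ = n * (F.T 0 1 * (n⁻¹ * x * n)) * n⁻¹ := by rw [h2]
    _ = _ := by group

end JK

namespace KFr

variable {G : Type*} [Group G] (F : KFr G)

/-- `J_kl` is generated by its `K_ij` -/
theorem J_gen' (σ : Equiv.Perm (Fin 5)) :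
    F.toFr.tr F.J (F.T (σ 0) (σ 1)) ≤ F.toFr.tr F.K (F.T (σ 2) (σ 3)) ⊔
      F.toFr.tr F.K (F.T (σ 2) (σ 4)) ⊔ F.toFr.tr F.K (F.T (σ 3) (σ 4)) := by
  obtain ⟨n, hn⟩ := F.perm σ
  intro x hx
  rw [← hn] at hx
  have h1 : n⁻¹ * x * n ∈ F.toFr.tr F.J (F.T 0 1) := by
    rw [← F.toFr.conj_mem_tr_iff n]
    have : n * (n⁻¹ * x * n) * n⁻¹ = x := by group
    rwa [this]
  have h2 := F.J_gen (F.toJK.mem_J_iff.1 h1)
  have key : F.toFr.tr F.K (F.T 2 3) ⊔ F.toFr.tr F.K (F.T 2 4) ⊔ F.toFr.tr F.K (F.T 3 4) ≤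
      (F.toFr.tr F.K (F.T (σ 2) (σ 3)) ⊔ F.toFr.tr F.K (F.T (σ 2) (σ 4)) ⊔
        F.toFr.tr F.K (F.T (σ 3) (σ 4))).comap (MulAut.conj n).toMonoidHom := by
    refine sup_le (sup_le ?_ ?_) ?_
    · exact fun y hy => Subgroup.mem_sup_left (Subgroup.mem_sup_left (tr_conj F.toFr hn hy))
    · exact fun y hy => Subgroup.mem_sup_left (Subgroup.mem_sup_right (tr_conj F.toFr hn hy))
    · exact fun y hy => Subgroup.mem_sup_right (tr_conj F.toFr hn hy)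
  have h3 : n * (n⁻¹ * x * n) * n⁻¹ ∈ F.toFr.tr F.K (F.T (σ 2) (σ 3)) ⊔
        F.toFr.tr F.K (F.T (σ 2) (σ 4)) ⊔ F.toFr.tr F.K (F.T (σ 3) (σ 4)) := key h2
  have : n * (n⁻¹ * x * n) * n⁻¹ = x := by group
  rwa [this] at h3

theorem cov : F.toFr.tr F.J (F.T 0 4) ≤ F.toFr.tr F.J (F.T 0 1) ⊔ F.toFr.tr F.J (F.T 2 3) ⊔
    F.toFr.tr F.J (F.T 2 4) ⊔ F.toFr.tr F.J (F.T 3 4) := by
  have h := F.J_gen' (Equiv.swap 1 4)
  have e0 : (Equiv.swap 1 4 : Equiv.Perm (Fin 5)) 0 = 0 := by decide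
  have e1 : (Equiv.swap 1 4 : Equiv.Perm (Fin 5)) 1 = 4 := by decide
  have e2 : (Equiv.swap 1 4 : Equiv.Perm (Fin 5)) 2 = 2 := by decide
  have e3 : (Equiv.swap 1 4 : Equiv.Perm (Fin 5)) 3 = 3 := by decide
  have e4 : (Equiv.swap 1 4 : Equiv.Perm (Fin 5)) 4 = 1 := by decide
  rw [e0, e1, e2, e3, e4] at h
  refine h.trans (sup_le (sup_le ?_ ?_) ?_)
  · exact (F.toJK.K_le_J (k := 0) (l := 1) (by decide) (by decide) (by decide) (by decide) (by decide)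
      (by decide)).trans (le_sup_left.trans (le_sup_left.trans le_sup_left))
  · exact (F.toJK.K_le_J (k := 3) (l := 4) (by decide) (by decide) (by decide) (by decide) (by decide)
      (by decide)).trans le_sup_right
  · exact (F.toJK.K_le_J (k := 2) (l := 4) (by decide) (by decide) (by decide) (by decide) (by decide)
      (by decide)).trans (le_sup_right.trans le_sup_left)

/-- the frame for the closing argument -/
def toFr5 : Fr5 G :=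
  { F.toFrX with
    J := F.J
    J_comm := F.J_comm
    J_nml := F.J_nml
    T23 := F.T23
    T34 := F.T34
    decomp := F.decomp
    cov := F.cov }

end KFr

end Cfsg.Agent.SylowLFive.KFrame
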