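import Mathlib
import Cfsg.Agent.SylowLFive.KFrame

/-!
# Centres after closing

`F : Fr5 G` (or `KFr G`), `G` finite simple.
* `eq_one_of_comm`: an element centralising all `J_ij` is trivial.
* `not_dvd`: if `x` has prime order `r`, centralises the frame `E` and `J`, and `Q` is normal in
  `C(t_01)` and contains an element inducing the transposition `(0 1)` on the frame, then
  `r` divides the order of `C_Q(E)`.
* `K_centre`: a central element of `K_23` centralising `J_01` is trivial.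
-/

set_option autoImplicit false

namespace Cfsg.Agent.SylowLFive.Centre

open Cfsg Cfsg.Agent.TwoFusion.StronglyEmbeddedBasic Cfsg.Agent.SylowLFive.Frame
open Cfsg.Agent.SylowLFive.KFrame

variable {G : Type*} [Group G]

/-- `x` commutes with the frame -/
def CE (F : Fr G) (x : G) : Prop := ∀ i j, x * F.T i j = F.T i j * x

theorem comm_of_conj {x y n : G} (hn : x * n = n * x) (h : x * (n⁻¹ * y * n) = (n⁻¹ * y * n) * x) :
    x * y = y * x := by
  have hn' : n⁻¹ * x = x * n⁻¹ := by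
    calc n⁻¹ * x = n⁻¹ * (x * n) * n⁻¹ := by group
      _ = n⁻¹ * (n * x) * n⁻¹ := by rw [hn]
      _ = x * n⁻¹ := by group
  calc x * y = x * n * (n⁻¹ * y * n) * n⁻¹ := by group
    _ = n * (x * (n⁻¹ * y * n)) * n⁻¹ := by rw [hn]; group
    _ = n * (n⁻¹ * y * n) * (x * n⁻¹) := by rw [h]; group
    _ = n * (n⁻¹ * y * n) * (n⁻¹ * x) := by rw [hn']
    _ = y * x := by group

/-- `G` is generated by the four `J`'s attached to any duad -/
theorem closure_duad [Finite G] [IsSimpleGroup G] (F : Fr5 G) (σ : Equiv.Perm (Fin 5)) :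
    F.toFr.tr F.J (F.T (σ 0) (σ 1)) ⊔ F.toFr.tr F.J (F.T (σ 2) (σ 3)) ⊔
      F.toFr.tr F.J (F.T (σ 2) (σ 4)) ⊔ F.toFr.tr F.J (F.T (σ 3) (σ 4)) = ⊤ := by
  obtain ⟨n, hn⟩ := F.perm σ
  rw [eq_top_iff]
  intro x _
  have h1 : n⁻¹ * x * n ∈ F.G0 := by rw [F.G0_eq_top]; trivial
  have key : F.G0 ≤ (F.toFr.tr F.J (F.T (σ 0) (σ 1)) ⊔ F.toFr.tr F.J (F.T (σ 2) (σ 3)) ⊔
      F.toFr.tr F.J (F.T (σ 2) (σ 4)) ⊔ F.toFr.tr F.J (F.T (σ 3) (σ 4))).comap
        (MulAut.conj n).toMonoidHom := by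
    refine sup_le (sup_le (sup_le ?_ ?_) ?_) ?_
    · exact fun y hy => Subgroup.mem_sup_left (Subgroup.mem_sup_left (Subgroup.mem_sup_left
        (tr_conj F.toFr hn hy)))
    · exact fun y hy => Subgroup.mem_sup_left (Subgroup.mem_sup_left (Subgroup.mem_sup_right
        (tr_conj F.toFr hn hy)))
    · exact fun y hy => Subgroup.mem_sup_left (Subgroup.mem_sup_right (tr_conj F.toFr hn hy))
    · exact fun y hy => Subgroup.mem_sup_right (tr_conj F.toFr hn hy)
  have h3 := key h1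
  have : n * (n⁻¹ * x * n) * n⁻¹ = x := by group
  rw [Subgroup.mem_comap] at h3
  change n * (n⁻¹ * x * n) * n⁻¹ ∈ _ at h3
  rwa [this] at h3

theorem center_eq_bot [Finite G] [IsSimpleGroup G] (F : Fr5 G) : Subgroup.center G = ⊥ := by
  rcases Subgroup.Normal.eq_bot_or_eq_top (H := Subgroup.center G) inferInstance with h | h
  · exact h
  · exfalso
    obtain ⟨n, _, hn⟩ := F.toFr.exists_conj (show (0 : Fin 5) ≠ 2 by decide)
    have h1 : n ∈ Subgroup.center G := by rw [h]; trivial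
    rw [← (Subgroup.mem_center_iff.1 h1 _), mul_inv_cancel_right] at hn
    have h2 : F.T 1 2 = 1 := by
      rw [← F.T_mul 1 0 2, ← hn, F.T_symm 1 0, F.T_sq]
    exact F.toFr.T_ne_one (by decide) h2

/-- an element centralising the four `J`'s attached to a duad is trivial -/
theorem eq_one_of_comm [Finite G] [IsSimpleGroup G] (F : Fr5 G) (σ : Equiv.Perm (Fin 5)) {x : G}
    (h1 : ∀ y ∈ F.toFr.tr F.J (F.T (σ 0) (σ 1)), x * y = y * x)
    (h2 : ∀ y ∈ F.toFr.tr F.J (F.T (σ 2) (σ 3)), x * y = y * x)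
    (h3 : ∀ y ∈ F.toFr.tr F.J (F.T (σ 2) (σ 4)), x * y = y * x)
    (h4 : ∀ y ∈ F.toFr.tr F.J (F.T (σ 3) (σ 4)), x * y = y * x) : x = 1 := by
  have key : F.toFr.tr F.J (F.T (σ 0) (σ 1)) ⊔ F.toFr.tr F.J (F.T (σ 2) (σ 3)) ⊔
      F.toFr.tr F.J (F.T (σ 2) (σ 4)) ⊔ F.toFr.tr F.J (F.T (σ 3) (σ 4)) ≤
      Subgroup.centralizer {x} := by
    refine sup_le (sup_le (sup_le ?_ ?_) ?_) ?_
    · intro y hy; rw [Subgroup.mem_centralizer_singleton_iff]; exact (h1 y hy).symm
    · intro y hy; rw [Subgroup.mem_centralizer_singleton_iff]; exact (h2 y hy).symm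
    · intro y hy; rw [Subgroup.mem_centralizer_singleton_iff]; exact (h3 y hy).symm
    · intro y hy; rw [Subgroup.mem_centralizer_singleton_iff]; exact (h4 y hy).symm
  rw [closure_duad] at key
  have hx : x ∈ Subgroup.center G := by
    rw [Subgroup.mem_center_iff]
    intro g
    exact Subgroup.mem_centralizer_singleton_iff.1 (key (Subgroup.mem_top g))
  rw [center_eq_bot F, Subgroup.mem_bot] at hx
  exact hx

/-- the centralizer of the frame in a subgroup -/
def cE (F : Fr G) (Q : Subgroup G) : Subgroup G := Q ⊓ Subgroup.centralizer (Set.range fun p :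
  Fin 5 × Fin 5 => F.T p.1 p.2)

theorem mem_cE {F : Fr G} {Q : Subgroup G} {x : G} : x ∈ cE F Q ↔ x ∈ Q ∧ CE F x := by
  unfold cE CE
  rw [Subgroup.mem_inf, Subgroup.mem_centralizer_iff]
  constructor
  · rintro ⟨h1, h2⟩
    exact ⟨h1, fun i j => (h2 _ ⟨(i, j), rfl⟩).symm⟩
  · rintro ⟨h1, h2⟩
    refine ⟨h1, ?_⟩
    rintro _ ⟨⟨i, j⟩, rfl⟩
    exact (h2 i j).symm

/-- transport of the order of `C_Q(E)` -/
theorem card_cE_tr (F : Fr G) {Q : Subgroup G} (hQ : F.Nml Q) (σ : Equiv.Perm (Fin 5)) :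
    Nat.card (cE F (F.tr Q (F.T (σ 0) (σ 1)))) = Nat.card (cE F Q) := by
  obtain ⟨n, hn⟩ := F.perm σ
  refine Nat.card_congr ?_
  refine ⟨fun x => ⟨n⁻¹ * x * n, ?_⟩, fun x => ⟨n * x * n⁻¹, ?_⟩, ?_, ?_⟩
  · obtain ⟨x, hx⟩ := x
    rw [mem_cE] at hx ⊢
    constructor
    · have h0 := hn 0 1
      exact (F.mem_tr_iff hQ h0).1 hx.1
    · intro i j
      have h1 := hx.2 (σ i) (σ j)
      rw [← hn i j] at h1
      calc n⁻¹ * x * n * F.T i j = n⁻¹ * (x * (n * F.T i j * n⁻¹)) * n := by group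
        _ = n⁻¹ * ((n * F.T i j * n⁻¹) * x) * n := by rw [h1]
        _ = F.T i j * (n⁻¹ * x * n) := by group
  · obtain ⟨x, hx⟩ := x
    rw [mem_cE] at hx ⊢
    constructor
    · exact F.mem_tr_of_conj (hn 0 1) hx.1
    · intro i j
      have h1 := hx.2 (σ.symm i) (σ.symm j)
      have h2 := hn (σ.symm i) (σ.symm j)
      rw [Equiv.apply_symm_apply, Equiv.apply_symm_apply] at h2
      rw [← h2]
      calc n * x * n⁻¹ * (n * F.T (σ.symm i) (σ.symm j) * n⁻¹)
          = n * (x * F.T (σ.symm i) (σ.symm j)) * n⁻¹ := by group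
        _ = n * (F.T (σ.symm i) (σ.symm j) * x) * n⁻¹ := by rw [h1]
        _ = _ := by group
  · intro x; ext; simp; group
  · intro x; ext; simp; group

/-- `m` induces `σ` on the frame -/
def Act (F : Fr G) (σ : Equiv.Perm (Fin 5)) (m : G) : Prop :=
  ∀ i j, m * F.T i j * m⁻¹ = F.T (σ i) (σ j)

/-- coprime action: an element of prime order `r` centralising the frame and normalising `Q`
commutes with an element of `Q` inducing `σ`, if `r` does not divide `|C_Q(E)|`. -/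
theorem exists_fixed [Finite G] (F : Fr G) {Q : Subgroup G} {x m : G} {r : ℕ} (hr : r.Prime)
    (hxr : orderOf x = r) (hx : CE F x) (hQ : ∀ y ∈ Q, x * y * x⁻¹ ∈ Q) (hm : m ∈ Q)
    {σ : Equiv.Perm (Fin 5)} (hσ : Act F σ m) (hd : ¬ r ∣ Nat.card (cE F Q)) :
    ∃ m' ∈ Q, Act F σ m' ∧ x * m' = m' * x := by
  classical
  let Ω := {y : G // y ∈ Q ∧ Act F σ y}
  have hact : ∀ y, Act F σ y → Act F σ (x * y * x⁻¹) := by
    intro y hy i j
    have h1 : x⁻¹ * F.T i j = F.T i j * x⁻¹ := by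
      calc x⁻¹ * F.T i j = x⁻¹ * (F.T i j * x) * x⁻¹ := by group
        _ = x⁻¹ * (x * F.T i j) * x⁻¹ := by rw [hx i j]
        _ = _ := by group
    calc x * y * x⁻¹ * F.T i j * (x * y * x⁻¹)⁻¹ = x * y * (x⁻¹ * F.T i j) * x * y⁻¹ * x⁻¹ := by
          group
      _ = x * (y * F.T i j * y⁻¹) * x⁻¹ := by rw [h1]; group
      _ = F.T (σ i) (σ j) := by rw [hy, hx, mul_inv_cancel_right]
  let f : Function.End Ω := fun y => ⟨x * y.1 * x⁻¹, hQ _ y.2.1, hact _ y.2.2⟩
  have hpow : ∀ k : ℕ, ∀ y : Ω, ((f ^ k : Function.End Ω) y).1 = x ^ k * y.1 * (x ^ k)⁻¹ := by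
    intro k
    induction k with
    | zero => intro y; simp [Function.End.one_def]
    | succ k ih =>
      intro y
      have e1 : (f ^ (k + 1) : Function.End Ω) y = f ((f ^ k : Function.End Ω) y) := by
        rw [pow_succ', Function.End.mul_def]; rfl
      rw [e1]
      show x * ((f ^ k : Function.End Ω) y).1 * x⁻¹ = _
      rw [ih, pow_succ']
      group
  have hf : f ^ r ^ 1 = 1 := by
    funext y
    apply Subtype.ext
    rw [hpow, pow_one, ← hxr, pow_orderOf_eq_one]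
    simp [Function.End.one_def]
  have : Fact r.Prime := ⟨hr⟩
  have : Fintype Ω := Fintype.ofFinite Ω
  have hmod := Equiv.Perm.card_fixedPoints_modEq (f := f) hf
  -- `|Ω| = |C_Q(E)|`
  have hcard : Fintype.card Ω = Nat.card (cE F Q) := by
    rw [← Nat.card_eq_fintype_card]
    refine Nat.card_congr ⟨fun y => ⟨m⁻¹ * y.1, ?_⟩, fun c => ⟨m * c.1, ?_⟩, ?_, ?_⟩
    · obtain ⟨y, hy1, hy2⟩ := y
      rw [mem_cE]
      refine ⟨mul_mem (inv_mem hm) hy1, fun i j => ?_⟩
      show m⁻¹ * y * F.T i j = F.T i j * (m⁻¹ * y)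
      calc m⁻¹ * y * F.T i j = m⁻¹ * (y * F.T i j * y⁻¹) * y := by group
        _ = m⁻¹ * (m * F.T i j * m⁻¹) * y := by rw [hy2, hσ]
        _ = _ := by group
    · obtain ⟨c, hc⟩ := c
      rw [mem_cE] at hc
      refine ⟨mul_mem hm hc.1, fun i j => ?_⟩
      show m * c * F.T i j * (m * c)⁻¹ = _
      calc m * c * F.T i j * (m * c)⁻¹ = m * (c * F.T i j) * c⁻¹ * m⁻¹ := by group
        _ = m * F.T i j * m⁻¹ := by rw [hc.2]; group
        _ = _ := hσ i j
    · intro y; ext; simp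
    · intro y; ext; simp
  by_contra hno
  have hem : IsEmpty (Function.fixedPoints (f : Ω → Ω)) := by
    refine ⟨fun y => hno ⟨y.1.1, y.1.2.1, y.1.2.2, ?_⟩⟩
    have h1 : f y.1 = y.1 := y.2
    have h2 : x * y.1.1 * x⁻¹ = y.1.1 := congrArg Subtype.val h1
    calc x * y.1.1 = x * y.1.1 * x⁻¹ * x := by group
      _ = y.1.1 * x := by rw [h2]
  have h0 : ∀ inst : Fintype (Function.fixedPoints (f : Ω → Ω)),
      @Fintype.card (Function.fixedPoints (f : Ω → Ω)) inst = 0 := fun _ => Fintype.card_eq_zero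
  have h3 := hmod.trans (by rw [h0 _] : _ ≡ 0 [MOD r])
  rw [hcard] at h3
  exact hd ((Nat.modEq_zero_iff_dvd).1 h3)

theorem Act.mul {F : Fr G} {σ τ : Equiv.Perm (Fin 5)} {m n : G} (hm : Act F σ m)
    (hn : Act F τ n) : Act F (σ * τ) (m * n) := by
  intro i j
  calc m * n * F.T i j * (m * n)⁻¹ = m * (n * F.T i j * n⁻¹) * m⁻¹ := by group
    _ = F.T ((σ * τ) i) ((σ * τ) j) := by rw [hn, hm]; rfl

theorem Act.inv {F : Fr G} {σ : Equiv.Perm (Fin 5)} {m : G} (hm : Act F σ m) :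
    Act F σ⁻¹ m⁻¹ := by
  intro i j
  have h1 : ∀ k, σ (σ⁻¹ k) = k := fun k => Equiv.apply_symm_apply σ k
  have := hm (σ⁻¹ i) (σ⁻¹ j)
  rw [h1, h1] at this
  rw [← this]
  group

/-- if `x` centralises `J` and commutes with an element moving `t_01` to `t` then `x` centralises
the transported `J` -/
theorem comm_tr {F : Fr5 G} {x n t : G} (hJ : ∀ j ∈ F.J, x * j = j * x)
    (hn : x * n = n * x) (ht : n * F.T 0 1 * n⁻¹ = t) :
    ∀ y ∈ F.toFr.tr F.J t, x * y = y * x := by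
  intro y hy
  apply comm_of_conj hn
  apply hJ
  rw [← ht] at hy
  rw [← F.toFr.mem_tr_self F.J_nml, ← F.toFr.conj_mem_tr_iff n]
  have : n * (n⁻¹ * y * n) * n⁻¹ = y := by group
  rwa [this]

/-- **Order of elements centralising `E` and `J`.** -/
theorem dvd_card [Finite G] [IsSimpleGroup G] (F : Fr5 G) {Q : Subgroup G} (hQ : F.toFr.Nml Q)
    {m0 : G} (hm0 : m0 ∈ Q) (hσ : Act F.toFr (Equiv.swap 0 1) m0) {x : G} (hx : CE F.toFr x)
    (hJ : ∀ j ∈ F.J, x * j = j * x) {r : ℕ} (hr : r.Prime) (hxr : orderOf x = r) :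
    r ∣ Nat.card (cE F.toFr Q) := by
  by_contra hd
  have key : ∀ i j : Fin 5, i ≠ j → ∃ m, Act F.toFr (Equiv.swap i j) m ∧ x * m = m * x := by
    intro i j hij
    obtain ⟨σ, s0, s1⟩ := Fr.exists_perm hij
    obtain ⟨n, hn⟩ := F.perm σ
    have hn' : Act F.toFr σ n := hn
    have h01 : n * F.T 0 1 * n⁻¹ = F.T i j := by rw [hn, s0, s1]
    obtain ⟨m, _, hm1, hm2⟩ := exists_fixed F.toFr (Q := F.toFr.tr Q (F.T i j)) (x := x)
      (m := n * m0 * n⁻¹) hr hxr hx (fun y hy => F.toFr.mem_tr_of_comm (hx i j) hy)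
      (F.toFr.mem_tr_of_conj h01 hm0) (σ := Equiv.swap i j) (by
        have := (hn'.mul hσ).mul hn'.inv
        rwa [← Equiv.swap_apply_apply, s0, s1] at this) (by
        have := card_cE_tr F.toFr hQ σ
        rw [s0, s1] at this
        rwa [this])
    exact ⟨m, hm1, hm2⟩
  have key2 : ∀ i j : Fin 5, 0 ≠ i → 1 ≠ j → (Equiv.swap 0 i * Equiv.swap 1 j) 0 = i →
      (Equiv.swap 0 i * Equiv.swap 1 j) 1 = j → ∃ m, m * F.T 0 1 * m⁻¹ = F.T i j ∧
        x * m = m * x := by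
    intro i j hi hj e1 e2
    obtain ⟨m, hm1, hm2⟩ := key 0 i hi
    obtain ⟨n, hn1, hn2⟩ := key 1 j hj
    refine ⟨m * n, ?_, ?_⟩
    · rw [hm1.mul hn1 0 1, e1, e2]
    · rw [← mul_assoc, hm2, mul_assoc, hn2, mul_assoc]
  obtain ⟨m1, h1, h1'⟩ := key2 2 3 (by decide) (by decide) (by decide) (by decide)
  obtain ⟨m2, h2, h2'⟩ := key2 2 4 (by decide) (by decide) (by decide) (by decide)
  obtain ⟨m3, h3, h3'⟩ := key2 3 4 (by decide) (by decide) (by decide) (by decide)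
  have hx1 : x = 1 := by
    apply eq_one_of_comm F 1
    · exact comm_tr hJ (n := 1) (by simp) (by simp)
    · exact comm_tr hJ h1' h1
    · exact comm_tr hJ h2' h2
    · exact comm_tr hJ h3' h3
  rw [hx1, orderOf_one] at hxr
  exact hr.one_lt.ne hxr

/-- **Centre of the `SL₂`'s.** A central element of `K_23` centralising `J_01` is trivial. -/
theorem K_centre [Finite G] [IsSimpleGroup G] (F : KFr G)
    (hZ : ∀ x ∈ F.toFr.tr F.K (F.T 2 3), (∀ k ∈ F.toFr.tr F.K (F.T 2 3), x * k = k * x) →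
      Odd (orderOf x) → ∀ j ∈ F.J, x * j = j * x) {x : G} (hx : x ∈ F.K)
    (hc : ∀ k ∈ F.K, x * k = k * x) (ho : Odd (orderOf x)) : x = 1 := by
  -- `x` centralises `J_kl` for every duad `kl` disjoint from `01`
  have key : ∀ σ : Equiv.Perm (Fin 5), σ 2 = 0 → σ 3 = 1 →
      ∀ y ∈ F.toFr.tr F.J (F.T (σ 0) (σ 1)), x * y = y * x := by
    intro σ h2 h3 y hy
    obtain ⟨n, hn⟩ := F.perm σ
    have h23 : n * F.T 2 3 * n⁻¹ = F.T 0 1 := by rw [hn, h2, h3]
    -- the conjugate `x'` of `x`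
    have hx' : n⁻¹ * x * n ∈ F.toFr.tr F.K (F.T 2 3) := by
      rw [← F.toFr.conj_mem_tr_iff n, h23]
      have : n * (n⁻¹ * x * n) * n⁻¹ = x := by group
      rw [this]
      exact F.toJK.mem_K_iff.2 hx
    have hc' : ∀ k ∈ F.toFr.tr F.K (F.T 2 3), n⁻¹ * x * n * k = k * (n⁻¹ * x * n) := by
      intro k hk
      rw [← F.toFr.conj_mem_tr_iff n, h23] at hk
      have h5 := hc _ (F.toJK.mem_K_iff.1 hk)
      calc n⁻¹ * x * n * k = n⁻¹ * (x * (n * k * n⁻¹)) * n := by group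
        _ = n⁻¹ * ((n * k * n⁻¹) * x) * n := by rw [h5]
        _ = k * (n⁻¹ * x * n) := by group
    have ho' : Odd (orderOf (n⁻¹ * x * n)) := by
      have := orderOf_conj n⁻¹ x
      rw [inv_inv] at this
      rwa [this]
    have hy' : n⁻¹ * y * n ∈ F.J := by
      rw [← F.toJK.mem_J_iff, ← F.toFr.conj_mem_tr_iff n]
      have : n * (n⁻¹ * y * n) * n⁻¹ = y := by group
      rw [this, hn]
      exact hy
    have h6 := hZ _ hx' hc' ho' _ hy'
    calc x * y = n * ((n⁻¹ * x * n) * (n⁻¹ * y * n)) * n⁻¹ := by group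
      _ = n * ((n⁻¹ * y * n) * (n⁻¹ * x * n)) * n⁻¹ := by rw [h6]
      _ = y * x := by group
  apply eq_one_of_comm F.toFr5 1
  · intro y hy
    exact F.K_J x hx y (F.toJK.mem_J_iff.1 hy)
  · obtain ⟨σ, s0, s1, s2, s3⟩ := exists_perm4 (a := 2) (b := 3) (c := 0) (d := 1) (by decide)
      (by decide) (by decide) (by decide) (by decide) (by decide)
    have := key σ s2 s3
    rw [s0, s1] at this
    exact this
  · obtain ⟨σ, s0, s1, s2, s3⟩ := exists_perm4 (a := 2) (b := 4) (c := 0) (d := 1) (by decide)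
      (by decide) (by decide) (by decide) (by decide) (by decide)
    have := key σ s2 s3
    rw [s0, s1] at this
    exact this
  · obtain ⟨σ, s0, s1, s2, s3⟩ := exists_perm4 (a := 3) (b := 4) (c := 0) (d := 1) (by decide)
      (by decide) (by decide) (by decide) (by decide) (by decide)
    have := key σ s2 s3
    rw [s0, s1] at this
    exact this

end Cfsg.Agent.SylowLFive.Centre
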