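import Mathlib
import Cfsg.Agent.SylowLFive.Centre

/-!
# The chain `K_01, K_12, K_23, K_34`

`closure_chain`: `G` simple is generated by the chain, if `K` contains an element inducing `(0 1)`.
`same_action`: `t_ij` and `t_kl` act in the same way on `K_jk`.
-/

set_option autoImplicit false

namespace Cfsg.Agent.SylowLFive.Chain

open Cfsg.Agent.SylowLFive.Frame Cfsg.Agent.SylowLFive.KFrame Cfsg.Agent.SylowLFive.Centre

variable {G : Type*} [Group G]

theorem tr_map (F : Fr G) (H : Subgroup G) (t n : G) :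
    (F.tr H t).map (MulAut.conj n).toMonoidHom = F.tr H (n * t * n⁻¹) := by
  ext x
  constructor
  · rintro ⟨y, hy, rfl⟩
    exact F.conj_mem_tr n hy
  · intro hx
    refine ⟨n⁻¹ * x * n, ?_, by show n * (n⁻¹ * x * n) * n⁻¹ = x; group⟩
    show n⁻¹ * x * n ∈ F.tr H t
    rw [← F.conj_mem_tr_iff n]
    have : n * (n⁻¹ * x * n) * n⁻¹ = x := by group
    rwa [this]

theorem exists_perm3 {a b c : Fin 5} (h1 : a ≠ b) (h2 : a ≠ c) (h3 : b ≠ c) :
    ∃ σ : Equiv.Perm (Fin 5), σ 2 = a ∧ σ 3 = b ∧ σ 4 = c := by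
  let x : Fin 3 ↪ Fin 5 := ⟨![2, 3, 4], by decide⟩
  let y : Fin 3 ↪ Fin 5 := ⟨![a, b, c], by
    intro i j hij
    fin_cases i <;> fin_cases j <;> first
      | rfl
      | (exfalso; revert hij
         simp [h1, h2, h3, h1.symm, h2.symm, h3.symm])⟩
  have := (Equiv.Perm.isMultiplyPretransitive (Fin 5) 3)
  obtain ⟨σ, hσ⟩ := MulAction.exists_smul_eq (Equiv.Perm (Fin 5)) x y
  refine ⟨σ, ?_, ?_, ?_⟩
  · exact congrArg (fun f : Fin 3 ↪ Fin 5 => f 0) hσ
  · exact congrArg (fun f : Fin 3 ↪ Fin 5 => f 1) hσ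
  · exact congrArg (fun f : Fin 3 ↪ Fin 5 => f 2) hσ

theorem four (F : Fr G) (a b c d : Fin 5) : F.T a b * F.T c d = F.T a c * F.T b d := by
  rw [← F.T_mul a c b, mul_assoc, F.T_symm c b, F.T_mul b c d]

/-- `t_ij` and `t_kl` act in the same way on `K_jk` -/
theorem same_action (F : JK G) {i j k l : Fin 5} (hij : i ≠ j) (hik : i ≠ k) (hil : i ≠ l)
    (hjk : j ≠ k) (hjl : j ≠ l) (hkl : k ≠ l) {x : G} (hx : x ∈ F.toFr.tr F.K (F.T j k)) :
    x * (F.T i j * F.T k l) = (F.T i j * F.T k l) * x := by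
  have e : F.T i j * F.T k l = F.T j k * F.T i l := by
    rw [F.T_symm i j]
    exact four F.toFr j i k l
  have h1 := F.K_comm_T hjk hx
  have h2 := F.K_comm_J hjk x hx _ (F.T_mem_J (i := i) (j := l) hjk hij.symm hjl hik.symm hkl hil)
  rw [e, ← mul_assoc, h1, mul_assoc, h2, mul_assoc]

/-- the elements of `K_ij` inducing `(i j)` -/
theorem exists_swap_ij (F : JK G) {m : G} (hm : m ∈ F.K) (hact : Act F.toFr (Equiv.swap 0 1) m)
    {i j : Fin 5} (hij : i ≠ j) :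
    ∃ n ∈ F.toFr.tr F.K (F.T i j), Act F.toFr (Equiv.swap i j) n := by
  obtain ⟨σ, s0, s1⟩ := Fr.exists_perm hij
  obtain ⟨n, hn⟩ := F.perm σ
  have hn' : Act F.toFr σ n := hn
  refine ⟨n * m * n⁻¹, ?_, ?_⟩
  · have := tr_conj F.toFr hn (F.mem_K_iff.2 hm)
    rwa [s0, s1] at this
  · have := (hn'.mul hact).mul hn'.inv
    rwa [← Equiv.swap_apply_apply, s0, s1] at this

/-- a subgroup containing the chain contains all `K_ij` -/
theorem K_le_of_chain (F : JK G) {m : G} (hm : m ∈ F.K) (hact : Act F.toFr (Equiv.swap 0 1) m)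
    (L : Subgroup G) (h01 : F.toFr.tr F.K (F.T 0 1) ≤ L) (h12 : F.toFr.tr F.K (F.T 1 2) ≤ L)
    (h23 : F.toFr.tr F.K (F.T 2 3) ≤ L) (h34 : F.toFr.tr F.K (F.T 3 4) ≤ L) {i j : Fin 5}
    (hij : i ≠ j) : F.toFr.tr F.K (F.T i j) ≤ L := by
  -- every permutation is induced by an element of `L`
  have key : ∀ σ : Equiv.Perm (Fin 5), ∃ n ∈ L, Act F.toFr σ n := by
    intro σ
    have hσ : σ ∈ Submonoid.closure (Set.range fun i : Fin 4 ↦ Equiv.swap i.castSucc i.succ) := by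
      rw [Equiv.Perm.mclosure_swap_castSucc_succ]; trivial
    induction hσ using Submonoid.closure_induction with
    | mem τ h =>
      obtain ⟨k, rfl⟩ := h
      have hk : F.toFr.tr F.K (F.T k.castSucc k.succ) ≤ L := by
        fin_cases k
        · exact h01
        · exact h12
        · exact h23
        · exact h34
      obtain ⟨n, hn, hn'⟩ := exists_swap_ij F hm hact (Fin.castSucc_lt_succ (i := k)).ne
      exact ⟨n, hk hn, hn'⟩
    | one => exact ⟨1, one_mem _, fun i j => by simp⟩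
    | mul a b _ _ ha hb =>
      obtain ⟨x, hx, hx'⟩ := ha
      obtain ⟨y, hy, hy'⟩ := hb
      exact ⟨x * y, mul_mem hx hy, hx'.mul hy'⟩
  obtain ⟨σ, s0, s1⟩ := Fr.exists_perm hij
  obtain ⟨n, hn, hn'⟩ := key σ
  intro x hx
  have h1 : n * F.T 0 1 * n⁻¹ = F.T i j := by rw [hn' 0 1, s0, s1]
  rw [← h1] at hx
  have h2 : n⁻¹ * x * n ∈ F.toFr.tr F.K (F.T 0 1) := by
    rw [← F.toFr.conj_mem_tr_iff n]
    have : n * (n⁻¹ * x * n) * n⁻¹ = x := by group
    rwa [this]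
  have h3 := mul_mem (mul_mem hn (h01 h2)) (inv_mem hn)
  have : n * (n⁻¹ * x * n) * n⁻¹ = x := by group
  rwa [this] at h3

/-- **`G = ⟨K_01, K_12, K_23, K_34⟩`** -/
theorem closure_chain [Finite G] [IsSimpleGroup G] (F : KFr G) {m : G} (hm : m ∈ F.K)
    (hact : Act F.toFr (Equiv.swap 0 1) m)
    (L : Subgroup G) (h01 : F.toFr.tr F.K (F.T 0 1) ≤ L) (h12 : F.toFr.tr F.K (F.T 1 2) ≤ L)
    (h23 : F.toFr.tr F.K (F.T 2 3) ≤ L) (h34 : F.toFr.tr F.K (F.T 3 4) ≤ L) : L = ⊤ := by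
  have hK : ∀ i j, i ≠ j → F.toFr.tr F.K (F.T i j) ≤ L := fun i j h =>
    K_le_of_chain F.toJK hm hact L h01 h12 h23 h34 h
  have hJ : ∀ σ : Equiv.Perm (Fin 5), F.toFr.tr F.J (F.T (σ 0) (σ 1)) ≤ L := by
    intro σ
    refine (F.J_gen' σ).trans (sup_le (sup_le ?_ ?_) ?_)
    · exact hK _ _ (σ.injective.ne (by decide))
    · exact hK _ _ (σ.injective.ne (by decide))
    · exact hK _ _ (σ.injective.ne (by decide))
  have hJ' : ∀ i j, i ≠ j → F.toFr.tr F.J (F.T i j) ≤ L := by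
    intro i j hij
    obtain ⟨σ, s0, s1⟩ := Fr.exists_perm hij
    have := hJ σ
    rwa [s0, s1] at this
  rw [eq_top_iff, ← F.toFr5.G0_eq_top]
  exact sup_le (sup_le (sup_le (hJ' 0 1 (by decide)) (hJ' 2 3 (by decide)))
    (hJ' 2 4 (by decide))) (hJ' 3 4 (by decide))

end Cfsg.Agent.SylowLFive.Chain
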