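import Mathlib
import Cfsg.Agent.SylowLFive.Chain
import Cfsg.Agent.FramePlus.Main
import Cfsg.Agent.Phan.Recog

/-!
# From a homomorphism `SL₃^ε(q) → G` onto `J` to `G ≅ PSL₅(q)`, `G ≅ PSU₅(q)`

`F : KFr G`, `G` simple, `K` contains an element inducing `(0 1)`, `φ : SL₃^ε(q) → G` with central
kernel mapping the standard `SL₂`'s onto `K_23`, `K_34` and the diagonal involutions to `t_23`,
`t_34`. Glue with `FramePlus.Path` and `Phan.PsiSystem`.
-/

set_option autoImplicit false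

namespace Cfsg.Agent.SylowLFive.Ends

open Cfsg.Agent.SylowLFive.Frame Cfsg.Agent.SylowLFive.KFrame Cfsg.Agent.SylowLFive.Centre
open Cfsg.Agent.SylowLFive.Chain

variable {G : Type*} [Group G]

/-- transport of `φ` to any triple of points -/
theorem exists_triple (F : JK G) {S : Type*} [Group S] (φ : S →* G) (A B : Subgroup S) (x y : S)
    (hker : φ.ker ≤ Subgroup.center S) (hA : A.map φ = F.toFr.tr F.K (F.T 2 3))
    (hB : B.map φ = F.toFr.tr F.K (F.T 3 4)) (hx : φ x = F.T 2 3) (hy : φ y = F.T 3 4)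
    {i j k : Fin 5} (hij : i ≠ j) (hik : i ≠ k) (hjk : j ≠ k) :
    ∃ ψ : S →* G, ψ.ker ≤ Subgroup.center S ∧ A.map ψ = F.toFr.tr F.K (F.T i j) ∧
      B.map ψ = F.toFr.tr F.K (F.T j k) ∧ ψ x = F.T i j ∧ ψ y = F.T j k := by
  obtain ⟨σ, s2, s3, s4⟩ := exists_perm3 hij hik hjk
  obtain ⟨n, hn⟩ := F.perm σ
  have h23 : n * F.T 2 3 * n⁻¹ = F.T i j := by rw [hn, s2, s3]
  have h34 : n * F.T 3 4 * n⁻¹ = F.T j k := by rw [hn, s3, s4]
  refine ⟨(MulAut.conj n).toMonoidHom.comp φ, ?_, ?_, ?_, ?_, ?_⟩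
  · intro s hs
    apply hker
    rw [MonoidHom.mem_ker] at hs ⊢
    exact (MulAut.conj n).map_eq_one_iff.1 hs
  · rw [← Subgroup.map_map, hA, tr_map, h23]
  · rw [← Subgroup.map_map, hB, tr_map, h34]
  · show n * φ x * n⁻¹ = _
    rw [hx, h23]
  · show n * φ y * n⁻¹ = _
    rw [hy, h34]

/-- points -/
def pt (i : ℕ) : Fin 5 := Fin.ofNat 5 i

theorem pt_ne1 (i : ℕ) : pt i ≠ pt (i + 1) := by
  intro h
  have := congrArg Fin.val h
  simp only [pt, Fin.ofNat] at this
  omega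

theorem pt_ne2 (i : ℕ) : pt i ≠ pt (i + 2) := by
  intro h
  have := congrArg Fin.val h
  simp only [pt, Fin.ofNat] at this
  omega

theorem pt_ne {i j : ℕ} (h : i < j) (hj : j < 5) : pt i ≠ pt j := by
  intro h'
  have := congrArg Fin.val h'
  simp only [pt, Fin.ofNat] at this
  omega

variable [Finite G] [IsSimpleGroup G]

/-- **`ε = +`** -/
theorem nonempty_psl_five (F : KFr G) {m : G} (hm : m ∈ F.K)
    (hact : Act F.toFr (Equiv.swap 0 1) m) {Fq : Type*} [Field Fq] [Fintype Fq]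
    (h2 : (2 : Fq) ≠ 0) (φ : Matrix.SpecialLinearGroup (Fin 3) Fq →* G)
    (hker : φ.ker ≤ Subgroup.center (Matrix.SpecialLinearGroup (Fin 3) Fq))
    (hA : (FramePlus.up Fq).range.map φ = F.toFr.tr F.K (F.T 2 3))
    (hB : (FramePlus.lo Fq).range.map φ = F.toFr.tr F.K (F.T 3 4))
    (hx : φ (FramePlus.dm Fq) = F.T 2 3) (hy : φ (FramePlus.dp Fq) = F.T 3 4) :
    Nonempty (G ≃* Matrix.ProjectiveSpecialLinearGroup (Fin 5) Fq) := by
  have h : ∀ i : ℕ, ∃ ψ : Matrix.SpecialLinearGroup (Fin 3) Fq →* G, _ := fun i =>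
    exists_triple F.toJK φ _ _ _ _ hker hA hB hx hy (pt_ne1 i) (pt_ne2 i) (pt_ne1 (i + 1))
  choose ψ p1 p2 p3 p4 p5 using h
  let K : ℕ → Subgroup G := fun i => F.toFr.tr F.K (F.T (pt i) (pt (i + 1)))
  have hpath : FramePlus.Path 5 K ψ := by
    refine ⟨fun i _ => p1 i, fun i _ => p2 i, fun i _ => p3 i, ?_, ?_⟩
    · intro i j hij hj x hx y hy
      exact F.toJK.K_comm_K (i := pt i) (j := pt (i + 1)) (k := pt j) (l := pt (j + 1))
        (pt_ne (by omega) (by omega)) (pt_ne (by omega) (by omega)).symm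
        (pt_ne (by omega) (by omega)).symm (pt_ne (by omega) (by omega)).symm
        (pt_ne (by omega) (by omega)).symm (pt_ne (by omega) (by omega)) x hx y hy
    · intro i hi x hx
      rw [p4, p5]
      have := same_action F.toJK (i := pt i) (j := pt (i + 1)) (k := pt (i + 2))
        (l := pt (i + 3)) (pt_ne (by omega) (by omega)) (pt_ne (by omega) (by omega))
        (pt_ne (by omega) (by omega)) (pt_ne (by omega) (by omega)) (pt_ne (by omega) (by omega))
        (pt_ne (by omega) (by omega)) hx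
      show F.T (pt i) (pt (i + 1)) * x * (F.T (pt i) (pt (i + 1)))⁻¹ =
        F.T (pt (i + 2)) (pt (i + 3)) * x * (F.T (pt (i + 2)) (pt (i + 3)))⁻¹
      set a := F.T (pt i) (pt (i + 1))
      set b := F.T (pt (i + 2)) (pt (i + 3))
      have ha : a * a = 1 := F.T_sq _ _
      have hb : b * b = 1 := F.T_sq _ _
      have hai : a⁻¹ = a := inv_eq_of_mul_eq_one_right ha
      have hbi : b⁻¹ = b := inv_eq_of_mul_eq_one_right hb
      rw [hai, hbi]
      calc a * x * a = a * (x * (a * b)) * b := by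
            calc a * x * a = a * x * a * (b * b) := by rw [hb, mul_one]
              _ = _ := by group
        _ = a * ((a * b) * x) * b := by rw [this]
        _ = (a * a) * (b * x * b) := by group
        _ = b * x * b := by rw [ha, one_mul]
  refine hpath.nonempty_psl h2 (m := 4) (by norm_num) ?_
  intro L hL
  exact closure_chain F hm hact L (hL 0 (by norm_num)) (hL 1 (by norm_num)) (hL 2 (by norm_num))
    (hL 3 (by norm_num))

open Cfsg.Agent.Phan Cfsg in
/-- **`ε = -`, `q ≥ 5`** -/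
theorem nonempty_psu_five (F : KFr G) {m : G} (hm : m ∈ F.K)
    (hact : Act F.toFr (Equiv.swap 0 1) m) {Fq : Type*} [Field Fq] [Fintype Fq] {q : ℕ}
    (hF : Fintype.card Fq = q ^ 2) (hodd : Odd q) (hq : 5 ≤ q) (φ : SU 3 Fq q →* G)
    (hker : φ.ker ≤ Subgroup.center (SU 3 Fq q))
    (hA : (emb hF 0 (by omega : 0 + 2 ≤ 3)).range.map φ = F.toFr.tr F.K (F.T 2 3))
    (hB : (emb hF 1 (by omega : 1 + 2 ≤ 3)).range.map φ = F.toFr.tr F.K (F.T 3 4))
    (hx : φ (emb hF 0 (by omega : 0 + 2 ≤ 3) (negOne hF)) = F.T 2 3)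
    (hy : φ (emb hF 1 (by omega : 1 + 2 ≤ 3) (negOne hF)) = F.T 3 4) :
    Nonempty (G ≃* PSU 5 Fq q) := by
  have h : ∀ i : ℕ, ∃ ψ : SU 3 Fq q →* G, _ := fun i =>
    exists_triple F.toJK φ _ _ _ _ hker hA hB hx hy (pt_ne1 i) (pt_ne2 i) (pt_ne1 (i + 1))
  choose ψ p1 p2 p3 p4 p5 using h
  have r0 : ∀ i, ((ψ i).comp (emb hF 0 (by omega : 0 + 2 ≤ 3))).range =
      F.toFr.tr F.K (F.T (pt i) (pt (i + 1))) := fun i => by
    rw [MonoidHom.range_comp, p2]
  have r1 : ∀ i, ((ψ i).comp (emb hF 1 (by omega : 1 + 2 ≤ 3))).range =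
      F.toFr.tr F.K (F.T (pt (i + 1)) (pt (i + 2))) := fun i => by
    rw [MonoidHom.range_comp, p3]
  have mem : ∀ i a (ha : a + 2 ≤ 3) (x : SU 2 Fq q), ψ i (emb hF a ha x) ∈
      F.toFr.tr F.K (F.T (pt (i + a)) (pt (i + a + 1))) := by
    intro i a ha x
    have ha' : a = 0 ∨ a = 1 := by omega
    rcases ha' with rfl | rfl
    · have := r0 i
      show _ ∈ F.toFr.tr F.K (F.T (pt i) (pt (i + 1)))
      rw [← this]
      exact ⟨x, rfl⟩
    · have := r1 i
      show _ ∈ F.toFr.tr F.K (F.T (pt (i + 1)) (pt (i + 2)))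
      rw [← this]
      exact ⟨x, rfl⟩
  have hpsi : PsiSystem hF (2 + 3) ψ := by
    refine ⟨fun i _ => p1 i, ?_, ?_, ?_⟩
    · intro k hk
      rw [r1, r0]
    · intro i j a b hi hj ha hb hij x y
      exact F.toJK.K_comm_K (i := pt (i + a)) (j := pt (i + a + 1)) (k := pt (j + b))
        (l := pt (j + b + 1))
        (pt_ne (by omega) (by omega)) (pt_ne (by omega) (by omega)).symm
        (pt_ne (by omega) (by omega)).symm (pt_ne (by omega) (by omega)).symm
        (pt_ne (by omega) (by omega)).symm (pt_ne (by omega) (by omega)) _ (mem i a ha x) _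
        (mem j b hb y)
    · intro k hk x
      rw [p4, p5]
      have := same_action F.toJK (i := pt k) (j := pt (k + 1)) (k := pt (k + 2))
        (l := pt (k + 3)) (pt_ne (by omega) (by omega)) (pt_ne (by omega) (by omega))
        (pt_ne (by omega) (by omega)) (pt_ne (by omega) (by omega)) (pt_ne (by omega) (by omega))
        (pt_ne (by omega) (by omega)) (mem k 1 (by omega) x)
      exact this.symm
  refine hpsi.nonempty_psu hF hodd hq ?_
  intro L hL
  have hL0 : ∀ k, k < 3 → F.toFr.tr F.K (F.T (pt k) (pt (k + 1))) ≤ L := by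
    intro k hk
    rw [← r0]
    rintro _ ⟨x, rfl⟩
    exact hL k (by omega) ⟨_, rfl⟩
  have hL1 : F.toFr.tr F.K (F.T (pt 3) (pt 4)) ≤ L := by
    have := r1 2
    rw [show (pt (2 + 1) : Fin 5) = pt 3 from rfl, show (pt (2 + 2) : Fin 5) = pt 4 from rfl] at this
    rw [← this]
    rintro _ ⟨x, rfl⟩
    exact hL 2 (by omega) ⟨_, rfl⟩
  exact closure_chain F hm hact L (hL0 0 (by norm_num)) (hL0 1 (by norm_num))
    (hL0 2 (by norm_num)) hL1

end Cfsg.Agent.SylowLFive.Ends
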