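import Mathlib
import Cfsg.Agent.SylowLFive.Ends
import Cfsg.Agent.TypeLFive.YCard

/-!
# `q = 3`, `ε = +`: from `J ≅ PSL₃(3)` to `G ≅ PSL₅(3)`

`exists_phi`: an isomorphism of `J` with a group in which pairs of commuting involutions are conjugate,
adapted to the frame, when `K_ij = Y 3 (T i j)` for `ij = 23, 34`.
`plus`: the identification of `G`.
-/

set_option autoImplicit false

namespace Cfsg.Agent.SylowLFive.EndsThree

open Cfsg.Agent.SylowLFive.Frame Cfsg.Agent.SylowLFive.KFrame Cfsg.Agent.SylowLFive.Centre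
open Cfsg.Agent.TypeLFive.LThreeDef

variable {G : Type*} [Group G]

theorem T24_mem (F : JK G) : F.T 2 4 ∈ F.J := by
  rw [← F.T_mul 2 3 4]
  exact mul_mem F.T23 F.T34

/-- `J ≅ S` adapted to the frame. -/
theorem exists_phi (F : JK G)
    (hK23 : F.toFr.tr F.K (F.T 2 3) = (Y 3 (⟨F.T 2 3, F.T23⟩ : F.J)).map F.J.subtype)
    (hK34 : F.toFr.tr F.K (F.T 3 4) = (Y 3 (⟨F.T 3 4, F.T34⟩ : F.J)).map F.J.subtype)
    {S : Type*} [Group S] (e : F.J ≃* S) (s0 s1 : S)
    (hconj : ∀ t u : S, t ≠ 1 → t * t = 1 → u ≠ 1 → u * u = 1 → t ≠ u → t * u = u * t →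
      ∃ g : S, g * t * g⁻¹ = s0 ∧ g * u * g⁻¹ = s1) :
    ∃ φ : S →* G, Function.Injective φ ∧ φ.range = F.J ∧ φ s0 = F.T 3 4 ∧
      φ (s0 * s1) = F.T 2 3 ∧ (Y 3 s0).map φ = F.toFr.tr F.K (F.T 3 4) ∧
      (Y 3 (s0 * s1)).map φ = F.toFr.tr F.K (F.T 2 3) := by
  set t34 : F.J := ⟨F.T 3 4, F.T34⟩ with h34
  set t24 : F.J := ⟨F.T 2 4, T24_mem F⟩ with h24
  set t23 : F.J := ⟨F.T 2 3, F.T23⟩ with h23
  have hmul : t34 * t24 = t23 := Subtype.ext (by
    show F.T 3 4 * F.T 2 4 = F.T 2 3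
    rw [F.T_symm 2 4, F.T_mul 3 4 2, F.T_symm])
  have hne34 : t34 ≠ 1 := fun h => F.toFr.T_ne_one (i := 3) (j := 4) (by decide)
    (congrArg Subtype.val h)
  have hne24 : t24 ≠ 1 := fun h => F.toFr.T_ne_one (i := 2) (j := 4) (by decide)
    (congrArg Subtype.val h)
  have hne : t34 ≠ t24 := by
    intro h
    have h1 : F.T 3 4 = F.T 2 4 := congrArg Subtype.val h
    apply F.toFr.T_ne_one (i := 3) (j := 2) (by decide)
    rw [← F.T_mul 3 4 2, h1, F.T_symm 4 2, F.T_sq]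
  have h1 : t34 * t34 = 1 := Subtype.ext (F.T_sq 3 4)
  have h2 : t24 * t24 = 1 := Subtype.ext (F.T_sq 2 4)
  have hc : t34 * t24 = t24 * t34 := Subtype.ext (F.comm 3 4 2 4)
  obtain ⟨g, hg0, hg1⟩ := hconj (e t34) (e t24) (fun h => hne34 (by
      apply e.injective; rw [h, map_one])) (by rw [← map_mul, h1, map_one])
    (fun h => hne24 (by apply e.injective; rw [h, map_one])) (by rw [← map_mul, h2, map_one])
    (fun h => hne (e.injective h)) (by rw [← map_mul, hc, map_mul])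
  let f : F.J ≃* S := e.trans (MulAut.conj g)
  have f34 : f t34 = s0 := hg0
  have f24 : f t24 = s1 := hg1
  have f23 : f t23 = s0 * s1 := by rw [← hmul, map_mul, f34, f24]
  have g34 : f.symm s0 = t34 := by rw [← f34, f.symm_apply_apply]
  have g23 : f.symm (s0 * s1) = t23 := by rw [← f23, f.symm_apply_apply]
  refine ⟨F.J.subtype.comp f.symm.toMonoidHom, ?_, ?_, ?_, ?_, ?_, ?_⟩
  · exact F.J.subtype_injective.comp f.symm.injective
  · rw [MonoidHom.range_comp, MonoidHom.range_eq_top.2 f.symm.surjective, ← MonoidHom.range_eq_map,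
      Subgroup.range_subtype]
  · show ((f.symm s0 : F.J) : G) = _
    rw [g34]
  · show ((f.symm (s0 * s1) : F.J) : G) = _
    rw [g23]
  · rw [← Subgroup.map_map, map_Y f.symm, g34, hK34]
  · rw [← Subgroup.map_map, map_Y f.symm, g23, hK23]

/-! ### `SL₃` -/

section

open Cfsg.Agent.TypeLFive.LThreeFrame Cfsg.Agent.TypeLFive.LThreePSL
open Cfsg.Agent.FramePlus (S3 S3.ext' lo up lo_val up_val dp dm)

variable {F : Type*} [Field F]

/-- `Y p t0` is the lower `SL₂`. -/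
theorem Y_t0 [Fintype F] (hF : Odd (Fintype.card F)) (p : ℕ) [CharP F p] :
    Y p (t0 F) = (lo F).range := by
  have h2 : (2 : F) ≠ 0 := TwoFusion.QuatCoverSL.two_ne_zero_of_odd hF
  have hp0 : p ≠ 0 := by
    rintro rfl
    have : CharZero F := CharP.charP_to_charZero F
    exact (not_finite F)
  have hpp : p.Prime := (CharP.char_is_prime_or_zero F p).resolve_right hp0
  have : Fact p.Prime := ⟨hpp⟩
  have hone : ∀ x : F, x ^ p = 1 → x = 1 := by
    intro x hx
    have h3 : (x - 1) ^ p = 0 := by rw [sub_pow_char, hx, one_pow, sub_self]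
    exact sub_eq_zero.1 (pow_eq_zero_iff hp0 |>.1 h3)
  let e : (lo F).range ≃* Matrix.SpecialLinearGroup (Fin 2) F :=
    (MonoidHom.ofInjective lo_injective).symm
  apply le_antisymm
  · unfold Y
    rw [Subgroup.closure_le]
    rintro x ⟨hx, hxp⟩
    apply mem_lo h2 hx
    obtain ⟨h01, h02, h10, h20⟩ := block h2 (X := x.1) (congrArg Subtype.val hx)
    apply hone
    rw [← pow_zero_zero h10 h20]
    have : (x ^ p).1 = x.1 ^ p := Matrix.SpecialLinearGroup.coe_pow x p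
    rw [← this, hxp]
    rfl
  · refine Cfsg.Agent.TypeLFive.LThreeSLTwo.le_of_equiv (p := p) e fun x hx hxp => mem_Y ?_ hxp
    obtain ⟨A, rfl⟩ := hx
    exact lo_comm A

/-- the cyclic permutation matrix -/
def cy (F : Type*) [Field F] : S3 F := ⟨!![0, 1, 0; 0, 0, 1; 1, 0, 0], by
  rw [Matrix.det_fin_three]; simp⟩

theorem cy_t0 : cy F * t0 F * (cy F)⁻¹ = t0 F * t1 F := by
  rw [mul_inv_eq_iff_eq_mul]
  apply Subtype.ext
  show (cy F).1 * D0 F = (D0 F * D1 F) * (cy F).1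
  rw [D0_mul_D1]
  ext i j
  fin_cases i <;> fin_cases j <;> simp [cy, D0, D2, Matrix.mul_apply, Fin.sum_univ_three]

theorem cy_lo (A : Matrix.SpecialLinearGroup (Fin 2) F) : cy F * lo F A * (cy F)⁻¹ = up F A := by
  rw [mul_inv_eq_iff_eq_mul]
  apply Subtype.ext
  show (cy F).1 * (lo F A).1 = (up F A).1 * (cy F).1
  rw [lo_val, up_val]
  ext i j
  fin_cases i <;> fin_cases j <;> simp [cy, Matrix.mul_apply, Fin.sum_univ_three]

/-- `Y p (t0 t1)` is the upper `SL₂`. -/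
theorem Y_t2 [Fintype F] (hF : Odd (Fintype.card F)) (p : ℕ) [CharP F p] :
    Y p (t0 F * t1 F) = (up F).range := by
  have h := map_Y (MulAut.conj (cy F)) p (t0 F)
  rw [MulAut.conj_apply, cy_t0] at h
  rw [← h, Y_t0 hF p]
  ext x
  constructor
  · rintro ⟨_, ⟨A, rfl⟩, rfl⟩
    exact ⟨A, (cy_lo A).symm⟩
  · rintro ⟨A, rfl⟩
    exact ⟨_, ⟨A, rfl⟩, cy_lo A⟩

theorem center_sl_three [CharP F 3] : Subgroup.center (S3 F) = ⊥ := by
  rw [eq_bot_iff]
  intro z hz
  obtain ⟨r, hr, hrz⟩ := Matrix.SpecialLinearGroup.mem_center_iff.1 hz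
  rw [Fintype.card_fin] at hr
  have h3 : (3 : F) = 0 := by exact_mod_cast CharP.cast_eq_zero F 3
  have h4 : (r - 1) ^ 3 = 0 := by linear_combination hr - (r ^ 2 - r) * h3
  have h5 : r = 1 := sub_eq_zero.1 (pow_eq_zero_iff three_ne_zero |>.1 h4)
  rw [Subgroup.mem_bot]
  apply Subtype.ext
  rw [← hrz, h5, map_one]
  rfl

end

/-- the characteristic from the number of elements -/
theorem charP_three {F : Type*} [Field F] [Fintype F] {n : ℕ} (h : Fintype.card F = 3 ^ n) :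
    CharP F 3 := by
  obtain ⟨p, hp⟩ := CharP.exists F
  have hpp : p.Prime := CharP.char_is_prime F p
  have h1 : p ∣ Fintype.card F := by
    rw [← CharP.cast_eq_zero_iff F p]
    exact FiniteField.cast_card_eq_zero F
  rw [h] at h1
  have h2 : p ∣ 3 := hpp.dvd_of_dvd_pow h1
  have h3 : p = 3 := (Nat.prime_dvd_prime_iff_eq hpp Nat.prime_three).1 h2
  rwa [h3] at hp

/-- the quotient by a trivial centre -/
noncomputable def quotEquiv {S : Type*} [Group S] (h : Subgroup.center S = ⊥) :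
    S ⧸ Subgroup.center S ≃* S :=
  (QuotientGroup.quotientMulEquivOfEq h).trans QuotientGroup.quotientBot

/-- **`ε = +`, `q = 3`** -/
theorem plus [Finite G] [IsSimpleGroup G] (F : KFr G) {m : G} (hm : m ∈ F.K)
    (hact : Act F.toFr (Equiv.swap 0 1) m)
    (hK23 : F.toFr.tr F.K (F.T 2 3) = (Y 3 (⟨F.T 2 3, F.T23⟩ : F.J)).map F.J.subtype)
    (hK34 : F.toFr.tr F.K (F.T 3 4) = (Y 3 (⟨F.T 3 4, F.T34⟩ : F.J)).map F.J.subtype)
    {Fq : Type*} [Field Fq] [Fintype Fq] (hq : Fintype.card Fq = 3)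
    (e : F.J ≃* Matrix.ProjectiveSpecialLinearGroup (Fin 3) Fq) :
    Nonempty (G ≃* Matrix.ProjectiveSpecialLinearGroup (Fin 5) Fq) := by
  have hc : CharP Fq 3 := charP_three (n := 1) (by rw [hq, pow_one])
  have hodd : Odd (Fintype.card Fq) := by rw [hq]; decide
  have h2 : (2 : Fq) ≠ 0 := TwoFusion.QuatCoverSL.two_ne_zero_of_odd hodd
  obtain ⟨φ, hinj, -, h34, h23, hY34, hY23⟩ := exists_phi F.toJK hK23 hK34
    (e.trans (quotEquiv center_sl_three)) (TypeLFive.LThreePSL.t0 Fq) (TypeLFive.LThreePSL.t1 Fq)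
    (fun t u a b c d f g => TypeLFive.LThreePSL.exists_conj_pair h2 a b c d f g)
  refine Ends.nonempty_psl_five F hm hact h2 φ ?_ ?_ ?_ ?_ ?_
  · rw [(MonoidHom.ker_eq_bot_iff φ).2 hinj]
    exact bot_le
  · rw [← Y_t2 hodd 3, hY23]
  · rw [← Y_t0 hodd 3, hY34]
  · rw [← h23]
    congr 1
    apply FramePlus.S3.ext'
    intro i j
    have : (TypeLFive.LThreePSL.t0 Fq * TypeLFive.LThreePSL.t1 Fq).1 =
      TypeLFive.LThreeFrame.D2 Fq := TypeLFive.LThreeFrame.D0_mul_D1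
    rw [this]
    fin_cases i <;> fin_cases j <;> simp [FramePlus.dm, FramePlus.dg, TypeLFive.LThreeFrame.D2]
  · rw [← h34]
    congr 1
    apply FramePlus.S3.ext'
    intro i j
    show _ = TypeLFive.LThreeFrame.D0 Fq i j
    fin_cases i <;> fin_cases j <;> simp [FramePlus.dp, FramePlus.dg, TypeLFive.LThreeFrame.D0]

end Cfsg.Agent.SylowLFive.EndsThree
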