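import Mathlib
import Cfsg.Agent.SylowLFive.EndsThreePlus
import Cfsg.Agent.TypeLFive.YCardPSU
import Cfsg.Agent.Phan.Three

/-!
# `q = 3`, `ε = -`: from `J ≅ PSU₃(3)` to `G ≅ PSU₅(3)`

`minus`: as `EndsThreePlus.plus`, with `Phan.System.exists_hom_three` instead of Phan's theorem for
`q ≥ 5`; its hypotheses `Hz` hold when no non-trivial element of odd order centralises the frame
(`comm_last`: an element of order three centralising `K_01`, `K_12`, `K_23` centralises the frame).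
-/

set_option autoImplicit false

namespace Cfsg.Agent.SylowLFive.EndsThree

open Cfsg.Agent.SylowLFive.Frame Cfsg.Agent.SylowLFive.KFrame Cfsg.Agent.SylowLFive.Centre
open Cfsg.Agent.SylowLFive.Chain Cfsg.Agent.SylowLFive.Ends
open Cfsg.Agent.TypeLFive.LThreeDef

/-! ### `SU₃` -/

section

open Matrix Cfsg
open Cfsg.Agent.LieClassical.HermBasic
open Cfsg.Agent.TypeLFive.LThreeFrame Cfsg.Agent.TypeLFive.LThreePSU
open Cfsg.Agent.TypeLFive.LThreePSUMain
open Cfsg.Agent.Phan (mat mat_mul mat_one mat_inj mat_det mat_isom mk mat_mk ext mat_ext extM inc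
  inc_apply ext_injective emb sh sh_injective negOne mat_negOne ext_congr)

variable {F : Type*} [Field F] [Fintype F] {q : ℕ}

/-- the cyclic permutation matrix -/
def cyM (F : Type*) [Field F] : Matrix (Fin 3) (Fin 3) F := !![0, 1, 0; 0, 0, 1; 1, 0, 0]

/-- the cyclic permutation in `SU₃` -/
def cyU (hF : Fintype.card F = q ^ 2) : SU 3 F q :=
  mk (cyM F) (by rw [cyM, Matrix.det_fin_three]; simp) (by
    rw [isom_iff hF]
    have h : (cyM F).map (LieClassical.GUOrder.frob hF) = cyM F := by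
      ext i j
      fin_cases i <;> fin_cases j <;> simp [cyM]
    rw [h]
    ext i j
    fin_cases i <;> fin_cases j <;> simp [cyM, Matrix.mul_apply, Fin.sum_univ_three])

theorem cyU_t0 (hF : Fintype.card F = q ^ 2) :
    cyU hF * t0 hF * (cyU hF)⁻¹ = t0 hF * t1 hF := by
  rw [mul_inv_eq_iff_eq_mul]
  apply mat_inj
  rw [mat_mul, mat_mul, mat_t0_mul_t1]
  show cyM F * D0 F = D2 F * cyM F
  ext i j
  fin_cases i <;> fin_cases j <;> simp [cyM, D0, D2, Matrix.mul_apply, Fin.sum_univ_three]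

theorem cyU_ext (hF : Fintype.card F = q ^ 2) (A : SU 2 F q) :
    cyU hF * ext hF e0 he0 A * (cyU hF)⁻¹ = ext hF e2 he2 A := by
  rw [mul_inv_eq_iff_eq_mul]
  apply mat_inj
  rw [mat_mul, mat_mul, mat_ext, mat_ext, extM_e0, extM_e2]
  show cyM F * _ = _ * cyM F
  ext i j
  fin_cases i <;> fin_cases j <;> simp [cyM, Matrix.mul_apply, Fin.sum_univ_three]

/-- `Y p (t0 t1)` is the standard `SU₂` on the first two coordinates. -/
theorem Y_t2U (hF : Fintype.card F = q ^ 2) (hq : Odd q) (p : ℕ) [CharP F p] :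
    Y p (t0 hF * t1 hF) = (ext hF e2 he2).range := by
  have h := map_Y (MulAut.conj (cyU hF)) p (t0 hF)
  rw [MulAut.conj_apply, cyU_t0] at h
  rw [← h, TypeLFive.YCardPSU.Y_t0 hF hq p]
  ext x
  constructor
  · rintro ⟨_, ⟨A, rfl⟩, rfl⟩
    exact ⟨A, (cyU_ext hF A).symm⟩
  · rintro ⟨A, rfl⟩
    exact ⟨_, ⟨A, rfl⟩, cyU_ext hF A⟩

theorem emb_one_eq (hF : Fintype.card F = q ^ 2) (h : 1 + 2 ≤ 3) :
    (emb hF 1 h : SU 2 F q →* SU 3 F q) = ext hF e0 he0 := by
  ext1 x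
  refine ext_congr hF _ _ ?_ x
  funext i
  fin_cases i <;> rfl

theorem emb_zero_eq (hF : Fintype.card F = q ^ 2) (h : 0 + 2 ≤ 3) :
    (emb hF 0 h : SU 2 F q →* SU 3 F q) = ext hF e2 he2 := by
  ext1 x
  refine ext_congr hF _ _ ?_ x
  funext i
  fin_cases i <;> rfl

theorem ext_neg0 (hF : Fintype.card F = q ^ 2) : ext hF e0 he0 (negOne hF) = t0 hF := by
  apply mat_inj
  rw [mat_ext, extM_e0, mat_negOne, mat_t0]
  ext i j
  fin_cases i <;> fin_cases j <;> simp [D0]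

theorem ext_neg2 (hF : Fintype.card F = q ^ 2) :
    ext hF e2 he2 (negOne hF) = t0 hF * t1 hF := by
  apply mat_inj
  rw [mat_ext, extM_e2, mat_negOne, mat_t0_mul_t1]
  ext i j
  fin_cases i <;> fin_cases j <;> simp [D2]

/-- the centraliser of the standard `SU₂` on the first two coordinates -/
theorem cent_ext (hF : Fintype.card F = q ^ 2) (h2 : (2 : F) ≠ 0) (hq3 : 3 ≤ q) {c : SU 3 F q}
    (hc : ∀ x ∈ (ext hF e2 he2).range, c * x = x * c) :
    c * t0 hF = t0 hF * c ∧ (c * c = 1 → c = 1 ∨ c = t0 hF * t1 hF) := by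
  obtain ⟨μ, hμ, hμ1⟩ := exists_mu hF hq3
  have hzq : (0 : F) ^ q = 0 := zero_pow_q hF
  have k0 := mat_comm (hc _ ⟨negOne hF, rfl⟩)
  have k1 := mat_comm (hc _ ⟨s2 hF 0 1 (by rw [hzq, one_pow]; ring), rfl⟩)
  have k2 := mat_comm (hc _ ⟨s2 hF μ 0 (by rw [hzq, hμ]; ring), rfl⟩)
  rw [mat_ext, extM_e2, mat_negOne] at k0
  rw [mat_ext, extM_e2, mat_s2] at k1 k2
  have hz : ∀ x : F, -x = x → x = 0 := by
    intro x hx
    have : (2 : F) * x = 0 := by linear_combination -hx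
    exact (mul_eq_zero.1 this).resolve_left h2
  have a02 := congrFun (congrFun k0 0) 2
  have a12 := congrFun (congrFun k0 1) 2
  have a20 := congrFun (congrFun k0 2) 0
  have a21 := congrFun (congrFun k0 2) 1
  have a1 := congrFun (congrFun k1 0) 1
  have a3 := congrFun (congrFun k2 0) 1
  have a4 := congrFun (congrFun k2 1) 0
  simp [Matrix.mul_apply, Fin.sum_univ_three, hzq] at a02 a12 a20 a21 a1 a3 a4
  have hμ0 : μ ≠ 0 := by
    rintro rfl
    rw [zero_mul] at hμ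
    exact zero_ne_one hμ
  have hμq : μ ^ q - μ ≠ 0 := by
    intro h
    apply hμ1
    calc μ * μ = μ * μ ^ q := by rw [sub_eq_zero.1 h]
      _ = 1 := hμ
  have h02 : mat c 0 2 = 0 := hz _ a02.symm
  have h12 : mat c 1 2 = 0 := hz _ a12.symm
  have h20 : mat c 2 0 = 0 := hz _ a20
  have h21 : mat c 2 1 = 0 := hz _ a21
  have h01 : mat c 0 1 = 0 := by
    have : mat c 0 1 * (μ ^ q - μ) = 0 := by linear_combination a3
    exact (mul_eq_zero.1 this).resolve_right hμq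
  have h10 : mat c 1 0 = 0 := by
    have : mat c 1 0 * (μ ^ q - μ) = 0 := by linear_combination -a4
    exact (mul_eq_zero.1 this).resolve_right hμq
  have hdiag : mat c = Matrix.diagonal ![mat c 0 0, mat c 0 0, mat c 2 2] := by
    ext i j
    fin_cases i <;> fin_cases j <;> simp [h01, h02, h12, h10, h20, h21, ← a1]
  constructor
  · apply mat_inj
    rw [mat_mul, mat_mul, mat_t0, hdiag]
    ext i j
    fin_cases i <;> fin_cases j <;> simp [D0]
  · intro hcc
    have hcc' : mat c * mat c = 1 := by rw [← mat_mul, hcc, mat_one]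
    have hd := mat_det c
    rw [hdiag, Matrix.det_diagonal, Fin.prod_univ_three] at hd
    simp only [Matrix.cons_val_zero, Matrix.cons_val_one, Matrix.cons_val] at hd
    rw [hdiag, Matrix.diagonal_mul_diagonal] at hcc'
    have b0 := congrFun (congrFun hcc' 0) 0
    simp only [Matrix.diagonal_apply_eq, Matrix.cons_val_zero, Matrix.one_apply_eq] at b0
    have hb : mat c 2 2 = 1 := by rw [b0, one_mul] at hd; exact hd
    have hfac : (mat c 0 0 - 1) * (mat c 0 0 + 1) = 0 := by linear_combination b0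
    rcases mul_eq_zero.1 hfac with h | h
    · left
      have ha : mat c 0 0 = 1 := by linear_combination h
      apply mat_inj
      rw [mat_one, hdiag, ha, hb]
      ext i j
      fin_cases i <;> fin_cases j <;> simp
    · right
      have ha : mat c 0 0 = -1 := by linear_combination h
      apply mat_inj
      rw [mat_t0_mul_t1, hdiag, ha, hb]
      ext i j
      fin_cases i <;> fin_cases j <;> simp [D2]

end

/-! ### elements of order three centralising `K_01`, `K_12`, `K_23` -/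

variable {G : Type*} [Group G]

/-- the basic step: `x` centralises `t_01` and `K_23`, `x³ = 1`; then `x` centralises `t_34` -/
theorem comm_T34 (F : JK G) {S : Type*} [Group S] {φ : S →* G} (hinj : Function.Injective φ)
    (hrange : φ.range = F.J) {s0 s1 : S} (hs0 : s0 * s0 = 1) (h34 : φ s0 = F.T 3 4)
    (h23 : φ (s0 * s1) = F.T 2 3) {A : Subgroup S} (hA : A.map φ = F.toFr.tr F.K (F.T 2 3))
    (hmem : s0 * s1 ∈ A) (hmodel : ∀ c : S, (∀ x ∈ A, c * x = x * c) →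
      c * s0 = s0 * c ∧ (c * c = 1 → c = 1 ∨ c = s0 * s1))
    {x : G} (hx : x * F.T 0 1 = F.T 0 1 * x)
    (hxK : ∀ y ∈ F.toFr.tr F.K (F.T 2 3), x * y = y * x) (hx3 : x ^ 3 = 1) :
    x * F.T 3 4 = F.T 3 4 * x := by
  set t := F.T 3 4 with ht
  have htt : t * t = 1 := F.T_sq 3 4
  have hti : t⁻¹ = t := inv_eq_of_mul_eq_one_right htt
  have htJ : t ∈ F.J := F.T34
  have ht' : x * t * x⁻¹ ∈ F.J := F.J_nml x hx t htJ
  rw [← hrange] at ht'
  obtain ⟨s', hs'⟩ := ht'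
  -- `t` normalises `K_23`
  have hnorm : ∀ y ∈ F.toFr.tr F.K (F.T 2 3), t * y * t⁻¹ ∈ F.toFr.tr F.K (F.T 2 3) := fun y hy =>
    F.toFr.mem_tr_of_comm (F.comm 3 4 2 3) hy
  have hxi : ∀ y ∈ F.toFr.tr F.K (F.T 2 3), x⁻¹ * y = y * x⁻¹ := by
    intro y hy
    rw [inv_mul_eq_iff_eq_mul, ← mul_assoc, hxK y hy, mul_inv_cancel_right]
  have hcA : ∀ a ∈ A, (s0 * s') * a = a * (s0 * s') := by
    intro a ha
    apply hinj
    have hy : φ a ∈ F.toFr.tr F.K (F.T 2 3) := by rw [← hA]; exact ⟨a, ha, rfl⟩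
    have hy' := hnorm _ hy
    rw [map_mul, map_mul, map_mul, map_mul, h34, hs']
    calc t * (x * t * x⁻¹) * φ a = t * x * t * (x⁻¹ * φ a) := by group
      _ = t * x * (t * φ a * t⁻¹) * t * x⁻¹ := by rw [hxi _ hy]; group
      _ = t * (x * (t * φ a * t⁻¹)) * t * x⁻¹ := by group
      _ = t * ((t * φ a * t⁻¹) * x) * t * x⁻¹ := by rw [hxK _ hy']
      _ = (t * t) * φ a * t⁻¹ * x * t * x⁻¹ := by group
      _ = φ a * (t * (x * t * x⁻¹)) := by rw [htt, hti]; group
  obtain ⟨m1, m2⟩ := hmodel _ hcA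
  have hs'2 : s' * s' = 1 := by
    apply hinj
    rw [map_mul, hs', map_one]
    calc x * t * x⁻¹ * (x * t * x⁻¹) = x * (t * t) * x⁻¹ := by group
      _ = 1 := by rw [htt]; group
  have hcomm : s' * s0 = s0 * s' := by
    have h1 : s0 * (s' * s0) = s0 * (s0 * s') := by rw [← mul_assoc, m1]
    exact mul_left_cancel h1
  have hcc : (s0 * s') * (s0 * s') = 1 := by
    calc (s0 * s') * (s0 * s') = s0 * (s' * s0) * s' := by group
      _ = (s0 * s0) * (s' * s') := by rw [hcomm]; group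
      _ = 1 := by rw [hs0, hs'2, one_mul]
  have hconj : x * t * x⁻¹ = t ∨ x * t * x⁻¹ = t * F.T 2 3 := by
    rcases m2 hcc with h | h
    · left
      have h1 : s' = s0 := by
        have : s0 * s' = s0 * s0 := by rw [h, hs0]
        exact mul_left_cancel this
      rw [← hs', h1, h34]
    · right
      rw [← hs', ← h34, ← h23, ← map_mul, ← h, ← mul_assoc, hs0, one_mul]
  rcases hconj with h | h
  · calc x * t = x * t * x⁻¹ * x := by group
      _ = t * x := by rw [h]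
  · -- `x` commutes with `T 2 3`
    have h23K : F.T 2 3 ∈ F.toFr.tr F.K (F.T 2 3) := by rw [← hA, ← h23]; exact ⟨_, hmem, rfl⟩
    have hxT := hxK _ h23K
    have hTT : F.T 2 3 * F.T 2 3 = 1 := F.T_sq 2 3
    have h1 : x * t = t * F.T 2 3 * x := by
      calc x * t = x * t * x⁻¹ * x := by group
        _ = _ := by rw [h]
    have h2 : x ^ 2 * t = t * x ^ 2 := by
      calc x ^ 2 * t = x * (x * t) := by rw [sq, mul_assoc]
        _ = x * (t * F.T 2 3 * x) := by rw [h1]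
        _ = (x * t) * (F.T 2 3 * x) := by group
        _ = t * F.T 2 3 * (x * F.T 2 3) * x := by rw [h1]; group
        _ = t * (F.T 2 3 * F.T 2 3) * (x * x) := by rw [hxT]; group
        _ = t * x ^ 2 := by rw [hTT, mul_one, sq]
    have h4 : x = (x ^ 2) ^ 2 := by
      calc x = x ^ 3 * x := by rw [hx3, one_mul]
        _ = (x ^ 2) ^ 2 := by group
    have h5 : Commute (x ^ 2) t := h2
    have h6 : Commute ((x ^ 2) ^ 2) t := h5.pow_left 2
    rw [← h4] at h6
    exact h6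

/-- the transported step -/
theorem comm_T_of_perm (F : JK G)
    (hbasic : ∀ x : G, x * F.T 0 1 = F.T 0 1 * x →
      (∀ y ∈ F.toFr.tr F.K (F.T 2 3), x * y = y * x) → x ^ 3 = 1 → x * F.T 3 4 = F.T 3 4 * x)
    (σ : Equiv.Perm (Fin 5)) {x : G} (hx : x * F.T (σ 0) (σ 1) = F.T (σ 0) (σ 1) * x)
    (hxK : ∀ y ∈ F.toFr.tr F.K (F.T (σ 2) (σ 3)), x * y = y * x) (hx3 : x ^ 3 = 1) :
    x * F.T (σ 3) (σ 4) = F.T (σ 3) (σ 4) * x := by
  obtain ⟨n, hn⟩ := F.perm σ
  have key : ∀ y : G, x * (n * y * n⁻¹) = (n * y * n⁻¹) * x →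
      (n⁻¹ * x * n) * y = y * (n⁻¹ * x * n) := by
    intro y h
    calc n⁻¹ * x * n * y = n⁻¹ * (x * (n * y * n⁻¹)) * n := by group
      _ = n⁻¹ * ((n * y * n⁻¹) * x) * n := by rw [h]
      _ = y * (n⁻¹ * x * n) := by group
  have h1 := hbasic (n⁻¹ * x * n) (key _ (by rw [hn]; exact hx))
    (fun y hy => key _ (hxK _ (tr_conj F.toFr hn hy))) (by
      have : (n⁻¹ * x * n) ^ 3 = n⁻¹ * x ^ 3 * n := by
        rw [pow_succ, pow_two, pow_succ, pow_two]; group
      rw [this, hx3, mul_one, inv_mul_cancel])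
  have h2 := hn 3 4
  rw [← h2]
  calc x * (n * F.T 3 4 * n⁻¹) = n * ((n⁻¹ * x * n) * F.T 3 4) * n⁻¹ := by group
    _ = n * (F.T 3 4 * (n⁻¹ * x * n)) * n⁻¹ := by rw [h1]
    _ = n * F.T 3 4 * n⁻¹ * x := by group

/-- commuting with a chain of `T`'s -/
theorem CE_of_chain (F : Fr G) {x : G} (h01 : x * F.T 0 1 = F.T 0 1 * x)
    (h12 : x * F.T 1 2 = F.T 1 2 * x) (h23 : x * F.T 2 3 = F.T 2 3 * x)
    (h34 : x * F.T 3 4 = F.T 3 4 * x) : CE F x := by
  have hmul : ∀ i j k : Fin 5, x * F.T i j = F.T i j * x → x * F.T j k = F.T j k * x →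
      x * F.T i k = F.T i k * x := by
    intro i j k h1 h2
    rw [← F.T_mul i j k, ← mul_assoc, h1, mul_assoc, h2, mul_assoc]
  have h4 : ∀ i : Fin 5, x * F.T i 4 = F.T i 4 * x := by
    have a3 := h34
    have a2 := hmul 2 3 4 h23 a3
    have a1 := hmul 1 2 4 h12 a2
    have a0 := hmul 0 1 4 h01 a1
    intro i
    fin_cases i
    · exact a0
    · exact a1
    · exact a2
    · exact a3
    · show x * F.T 4 4 = F.T 4 4 * x
      rw [F.T_self, mul_one, one_mul]
  intro i j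
  refine hmul i 4 j (h4 i) ?_
  rw [F.T_symm 4 j]
  exact h4 j

section main

open Cfsg.Agent.Phan Cfsg
open Cfsg.Agent.TypeLFive.LThreePSU (t0 t1 e0 e2 he0 he2)

variable [Finite G] [IsSimpleGroup G]

/-- **`ε = -`, `q = 3`** -/
theorem minus (F : KFr G) {m : G} (hm : m ∈ F.K) (hact : Act F.toFr (Equiv.swap 0 1) m)
    (hK23 : F.toFr.tr F.K (F.T 2 3) = (Y 3 (⟨F.T 2 3, F.T23⟩ : F.J)).map F.J.subtype)
    (hK34 : F.toFr.tr F.K (F.T 3 4) = (Y 3 (⟨F.T 3 4, F.T34⟩ : F.J)).map F.J.subtype)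
    (hB : ∀ b : G, Odd (orderOf b) → CE F.toFr b → b = 1)
    {Fq : Type*} [Field Fq] [Fintype Fq] (hq : Fintype.card Fq = 3 ^ 2)
    (e : F.J ≃* PSU 3 Fq 3) : Nonempty (G ≃* PSU 5 Fq 3) := by
  have hc : CharP Fq 3 := charP_three hq
  have hodd : Odd 3 := by decide
  have h2 : (2 : Fq) ≠ 0 := TypeLFive.LThreePSUMain.two_ne hq hodd
  obtain ⟨φ, hinj, hrange, h34, h23, hY34, hY23⟩ := exists_phi F.toJK hK23 hK34
    (e.trans (quotEquiv (TypeLFive.LThreePSUMain.center_bot hq h2 rfl))) (t0 hq) (t1 hq)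
    (fun t u a b c d f g => TypeLFive.LThreePSU.exists_conj_pair hq h2 a b c d f g)
  rw [Y_t2U hq hodd 3] at hY23
  rw [TypeLFive.YCardPSU.Y_t0 hq hodd 3] at hY34
  have hker : φ.ker ≤ Subgroup.center (SU 3 Fq 3) := by
    rw [(MonoidHom.ker_eq_bot_iff φ).2 hinj]; exact bot_le
  -- the basic step
  have hbasic : ∀ x : G, x * F.T 0 1 = F.T 0 1 * x →
      (∀ y ∈ F.toFr.tr F.K (F.T 2 3), x * y = y * x) → x ^ 3 = 1 →
      x * F.T 3 4 = F.T 3 4 * x := by
    intro x hx hxK hx3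
    refine comm_T34 F.toJK hinj hrange ?_ h34 h23 hY23 ⟨negOne hq, ext_neg2 hq⟩ ?_ hx hxK hx3
    · apply mat_inj
      rw [mat_mul, TypeLFive.LThreePSU.mat_t0, TypeLFive.LThreeFrame.D0_sq, mat_one]
    · intro c hc
      exact cent_ext hq h2 (by norm_num) hc
  -- the homomorphisms
  have hA : (emb hq 0 (by omega : 0 + 2 ≤ 3)).range.map φ = F.toFr.tr F.K (F.T 2 3) := by
    rw [emb_zero_eq]; exact hY23
  have hB' : (emb hq 1 (by omega : 1 + 2 ≤ 3)).range.map φ = F.toFr.tr F.K (F.T 3 4) := by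
    rw [emb_one_eq]; exact hY34
  have hx : φ (emb hq 0 (by omega : 0 + 2 ≤ 3) (negOne hq)) = F.T 2 3 := by
    rw [emb_zero_eq, ext_neg2, h23]
  have hy : φ (emb hq 1 (by omega : 1 + 2 ≤ 3) (negOne hq)) = F.T 3 4 := by
    rw [emb_one_eq, ext_neg0, h34]
  have h : ∀ i : ℕ, ∃ ψ : SU 3 Fq 3 →* G, _ := fun i =>
    exists_triple F.toJK φ _ _ _ _ hker hA hB' hx hy (pt_ne1 i) (pt_ne2 i) (pt_ne1 (i + 1))
  choose ψ p1 p2 p3 p4 p5 using h
  have r0 : ∀ i, ((ψ i).comp (emb hq 0 (by omega : 0 + 2 ≤ 3))).range =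
      F.toFr.tr F.K (F.T (pt i) (pt (i + 1))) := fun i => by
    rw [MonoidHom.range_comp, p2]
  have r1 : ∀ i, ((ψ i).comp (emb hq 1 (by omega : 1 + 2 ≤ 3))).range =
      F.toFr.tr F.K (F.T (pt (i + 1)) (pt (i + 2))) := fun i => by
    rw [MonoidHom.range_comp, p3]
  have mem : ∀ i a (ha : a + 2 ≤ 3) (x : SU 2 Fq 3), ψ i (emb hq a ha x) ∈
      F.toFr.tr F.K (F.T (pt (i + a)) (pt (i + a + 1))) := by
    intro i a ha x
    have ha' : a = 0 ∨ a = 1 := by omega
    rcases ha' with rfl | rfl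
    · have := r0 i
      show _ ∈ F.toFr.tr F.K (F.T (pt i) (pt (i + 1)))
      rw [← this]
      exact ⟨x, rfl⟩
    · have := r1 i
      show _ ∈ F.toFr.tr F.K (F.T (pt (i + 1)) (pt (i + 2)))
      rw [← this]
      exact ⟨x, rfl⟩
  have hpsi : PsiSystem hq (2 + 3) ψ := by
    refine ⟨fun i _ => p1 i, ?_, ?_, ?_⟩
    · intro k hk
      rw [r1, r0]
    · intro i j a b hi hj ha hb hij x y
      exact F.toJK.K_comm_K (i := pt (i + a)) (j := pt (i + a + 1)) (k := pt (j + b))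
        (l := pt (j + b + 1))
        (pt_ne (by omega) (by omega)) (pt_ne (by omega) (by omega)).symm
        (pt_ne (by omega) (by omega)).symm (pt_ne (by omega) (by omega)).symm
        (pt_ne (by omega) (by omega)).symm (pt_ne (by omega) (by omega)) _ (mem i a ha x) _
        (mem j b hb y)
    · intro k hk x
      rw [p4, p5]
      have := same_action F.toJK (i := pt k) (j := pt (k + 1)) (k := pt (k + 2))
        (l := pt (k + 3)) (pt_ne (by omega) (by omega)) (pt_ne (by omega) (by omega))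
        (pt_ne (by omega) (by omega)) (pt_ne (by omega) (by omega)) (pt_ne (by omega) (by omega))
        (pt_ne (by omega) (by omega)) (mem k 1 (by omega) x)
      exact this.symm
  have hTK : ∀ i : ℕ, F.T (pt i) (pt (i + 1)) ∈ F.toFr.tr F.K (F.T (pt i) (pt (i + 1))) := by
    intro i
    have := mem i 0 (by omega) (negOne hq)
    rwa [p4] at this
  -- the system
  obtain ⟨φ', g, hg, hgψ⟩ := exists_system hq ψ (fun k hk => hpsi.inj hq hk _)
    (fun k hk => hpsi.inj hq hk _) hpsi.range (fun k hk y hy => hpsi.tor hq hodd hk y hy)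
    hpsi.comm
  -- the images of the `φ'`
  have im0 : ∀ k : ℕ, k + 3 ≤ 5 → ∀ y ∈ F.toFr.tr F.K (F.T (pt k) (pt (k + 1))),
      ∃ a, φ' k a = y := by
    intro k hk y hy
    rw [← r0 k] at hy
    obtain ⟨a, rfl⟩ := hy
    obtain ⟨τ, d, hd, hτ⟩ := hgψ k
    obtain ⟨a', rfl⟩ := fr_surjective hq τ (d ∘ sh 0 (by omega : 0 + 2 ≤ 3)) (fun i => hd _) a
    refine ⟨a', ?_⟩
    rw [← hg.left k hk a', hτ]
    show ψ k (fr hq τ d hd (emb hq 0 _ a')) = _
    rw [fr_emb]
    rfl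
  have im1 : ∀ y ∈ F.toFr.tr F.K (F.T (pt 3) (pt 4)), ∃ a, φ' 3 a = y := by
    intro y hy
    have hr := r1 2
    rw [show (pt (2 + 1) : Fin 5) = pt 3 from rfl, show (pt (2 + 2) : Fin 5) = pt 4 from rfl] at hr
    rw [← hr] at hy
    obtain ⟨a, rfl⟩ := hy
    obtain ⟨τ, d, hd, hτ⟩ := hgψ 2
    obtain ⟨a', rfl⟩ := fr_surjective hq τ (d ∘ sh 1 (by omega : 1 + 2 ≤ 3)) (fun i => hd _) a
    refine ⟨a', ?_⟩
    have := hg.right 2 (by norm_num) a'
    rw [← this, hτ]
    show ψ 2 (fr hq τ d hd (emb hq 1 _ a')) = _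
    rw [fr_emb]
    rfl
  have im : ∀ k : ℕ, k < 4 → ∀ y ∈ F.toFr.tr F.K (F.T (pt k) (pt (k + 1))), ∃ a, φ' k a = y := by
    intro k hk
    by_cases hk3 : k = 3
    · subst hk3; exact im1
    · exact im0 k (by omega)
  have odd_of : ∀ x : G, x ^ 3 = 1 → Odd (orderOf x) := by
    intro x hx3
    exact Odd.of_dvd_nat (by decide : Odd 3) (orderOf_dvd_of_pow_eq_one hx3)
  have hz0 : Hz φ' := by
    intro x _ hxc hx3
    have hxK : ∀ k : ℕ, k < 3 → ∀ y ∈ F.toFr.tr F.K (F.T (pt k) (pt (k + 1))), x * y = y * x := by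
      intro k hk y hy
      obtain ⟨a, rfl⟩ := im k (by omega) y hy
      exact (hxc k hk a).symm
    have c01 : x * F.T 0 1 = F.T 0 1 * x := hxK 0 (by norm_num) _ (hTK 0)
    have c12 : x * F.T 1 2 = F.T 1 2 * x := hxK 1 (by norm_num) _ (hTK 1)
    have c23 : x * F.T 2 3 = F.T 2 3 * x := hxK 2 (by norm_num) _ (hTK 2)
    exact hB x (odd_of x hx3) (CE_of_chain F.toFr c01 c12 c23
      (hbasic x c01 (hxK 2 (by norm_num)) hx3))
  have hz1 : Hz fun j => φ' (1 + j) := by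
    intro x _ hxc hx3
    have hxK : ∀ k : ℕ, 1 ≤ k → k < 4 → ∀ y ∈ F.toFr.tr F.K (F.T (pt k) (pt (k + 1))),
        x * y = y * x := by
      intro k hk1 hk y hy
      obtain ⟨a, rfl⟩ := im k hk y hy
      obtain ⟨j, rfl⟩ : ∃ j, k = 1 + j := ⟨k - 1, by omega⟩
      exact (hxc j (by omega) a).symm
    have c12 : x * F.T 1 2 = F.T 1 2 * x := hxK 1 le_rfl (by norm_num) _ (hTK 1)
    have c23 : x * F.T 2 3 = F.T 2 3 * x := hxK 2 (by norm_num) (by norm_num) _ (hTK 2)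
    have c34 : x * F.T 3 4 = F.T 3 4 * x := hxK 3 (by norm_num) (by norm_num) _ (hTK 3)
    have c10 : x * F.T 1 0 = F.T 1 0 * x := by
      -- the permutation `0 ↦ 3, 1 ↦ 4, 2 ↦ 2, 3 ↦ 1, 4 ↦ 0`
      let σ : Equiv.Perm (Fin 5) := ⟨![3, 4, 2, 1, 0], ![4, 3, 2, 0, 1], by decide, by decide⟩
      refine comm_T_of_perm F.toJK hbasic σ (x := x) c34 ?_ hx3
      intro y hy
      have hy' : y ∈ F.toFr.tr F.K (F.T 1 2) := by
        have h21 : F.T 2 1 = F.T 1 2 := F.T_symm 2 1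
        have : y ∈ F.toFr.tr F.K (F.T 2 1) := hy
        rwa [h21] at this
      exact hxK 1 le_rfl (by norm_num) y hy'
    rw [F.T_symm 1 0] at c10
    exact hB x (odd_of x hx3) (CE_of_chain F.toFr c10 c12 c23 c34)
  obtain ⟨Φ, hΦ⟩ := System.exists_hom_three hg hz0 hz1
  refine nonempty_psu_of_surjective hq (n := 5) (by norm_num) (by norm_num) Φ ?_
  rw [← MonoidHom.range_eq_top]
  have hL0 : ∀ k, k < 3 → F.toFr.tr F.K (F.T (pt k) (pt (k + 1))) ≤ Φ.range := by
    intro k hk y hy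
    obtain ⟨a, rfl⟩ := im k (by omega) y hy
    refine ⟨emb hq k (by omega : k + 3 ≤ 5) (emb hq 0 (by omega : 0 + 2 ≤ 3) a), ?_⟩
    rw [hΦ]
    exact hg.left k (by omega) a
  have hL1 : F.toFr.tr F.K (F.T (pt 3) (pt 4)) ≤ Φ.range := by
    intro y hy
    obtain ⟨a, rfl⟩ := im1 y hy
    refine ⟨emb hq 2 (by norm_num : 2 + 3 ≤ 5) (emb hq 1 (by omega : 1 + 2 ≤ 3) a), ?_⟩
    rw [hΦ]
    exact hg.right 2 (by norm_num) a
  exact closure_chain F hm hact _ (hL0 0 (by norm_num)) (hL0 1 (by norm_num))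
    (hL0 2 (by norm_num)) hL1

end main

end Cfsg.Agent.SylowLFive.EndsThree
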