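import Cfsg.Agent.SylowLFive.MElevenOut
import Cfsg.Agent.SylowLFive.Centre
import Cfsg.Agent.SylowLFive.Chain

/-!
# `M₁₁` does not occur in a frame of type `L₅`
-/

set_option autoImplicit false

namespace Cfsg.Agent.SylowLFive.ThreeMEleven

open Cfsg
open Cfsg.Agent.SylowLFive.Frame
open Cfsg.Agent.SylowLFive.KFrame
open Cfsg.Agent.SylowLFive.Centre

variable {G : Type*} [Group G] [Finite G] [IsSimpleGroup G]

omit [Finite G] [IsSimpleGroup G] in
theorem comm_of_act {F : Fr G} {n : G} {σ : Equiv.Perm (Fin 5)} (hn : Act F σ n) {i j : Fin 5}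
    (hi : σ i = i) (hj : σ j = j) : n * F.T i j = F.T i j * n := by
  have h := hn i j
  rw [hi, hj] at h
  calc n * F.T i j = (n * F.T i j * n⁻¹) * n := by group
    _ = F.T i j * n := by rw [h]

/-- An element commuting with `J_01` and `J_23` is trivial. -/
theorem eq_one_of_two (F : KFr G) {m : G} (hm : m ∈ F.K) (hact : Act F.toFr (Equiv.swap 0 1) m)
    {y : G} (h1 : ∀ x ∈ F.J, y * x = x * y)
    (h2 : ∀ x ∈ F.toFr.tr F.J (F.T 2 3), y * x = x * y) : y = 1 := by
  -- `y` commutes with all `K_ij` for `{i, j} ⊂ {2, 3, 4}` or `{i, j} ⊂ {0, 1, 4}`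
  have k : ∀ {i j : Fin 5}, F.toFr.tr F.K (F.T i j) ≤ F.J →
      F.toFr.tr F.K (F.T i j) ≤ Subgroup.centralizer {y} := by
    intro i j h x hx
    rw [Subgroup.mem_centralizer_singleton_iff]
    exact (h1 x (h hx)).symm
  have k' : ∀ {i j : Fin 5}, F.toFr.tr F.K (F.T i j) ≤ F.toFr.tr F.J (F.T 2 3) →
      F.toFr.tr F.K (F.T i j) ≤ Subgroup.centralizer {y} := by
    intro i j h x hx
    rw [Subgroup.mem_centralizer_singleton_iff]
    exact (h2 x (h hx)).symm
  have m1 : ∀ {i j : Fin 5}, (0 : Fin 5) ≠ i → (0 : Fin 5) ≠ j → (1 : Fin 5) ≠ i → (1 : Fin 5) ≠ j →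
      i ≠ j → F.toFr.tr F.K (F.T i j) ≤ F.J := by
    intro i j a b c d e x hx
    rw [← F.toJK.mem_J_iff]
    exact F.toJK.K_le_J (k := 0) (l := 1) (by decide) a b c d e hx
  have c23 := k (m1 (i := 2) (j := 3) (by decide) (by decide) (by decide) (by decide) (by decide))
  have c42 := k (m1 (i := 4) (j := 2) (by decide) (by decide) (by decide) (by decide) (by decide))
  have c01 := k' (F.toJK.K_le_J (i := 0) (j := 1) (k := 2) (l := 3) (by decide) (by decide)
    (by decide) (by decide) (by decide) (by decide))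
  have c14 := k' (F.toJK.K_le_J (i := 1) (j := 4) (k := 2) (l := 3) (by decide) (by decide)
    (by decide) (by decide) (by decide) (by decide))
  obtain ⟨σ, s0, s1, s2, s3⟩ := exists_perm4 (a := 0) (b := 1) (c := 4) (d := 2) (by decide)
    (by decide) (by decide) (by decide) (by decide) (by decide)
  have s4 : σ 4 = 3 := by
    have h : ∀ x : Fin 5, x ≠ 0 → x ≠ 1 → x ≠ 4 → x ≠ 2 → x = 3 := by decide
    exact h _ (fun h => absurd (σ.injective (h.trans s0.symm)) (by decide))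
      (fun h => absurd (σ.injective (h.trans s1.symm)) (by decide))
      (fun h => absurd (σ.injective (h.trans s2.symm)) (by decide))
      (fun h => absurd (σ.injective (h.trans s3.symm)) (by decide))
  obtain ⟨n, hn⟩ := F.perm σ
  have key : ∀ i j, F.toFr.tr F.K (F.T (σ i) (σ j)) ≤ Subgroup.centralizer {y} →
      F.toFr.tr F.K (F.T i j) ≤ Subgroup.centralizer {n⁻¹ * y * n} := by
    intro i j h x hx
    have h3 := Subgroup.mem_centralizer_singleton_iff.1 (h (tr_conj F.toFr hn hx))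
    rw [Subgroup.mem_centralizer_singleton_iff]
    calc x * (n⁻¹ * y * n) = n⁻¹ * (n * x * n⁻¹ * y) * n := by group
      _ = n⁻¹ * (y * (n * x * n⁻¹)) * n := by rw [h3]
      _ = _ := by group
  have htop := Chain.closure_chain F hm hact (Subgroup.centralizer {n⁻¹ * y * n})
    (key 0 1 (by rw [s0, s1]; exact c01)) (key 1 2 (by rw [s1, s2]; exact c14))
    (key 2 3 (by rw [s2, s3]; exact c42)) (key 3 4 (by rw [s3, s4]; exact c23))
  have hc : n⁻¹ * y * n ∈ Subgroup.center G := by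
    rw [Subgroup.mem_center_iff]
    intro g
    exact Subgroup.mem_centralizer_singleton_iff.1 (by rw [htop]; exact Subgroup.mem_top g)
  rw [center_eq_bot F.toFr5, Subgroup.mem_bot] at hc
  calc y = n * (n⁻¹ * y * n) * n⁻¹ := by group
    _ = 1 := by rw [hc]; group

/-- **`M₁₁` does not occur.** -/
theorem false (F : KFr G) {m : G} (hm : m ∈ F.K) (hact : Act F.toFr (Equiv.swap 0 1) m)
    (hJ : IsM11 F.J) : False := by
  have ne : ∀ {i j : Fin 5}, i ≠ j → F.T i j ≠ 1 := fun h => F.toFr.T_ne_one h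
  obtain ⟨σ, s0, s1⟩ := Fr.exists_perm (i := 2) (j := 3) (by decide)
  obtain ⟨n, hn⟩ := F.perm σ
  have hn01 : n * F.T 0 1 * n⁻¹ = F.T 2 3 := by rw [hn, s0, s1]
  have hmem : ∀ x, x ∈ F.toFr.tr F.J (F.T 2 3) ↔ n⁻¹ * x * n ∈ F.J := fun x =>
    F.toFr.mem_tr_iff F.J_nml hn01
  have hmap : F.toFr.tr F.J (F.T 2 3) = F.J.map (MulAut.conj n).toMonoidHom := by
    ext x
    rw [hmem]
    constructor
    · intro hx
      exact ⟨_, hx, by show n * (n⁻¹ * x * n) * n⁻¹ = x; group⟩
    · rintro ⟨y, hy, rfl⟩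
      show n⁻¹ * (n * y * n⁻¹) * n ∈ F.J
      have : n⁻¹ * (n * y * n⁻¹) * n = y := by group
      rwa [this]
  have e : F.J ≃* F.toFr.tr F.J (F.T 2 3) :=
    (F.J.equivMapOfInjective _ (MulAut.conj n).injective).trans (MulEquiv.subgroupCongr hmap.symm)
  have hJ' : IsM11 (F.toFr.tr F.J (F.T 2 3)) :=
    ⟨e.isSimpleGroup_congr.1 hJ.1, by rw [← Nat.card_congr e.toEquiv]; exact hJ.2⟩
  obtain ⟨p, hp⟩ := F.perm (Equiv.swap 0 1)
  obtain ⟨q, hq⟩ := F.perm (Equiv.swap 0 4)
  have hp' : Act F.toFr (Equiv.swap 0 1) p := hp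
  have hq' : Act F.toFr (Equiv.swap 0 4) q := hq
  have a0 : (Equiv.swap 0 1 : Equiv.Perm (Fin 5)) 0 = 1 := by decide
  have a1 : (Equiv.swap 0 1 : Equiv.Perm (Fin 5)) 1 = 0 := by decide
  have a2 : (Equiv.swap 0 1 : Equiv.Perm (Fin 5)) 2 = 2 := by decide
  have a3 : (Equiv.swap 0 1 : Equiv.Perm (Fin 5)) 3 = 3 := by decide
  have a4 : (Equiv.swap 0 1 : Equiv.Perm (Fin 5)) 4 = 4 := by decide
  have b0 : (Equiv.swap 0 4 : Equiv.Perm (Fin 5)) 0 = 4 := by decide
  have b2 : (Equiv.swap 0 4 : Equiv.Perm (Fin 5)) 2 = 2 := by decide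
  have b3 : (Equiv.swap 0 4 : Equiv.Perm (Fin 5)) 3 = 3 := by decide
  have b4 : (Equiv.swap 0 4 : Equiv.Perm (Fin 5)) 4 = 0 := by decide
  refine MElevenOut.false (t := F.T 0 1) (u := F.T 2 3) (v := F.T 3 4) (r := F.T 0 4) (p := p)
    (q := q) (J := F.J) (J' := F.toFr.tr F.J (F.T 2 3)) ?_
  exact {
    tt := F.T_sq _ _
    uu := F.T_sq _ _
    vv := F.T_sq _ _
    rr := F.T_sq _ _
    t1 := ne (by decide)
    r1 := ne (by decide)
    tr_ne := by
      intro h
      apply ne (i := 1) (j := 4) (by decide)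
      rw [← F.T_mul 1 0 4, F.T_symm 1 0, h, F.T_sq]
    u1 := ne (by decide)
    v1 := ne (by decide)
    uv_ne := by
      intro h
      apply ne (i := 2) (j := 4) (by decide)
      rw [← F.T_mul 2 3 4, h, F.T_sq]
    tu := F.comm _ _ _ _
    tv := F.comm _ _ _ _
    tr := F.comm _ _ _ _
    uv := F.comm _ _ _ _
    vr := F.comm _ _ _ _
    uJ := F.T23
    vJ := F.T34
    tJ' := F.toJK.T_mem_J (by decide) (by decide) (by decide) (by decide) (by decide) (by decide)
    rJ' := F.toJK.T_mem_J (by decide) (by decide) (by decide) (by decide) (by decide) (by decide)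
    cJ := F.J_comm
    cJ' := by
      intro x hx
      have h1 := F.J_comm _ ((hmem x).1 hx)
      rw [← hn01]
      calc x * (n * F.T 0 1 * n⁻¹) = n * (n⁻¹ * x * n * F.T 0 1) * n⁻¹ := by group
        _ = n * (F.T 0 1 * (n⁻¹ * x * n)) * n⁻¹ := by rw [h1]
        _ = _ := by group
    nJ := F.J_nml
    nJ' := fun c hc x hx => F.toFr.mem_tr_of_comm hc hx
    hJ := hJ
    hJ' := hJ'
    pt := by
      have h := hp 0 1
      rw [a0, a1, F.T_symm 1 0] at h
      calc p * F.T 0 1 = (p * F.T 0 1 * p⁻¹) * p := by group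
        _ = F.T 0 1 * p := by rw [h]
    pu := comm_of_act hp' a2 a3
    pv := comm_of_act hp' a3 a4
    pr := by
      have h := hp 0 4
      rw [a0, a4] at h
      rw [h, ← F.T_mul 1 0 4, F.T_symm 1 0]
    qu := comm_of_act hq' b2 b3
    qr := by
      have h := hq 0 4
      rw [b0, b4, F.T_symm 4 0] at h
      calc q * F.T 0 4 = (q * F.T 0 4 * q⁻¹) * q := by group
        _ = F.T 0 4 * q := by rw [h]
    qv := by
      have h := hq 3 4
      rw [b3, b4] at h
      rw [h, ← F.T_mul 3 4 0, F.T_symm 4 0]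
    ntu := F.ne
    fix := fun y _ h1 h2 => eq_one_of_two F hm hact h1 h2 }

end Cfsg.Agent.SylowLFive.ThreeMEleven
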