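import Cfsg.Agent.SylowLFive.Three
import Cfsg.Agent.SylowLFive.ThreeMEleven
import Cfsg.Agent.SylowLFive.EndsThreePlus
import Cfsg.Agent.SylowLFive.EndsThreeMinus
import Cfsg.Agent.TypeLFive.JIdent

/-!
# Type `L₅`, `q = 3`: the conclusion
-/

set_option autoImplicit false

namespace Cfsg.Agent.SylowLFive.ThreeFinal

open Subgroup Cfsg
open Cfsg.Agent.TypeLFive.CoreBalance
open Cfsg.Agent.TypeLFive.JIdent
open Cfsg.Agent.SylowLFive.Three
open Cfsg.Agent.SylowLFive.Frame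

universe u

variable {G : Type u} [Group G]

/-- **`q = 3`** -/
theorem final [Finite G] [IsSimpleGroup G] {F : FrX G} {T : Sylow 2 (Q (F.T 0 1))}
    {W1 W2 Q1 : Subgroup (Q (F.T 0 1))} {Fq : Type} [Field Fq] [Fintype Fq] {m : G}
    (H : Hyp3 F T W1 W2 Q1 Fq m) {p : ℕ}
    (hJ : JData ↥(normalClosure (W2 : Set (Q (F.T 0 1)))) Fq p) :
    Nonempty (G ≃* Matrix.ProjectiveSpecialLinearGroup (Fin 5) Fq) ∨
      ∃ (K : Type) (_ : Field K) (_ : Fintype K), Fintype.card K = 3 ^ 2 ∧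
        Nonempty (G ≃* Cfsg.PSU 5 K 3) := by
  obtain ⟨F', rfl, ⟨e⟩, hm, hact, h23, h34, hB⟩ := H.exists_kfr
  have h3 := H.card
  rcases hJ.cases with ⟨⟨f⟩⟩ | ⟨K, i1, i2, hK, hf⟩ | ⟨-, hM⟩
  · exact Or.inl (EndsThree.plus F' hm hact h23 h34 h3 (e.trans f))
  · rw [h3] at hf hK
    obtain ⟨f⟩ := hf
    exact Or.inr ⟨K, i1, i2, hK, EndsThree.minus F' hm hact h23 h34 hB hK (e.trans f)⟩
  · exfalso
    refine ThreeMEleven.false F' hm hact ⟨e.symm.isSimpleGroup_congr.1 hM.1, ?_⟩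
    rw [Nat.card_congr e.toEquiv]
    exact hM.2

end Cfsg.Agent.SylowLFive.ThreeFinal
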