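import Cfsg.Agent.SylowLFive.ModPlus
import Cfsg.Agent.LThreeExt.SU3
import Cfsg.Agent.LThreeModel.SU3

/-!
# The model `SU₃(q)`, `q > 3` odd, and `In F (mod) ⇒ G ≅ PSU₅(q)`
-/

set_option autoImplicit false

namespace Cfsg.Agent.SylowLFive.ModMinus

open Cfsg Cfsg.Agent.Phan Cfsg.Agent.LThreeExt.SU3
open Cfsg.Agent.LThreeModel.SU3 (dg dg_sq dg_mul dg_coe mat_dg)
open Cfsg.Agent.LieClassical.GUOrder (frob frob_apply mul_map_eq_one_iff two_le)

universe u

variable {F : Type u} [Field F] [Fintype F] {q : ℕ}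

theorem two_ne (hF : Fintype.card F = q ^ 2) (hq : Odd q) : (2 : F) ≠ 0 := by
  intro h
  have h1 : ringChar F = 2 := CharP.ringChar_of_prime_eq_zero Nat.prime_two (by exact_mod_cast h)
  have h2 := FiniteField.even_card_iff_char_two.1 h1
  rw [hF] at h2
  have h3 : Odd (q ^ 2) := hq.pow
  rw [Nat.odd_iff] at h3
  omega

theorem mem_stdc {hF : Fintype.card F = q ^ 2} {c : Fin 3} {x : SU 3 F q} (hx : x ∈ std hF c) :
    (x.1 : CTFrame.SL3.S3 F) ∈ (LThreeExt.SL3.stdc c : Subgroup (CTFrame.SL3.S3 F)) := by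
  rw [LThreeExt.SL3.mem_stdc']
  exact fun i => LThreeModel.SU3.blk_of_mem_std hF hx i

theorem comm_dg_of_mem {hF : Fintype.card F = q ^ 2} {c : Fin 3} {x : SU 3 F q}
    (hx : x ∈ std hF c) : x * dg hF c = dg hF c * x :=
  Subtype.ext (ModPlus.comm_dg_of_mem (mem_stdc hx))

theorem center_odd (hF : Fintype.card F = q ^ 2) : ¬ 2 ∣ Nat.card (Subgroup.center (SU 3 F q)) := by
  intro h
  have : Fact (Nat.Prime 2) := ⟨Nat.prime_two⟩
  obtain ⟨x, hx⟩ := exists_prime_orderOf_dvd_card' (G := Subgroup.center (SU 3 F q)) 2 h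
  have h1 : (x : SU 3 F q) ^ 3 = 1 := LThreeModel.SU3.center_pow hF x.2
  have h2 : x ^ 3 = 1 := Subtype.ext h1
  have h3 := orderOf_dvd_of_pow_eq_one h2
  rw [hx] at h3
  norm_num at h3

theorem std_center {hF : Fintype.card F = q ^ 2} {c : Fin 3} {x : SU 3 F q} (hx : x ∈ std hF c)
    (hz : x ∈ Subgroup.center (SU 3 F q)) : x = 1 := by
  have h1 : x ∈ std hF c ⊓ Subgroup.center (SU 3 F q) := ⟨hx, hz⟩
  rw [LThreeModel.SU3.std_inf_center hF c] at h1
  exact Subgroup.mem_bot.1 h1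

theorem center_sq {K : Type*} [Field K] {A : Matrix.SpecialLinearGroup (Fin 2) K}
    (hA : A ∈ Subgroup.center (Matrix.SpecialLinearGroup (Fin 2) K)) : A * A = 1 := by
  obtain ⟨r, hr, e⟩ := Matrix.SpecialLinearGroup.mem_center_iff.1 hA
  apply Subtype.ext
  show A.1 * A.1 = 1
  have e' : A.1 = Matrix.scalar (Fin 2) r := e.symm
  rw [e', ← map_mul, ← sq]
  have : r ^ 2 = 1 := hr
  rw [this, map_one]

theorem std_sq {hF : Fintype.card F = q ^ 2} {c : Fin 3} {x : SU 3 F q} (hx : x ∈ std hF c)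
    (hz : ∀ y ∈ std hF c, x * y = y * x) : x * x = 1 := by
  obtain ⟨e⟩ := LThreeModel.SU3.std_equiv hF c
  have h1 : e ⟨x, hx⟩ ∈ Subgroup.center _ := by
    rw [Subgroup.mem_center_iff]
    intro B
    obtain ⟨⟨y, hy⟩, rfl⟩ := e.surjective B
    rw [← map_mul, ← map_mul]
    congr 1
    exact Subtype.ext (hz y hy).symm
  have h2 := center_sq h1
  rw [← map_mul] at h2
  have h3 : (⟨x, hx⟩ * ⟨x, hx⟩ : std hF c) = 1 := e.injective (by rw [h2, map_one])
  exact congrArg Subtype.val h3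

theorem tor_of_comm (hF : Fintype.card F = q ^ 2) (h2 : (2 : F) ≠ 0) {x : SU 3 F q}
    (hx : x ∈ std hF 2) (h : x * dg hF 0 = dg hF 0 * x) :
    x ∈ ((em hF 2).comp (tau hF) : N1 F q →* SU 3 F q).range := by
  obtain ⟨g, rfl⟩ := hx
  have e10 : mat (em hF 2 g) 1 0 = 0 := (LThreeModel.SU3.comm_dg hF h2 h (i := 1) (by decide)).1
  have e01 : mat (em hF 2 g) 0 1 = 0 := (LThreeModel.SU3.comm_dg hF h2 h (i := 1) (by decide)).2
  rw [mat_em, extM2] at e10 e01
  have e10' : mat g 1 0 = 0 := e10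
  have e01' : mat g 0 1 = 0 := e01
  have hdet := mat_det g
  rw [Matrix.det_fin_two, e10', e01', mul_zero, sub_zero] at hdet
  have hne : mat g 0 0 ≠ 0 := left_ne_zero_of_mul_eq_one hdet
  have hu := congrFun (congrFun (mat_eq hF g) 0) 0
  simp only [Matrix.mul_apply, Fin.sum_univ_two, Matrix.transpose_apply, Matrix.map_apply, e10',
    zero_mul, add_zero, Matrix.one_apply_eq, frob_apply] at hu
  let a : Fˣ := Units.mk0 _ hne
  have ha : a ∈ N1 F q := by
    rw [MonoidHom.mem_ker, powMonoidHom_apply]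
    apply Units.ext
    show (mat g 0 0) ^ (q + 1) = 1
    rw [pow_succ, mul_comm, hu]
  refine ⟨⟨a, ha⟩, ?_⟩
  show em hF 2 (tau hF ⟨a, ha⟩) = em hF 2 g
  congr 1
  apply mat_inj
  rw [mat_tau]
  have h11 : mat g 1 1 = (mat g 0 0)⁻¹ := eq_inv_of_mul_eq_one_right hdet
  ext i j
  fin_cases i <;> fin_cases j <;> simp [e10', e01', h11, a]

theorem n2_dg0 (hF : Fintype.card F = q ^ 2) :
    em hF 2 (wel hF) * dg hF 0 * (em hF 2 (wel hF))⁻¹ = dg hF 1 := by
  apply conj_eq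
  rw [mat_em, mat_wel, mat_dg, mat_dg, extM2]
  ext i j
  fin_cases i <;> fin_cases j <;> simp [Matrix.mul_apply, Fin.sum_univ_three]

/-- **The model.** -/
def mod (hF : Fintype.card F = q ^ 2) (hodd : Odd q) (hq : 3 < q) :
    Recog.Mod (SU 3 F q) (N1 F q) where
  toTri := tri hF hq
  perfS := LieClassical.HermPerfect.commutator_SU_eq_top hF le_rfl (by omega)
  cz := center_odd hF
  dg := dg hF
  dg_sq := dg_sq hF
  dg_mul := dg_mul hF (a := 2) (b := 0) (c := 1) (by decide) (by decide) (by decide)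
  n2_mem := ⟨wel hF, rfl⟩
  n2_dg0 := n2_dg0 hF
  std_dg := fun _ _ hx => comm_dg_of_mem hx
  std_center := fun _ _ hx hz => std_center hx hz
  std_sq := fun _ _ hx hz => std_sq hx hz
  tor_of_comm := fun _ hx hc => tor_of_comm hF (two_ne hF hodd) hx hc
  conj_dg := fun u v hu hv hu1 hv1 huv hc =>
    LThreeModel.SU3.exists_conj hF (two_ne hF hodd) hu hv hu1 hv1 huv hc (a := 2) (b := 0) (by decide)
  perf_le := fun c A hA hc => by
    refine LThreeModel.SU3.le_std hF (two_ne hF hodd) hA ?_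
    intro x hx
    rw [Subgroup.mem_centralizer_singleton_iff]
    exact hc x hx
  card_std := fun c => by
    show Nat.card (std hF c) = Nat.card (std hF 2)
    rw [LThreeModel.SU3.card_std, LThreeModel.SU3.card_std]
  gen := LThreeModel.SU3.std_sup_zero hF (by omega)
  idx := fun r hr hr2 hd => by
    have hd' : (r : ℤ) ∣ (q : ℤ) - (-1) := by
      rw [← (numData hF hq).cardC]
      exact_mod_cast hd
    exact ⟨fun c => (numData hF hq).index1 hr hr2 hd' c, (numData hF hq).index2 hr hr2 hd'⟩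

theorem emb_zero (hF : Fintype.card F = q ^ 2) (g : SU 2 F q) :
    emb hF 0 (by omega : 0 + 2 ≤ 3) g = em hF 2 g := by
  refine ext_congr hF _ _ ?_ g
  funext i
  fin_cases i <;> rfl

theorem emb_one (hF : Fintype.card F = q ^ 2) (g : SU 2 F q) :
    emb hF 1 (by omega : 1 + 2 ≤ 3) g = em hF 0 g := by
  refine ext_congr hF _ _ ?_ g
  funext i
  fin_cases i <;> rfl

theorem range_zero (hF : Fintype.card F = q ^ 2) :
    (emb hF 0 (by omega : 0 + 2 ≤ 3)).range = std hF 2 := by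
  ext x
  constructor
  · rintro ⟨g, rfl⟩; exact ⟨g, (emb_zero hF g).symm⟩
  · rintro ⟨g, rfl⟩; exact ⟨g, emb_zero hF g⟩

theorem range_one (hF : Fintype.card F = q ^ 2) :
    (emb hF 1 (by omega : 1 + 2 ≤ 3)).range = std hF 0 := by
  ext x
  constructor
  · rintro ⟨g, rfl⟩; exact ⟨g, (emb_one hF g).symm⟩
  · rintro ⟨g, rfl⟩; exact ⟨g, emb_one hF g⟩

theorem neg_zero' (hF : Fintype.card F = q ^ 2) :
    emb hF 0 (by omega : 0 + 2 ≤ 3) (negOne hF) = dg hF 2 := by
  rw [emb_zero]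
  apply mat_inj
  rw [mat_em, mat_negOne, extM2, mat_dg]
  ext i j
  fin_cases i <;> fin_cases j <;> simp

theorem neg_one' (hF : Fintype.card F = q ^ 2) :
    emb hF 1 (by omega : 1 + 2 ≤ 3) (negOne hF) = dg hF 0 := by
  rw [emb_one]
  apply mat_inj
  rw [mat_em, mat_negOne, extM0, mat_dg]
  ext i j
  fin_cases i <;> fin_cases j <;> simp

open Cfsg.Agent.SylowLFive.Frame Cfsg.Agent.SylowLFive.KFrame Cfsg.Agent.SylowLFive.Centre in
/-- **Recognition, `ε = -`, `q > 3`** -/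
theorem nonempty_psu_five (hF : Fintype.card F = q ^ 2) (hodd : Odd q) (hq : 3 < q)
    {G : Type*} [Group G] [Finite G] [IsSimpleGroup G] {X : JK G}
    (H : Recog.In X (mod hF hodd hq))
    (hE : ∀ x ∈ X.J, (∀ j ∈ X.J, x * j = j * x) → Odd (orderOf x) → CE X.toFr x) :
    Nonempty (G ≃* PSU 5 F q) := by
  have hfin : Finite (N1 F q) := inferInstance
  have hcyc : IsCyclic (N1 F q) := inferInstance
  obtain ⟨A⟩ := H.exists_ad
  obtain ⟨m, hm, hact⟩ := A.exists_swap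
  obtain ⟨φ, -, hker, hφ⟩ := H.exists_phi hE
  have h5 : 5 ≤ q := by
    obtain ⟨k, hk⟩ := hodd
    omega
  refine Ends.nonempty_psu_five H.toKFr hm hact hF hodd h5 φ hker ?_ ?_ ?_ ?_
  · rw [range_zero]; exact (hφ 2).1
  · rw [range_one]; exact (hφ 0).1
  · rw [neg_zero']; exact (hφ 2).2
  · rw [neg_one']; exact (hφ 0).2

end Cfsg.Agent.SylowLFive.ModMinus
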