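import Mathlib
import Cfsg.Agent.SylowLFive.Centre
import Cfsg.Agent.LThreeExt.Abs

/-!
# From the frame to homomorphisms `SL₃^ε(q) → G`

`Mod S C`: facts on `S = SL₃^ε(q)`, `q > 3` odd. `In F M`: `π : J → S / Z(S)` surjective with
central kernel of odd order, `K → std 2` surjective. Before closing: `J = ⟨K_23, K_24, K_34⟩`
(`In.J_gen`, so `In.toKFr`). After closing: `exists_phi`: `φ : S → G` with image `J`, central kernel,
`φ (std c) = K_ij`, `φ (dg c) = t_ij`.
-/

set_option autoImplicit false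

namespace Cfsg.Agent.SylowLFive.Recog

open Cfsg.Agent.SylowLFive.Frame Cfsg.Agent.SylowLFive.KFrame Cfsg.Agent.SylowLFive.Centre
open Cfsg.Agent.TwoFusion.StronglyEmbeddedBasic
open scoped commutatorElement

/-- Facts on `S = SL₃^ε(q)`, `q > 3` odd, in terms of the standard frame. -/
structure Mod (S : Type*) [Group S] (C : Type*) [CommGroup C] extends LThreeExt.Tri S C where
  perfS : commutator S = ⊤
  cz : ¬ 2 ∣ Nat.card (Subgroup.center S)
  dg : Fin 3 → S
  dg_sq : ∀ c, dg c * dg c = 1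
  dg_mul : dg 2 * dg 0 = dg 1
  n2_mem : n2 ∈ std 2
  n2_dg0 : n2 * dg 0 * n2⁻¹ = dg 1
  std_dg : ∀ c, ∀ x ∈ std c, x * dg c = dg c * x
  std_center : ∀ c, ∀ x ∈ std c, x ∈ Subgroup.center S → x = 1
  std_sq : ∀ c, ∀ x ∈ std c, (∀ y ∈ std c, x * y = y * x) → x * x = 1
  tor_of_comm : ∀ x ∈ std 2, x * dg 0 = dg 0 * x → x ∈ (t 2).range
  conj_dg : ∀ u v : S ⧸ Subgroup.center S, u * u = 1 → v * v = 1 → u ≠ 1 → v ≠ 1 → u ≠ v →
    u * v = v * u → ∃ g : S ⧸ Subgroup.center S, g * u * g⁻¹ = QuotientGroup.mk (dg 2) ∧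
      g * v * g⁻¹ = QuotientGroup.mk (dg 0)
  perf_le : ∀ c, ∀ A : Subgroup (S ⧸ Subgroup.center S), ⁅A, A⁆ = A →
    (∀ a ∈ A, a * QuotientGroup.mk (dg c) = QuotientGroup.mk (dg c) * a) →
      A ≤ (std c).map (QuotientGroup.mk' (Subgroup.center S))
  card_std : ∀ c, Nat.card (std c) = Nat.card (std 2)
  gen : std 2 ⊔ std 0 = ⊤
  idx : ∀ r : ℕ, r.Prime → r ≠ 2 → r ∣ Nat.card C →
    (∀ c, ¬ r ∣ (t c).range.relIndex (std c)) ∧ ¬ r ∣ toTri.hsub.index

variable {G : Type*} [Group G] {S : Type*} [Group S] {C : Type*} [CommGroup C]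

/-- the involutions of the frame in `J`, numbered by the missing point -/
def tau (F : Fr G) : Fin 3 → G := ![F.T 3 4, F.T 2 4, F.T 2 3]

/-- `π : J → S/Z(S)` and `K → std 2` -/
structure In (F : JK G) (M : Mod S C) where
  π : F.J →* S ⧸ Subgroup.center S
  surj : Function.Surjective π
  ker : π.ker ≤ Subgroup.center F.J
  odd : Odd (Nat.card π.ker)
  Jperf : ⁅F.J, F.J⁆ = F.J
  Kperf : ⁅F.K, F.K⁆ = F.K
  κ : F.K →* M.std 2
  κ_surj : Function.Surjective κ

/-- the same with `π` adapted to the frame -/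
structure Ad (F : JK G) (M : Mod S C) extends In F M where
  h2 : ∀ h, π ⟨F.T 2 3, h⟩ = QuotientGroup.mk (M.dg 2)
  h0 : ∀ h, π ⟨F.T 3 4, h⟩ = QuotientGroup.mk (M.dg 0)

section pre

variable {F : JK G} {M : Mod S C}

theorem In.sq_eq_one [Finite G] (H : In F M) {z : F.J} (hz : H.π z = 1) (h : z * z = 1) : z = 1 := by
  have hz' : z ∈ H.π.ker := hz
  have h1 : orderOf z ∣ 2 := orderOf_dvd_of_pow_eq_one (by rw [sq, h])
  have h2 : orderOf z ∣ Nat.card H.π.ker := by
    have : orderOf (⟨z, hz'⟩ : H.π.ker) = orderOf z := Subgroup.orderOf_mk _ _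
    rw [← this]
    exact orderOf_dvd_natCard _
  have h3 : Nat.Coprime 2 (Nat.card H.π.ker) := Nat.coprime_two_left.2 H.odd
  have h4 : orderOf z = 1 := by
    have := Nat.dvd_gcd h1 h2
    rw [h3] at this
    exact Nat.dvd_one.1 this
  exact orderOf_eq_one_iff.1 h4

/-- involutions of `J` with the same image are equal -/
theorem In.inv_eq [Finite G] (H : In F M) {u v : F.J} (hu : u * u = 1) (hv : v * v = 1)
    (h : H.π u = H.π v) : u = v := by
  have h1 : H.π (u * v⁻¹) = 1 := by rw [map_mul, map_inv, h, mul_inv_cancel]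
  have hc := Subgroup.mem_center_iff.1 (H.ker (MonoidHom.mem_ker.2 h1))
  have h2 : (u * v⁻¹) * (u * v⁻¹) = 1 := by
    have e : u * v⁻¹ * (u * v⁻¹) = u * (u * v⁻¹) * v⁻¹ := by
      rw [mul_assoc u v⁻¹ (u * v⁻¹), hc, ← mul_assoc]
    rw [e, ← mul_assoc, hu, one_mul, ← mul_inv_rev, hv, inv_one]
  exact mul_inv_eq_one.1 (H.sq_eq_one h1 h2)

theorem T24_mem (F : JK G) : F.T 2 4 ∈ F.J := by
  rw [← F.T_mul 2 3 4]
  exact mul_mem F.T23 F.T34

/-- Step A: adapt `π` to the frame. -/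
theorem In.exists_ad [Finite G] (H : In F M) : Nonempty (Ad F M) := by
  set u : F.J := ⟨F.T 2 3, F.T23⟩ with hu
  set v : F.J := ⟨F.T 3 4, F.T34⟩ with hv
  have hu2 : u * u = 1 := Subtype.ext (F.T_sq 2 3)
  have hv2 : v * v = 1 := Subtype.ext (F.T_sq 3 4)
  have hu1 : u ≠ 1 := fun h => F.toFr.T_ne_one (i := 2) (j := 3) (by decide)
    (congrArg Subtype.val h)
  have hv1 : v ≠ 1 := fun h => F.toFr.T_ne_one (i := 3) (j := 4) (by decide)
    (congrArg Subtype.val h)
  have huv : u ≠ v := by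
    intro h
    have h1 : F.T 2 3 = F.T 3 4 := congrArg Subtype.val h
    apply F.toFr.T_ne_one (i := 2) (j := 4) (by decide)
    rw [← F.T_mul 2 3 4, h1, F.T_sq]
  have one_sq : (1 : F.J) * 1 = 1 := by simp
  obtain ⟨g, hg1, hg2⟩ := M.conj_dg (H.π u) (H.π v) (by rw [← map_mul, hu2, map_one])
    (by rw [← map_mul, hv2, map_one])
    (fun h => hu1 (H.inv_eq hu2 one_sq (by rw [h, map_one])))
    (fun h => hv1 (H.inv_eq hv2 one_sq (by rw [h, map_one])))
    (fun h => huv (H.inv_eq hu2 hv2 h))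
    (by
      rw [← map_mul, ← map_mul]
      congr 1
      exact Subtype.ext (F.comm 2 3 3 4))
  have hker : ((MulAut.conj g).toMonoidHom.comp H.π).ker = H.π.ker := by
    ext x
    rw [MonoidHom.mem_ker, MonoidHom.mem_ker, MonoidHom.comp_apply]
    exact (MulAut.conj g).map_eq_one_iff
  exact ⟨{
    π := (MulAut.conj g).toMonoidHom.comp H.π
    surj := (MulAut.conj g).surjective.comp H.surj
    ker := by rw [hker]; exact H.ker
    odd := by rw [hker]; exact H.odd
    Jperf := H.Jperf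
    Kperf := H.Kperf
    κ := H.κ
    κ_surj := H.κ_surj
    h2 := fun _ => hg1
    h0 := fun _ => hg2 }⟩

/-- `K_ij` inside `J`, numbered by the missing point -/
def KK (F : JK G) (c : Fin 3) : Subgroup G := F.toFr.tr F.K (tau F.toFr c)

theorem KK_le (F : JK G) (c : Fin 3) : KK F c ≤ F.J := by
  intro x hx
  rw [← F.mem_J_iff]
  fin_cases c
  · exact F.K_le_J (k := 0) (l := 1) (by decide) (by decide) (by decide) (by decide) (by decide)
      (by decide) hx
  · exact F.K_le_J (k := 0) (l := 1) (by decide) (by decide) (by decide) (by decide) (by decide)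
      (by decide) hx
  · exact F.K_le_J (k := 0) (l := 1) (by decide) (by decide) (by decide) (by decide) (by decide)
      (by decide) hx

theorem tau_mem (F : JK G) (c : Fin 3) : tau F.toFr c ∈ F.J := by
  fin_cases c
  · exact F.T34
  · exact T24_mem F
  · exact F.T23

theorem exists_tau (F : JK G) (c : Fin 3) : ∃ n : G, n * F.T 0 1 * n⁻¹ = tau F.toFr c := by
  fin_cases c
  · obtain ⟨n, _, hn⟩ := F.toFr.exists_conj (i := 3) (j := 4) (by decide)
    exact ⟨n, hn⟩
  · obtain ⟨n, _, hn⟩ := F.toFr.exists_conj (i := 2) (j := 4) (by decide)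
    exact ⟨n, hn⟩
  · obtain ⟨n, _, hn⟩ := F.toFr.exists_conj (i := 2) (j := 3) (by decide)
    exact ⟨n, hn⟩

/-- `K_ij` is conjugate to `K` -/
theorem exists_equiv (F : JK G) (c : Fin 3) : Nonempty (KK F c ≃* F.K) := by
  obtain ⟨n, hn⟩ := exists_tau F c
  have h1 : ∀ x, x ∈ KK F c ↔ n⁻¹ * x * n ∈ F.K := fun x => F.toFr.mem_tr_iff F.K_nml hn
  have h2 : KK F c = F.K.map (MulAut.conj n).toMonoidHom := by
    ext x
    rw [h1]
    constructor
    · intro h
      exact ⟨_, h, by show n * (n⁻¹ * x * n) * n⁻¹ = x; group⟩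
    · rintro ⟨y, hy, rfl⟩
      show n⁻¹ * (n * y * n⁻¹) * n ∈ F.K
      have : n⁻¹ * (n * y * n⁻¹) * n = y := by group
      rwa [this]
  exact ⟨(MulEquiv.subgroupCongr h2).trans (F.K.equivMapOfInjective _
    (MulAut.conj n).injective).symm⟩

theorem perf_of_equiv {A B : Subgroup G} (e : A ≃* B) (hB : ⁅B, B⁆ = B) : ⁅A, A⁆ = A := by
  have h1 : commutator B = ⊤ := LThreeExt.perfect_coe hB
  have h2 : commutator A = ⊤ := by
    apply Subgroup.map_injective (f := e.toMonoidHom) e.injective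
    have h3 : ∀ {X Y : Type _} [Group X] [Group Y] (f : X →* Y), Function.Surjective f →
        (commutator X).map f = commutator Y := by
      intro X Y _ _ f hf
      rw [_root_.commutator_def, _root_.commutator_def, Subgroup.map_commutator,
        Subgroup.map_top_of_surjective f hf]
    rw [h3 _ e.surjective, h1, Subgroup.map_top_of_surjective _ e.surjective]
  rw [_root_.commutator_def] at h2
  have h4 := congrArg (Subgroup.map A.subtype) h2
  rw [Subgroup.map_commutator, ← MonoidHom.range_eq_map, Subgroup.range_subtype] at h4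
  exact h4

/-- the copy of `K_ij` as a subgroup of `J` -/
def KJ (F : JK G) (c : Fin 3) : Subgroup F.J := (KK F c).subgroupOf F.J

theorem map_KJ (F : JK G) (c : Fin 3) : (KJ F c).map F.J.subtype = KK F c := by
  unfold KJ
  rw [Subgroup.subgroupOf_map_subtype, inf_eq_left]
  exact KK_le F c

theorem KJ_perf (H : In F M) (c : Fin 3) : ⁅KJ F c, KJ F c⁆ = KJ F c := by
  obtain ⟨e⟩ := exists_equiv F c
  have h1 : ⁅KK F c, KK F c⁆ = KK F c := perf_of_equiv e H.Kperf
  apply Subgroup.map_injective F.J.subtype_injective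
  rw [Subgroup.map_commutator, map_KJ, h1]

theorem Ad.tau_eq (H : Ad F M) (c : Fin 3) (h : tau F.toFr c ∈ F.J) :
    H.π ⟨tau F.toFr c, h⟩ = QuotientGroup.mk (M.dg c) := by
  fin_cases c
  · exact H.h0 F.T34
  · show H.π ⟨F.T 2 4, T24_mem F⟩ = QuotientGroup.mk (M.dg 1)
    have e : (⟨F.T 2 4, T24_mem F⟩ : F.J) = ⟨F.T 2 3, F.T23⟩ * ⟨F.T 3 4, F.T34⟩ :=
      Subtype.ext (F.T_mul 2 3 4).symm
    rw [e, map_mul, H.h2, H.h0, ← QuotientGroup.mk_mul, M.dg_mul]
  · exact H.h2 F.T23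

theorem KK_comm_tau (F : JK G) (c : Fin 3) {x : G} (hx : x ∈ KK F c) :
    x * tau F.toFr c = tau F.toFr c * x := by
  fin_cases c
  · exact F.K_comm_T (by decide) hx
  · exact F.K_comm_T (by decide) hx
  · exact F.K_comm_T (by decide) hx

/-- a finite group of odd order in which squares are trivial is trivial -/
theorem eq_one_of_odd {X : Type*} [Group X] {x : X} (h1 : x * x = 1) (h2 : Odd (orderOf x)) :
    x = 1 := by
  have h3 : orderOf x ∣ 2 := orderOf_dvd_of_pow_eq_one (by rw [sq, h1])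
  have h4 : orderOf x = 1 := by
    rcases (Nat.dvd_prime Nat.prime_two).1 h3 with h | h
    · exact h
    · rw [h] at h2; exact absurd h2 (by decide)
  exact orderOf_eq_one_iff.1 h4

theorem In.odd_of_ker [Finite G] (H : In F M) {x : F.J} (hx : H.π x = 1) : Odd (orderOf x) := by
  have h2 : orderOf x ∣ Nat.card H.π.ker := by
    have : orderOf (⟨x, hx⟩ : H.π.ker) = orderOf x := Subgroup.orderOf_mk _ _
    rw [← this]
    exact orderOf_dvd_natCard _
  exact Odd.of_dvd_nat H.odd h2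

/-- Step B: `π (K_ij) = std c`. -/
theorem Ad.map_eq [Finite G] [Finite S] (H : Ad F M) (c : Fin 3) :
    (KJ F c).map H.π = (M.std c).map (QuotientGroup.mk' (Subgroup.center S)) := by
  have hperf : ⁅(KJ F c).map H.π, (KJ F c).map H.π⁆ = (KJ F c).map H.π := by
    rw [← Subgroup.map_commutator, KJ_perf H.toIn]
  have hle := M.perf_le c _ hperf (by
    rintro _ ⟨x, hx, rfl⟩
    rw [← H.tau_eq c (tau_mem F c), ← map_mul, ← map_mul]
    congr 1
    exact Subtype.ext (KK_comm_tau F c hx))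
  apply Subgroup.eq_of_le_of_card_ge hle
  -- cardinality
  let f : KJ F c →* S ⧸ Subgroup.center S := H.π.comp (KJ F c).subtype
  have hf : f.range = (KJ F c).map H.π := by
    rw [MonoidHom.range_eq_map, ← Subgroup.map_map, ← MonoidHom.range_eq_map,
      Subgroup.range_subtype]
  obtain ⟨e⟩ := exists_equiv F c
  let e1 : KJ F c ≃* KK F c := Subgroup.subgroupOfEquivOfLe (KK_le F c)
  let k : KJ F c →* M.std 2 := H.κ.comp (e1.trans e).toMonoidHom
  have hk : Function.Surjective k := H.κ_surj.comp (e1.trans e).surjective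
  have hker : f.ker ≤ k.ker := by
    intro x hx
    have hx1 : H.π (x : F.J) = 1 := hx
    have hxc := Subgroup.mem_center_iff.1 (H.ker (MonoidHom.mem_ker.2 hx1))
    rw [MonoidHom.mem_ker]
    have hc : ∀ y : M.std 2, k x * y = y * k x := by
      intro y
      obtain ⟨y, rfl⟩ := hk y
      rw [← map_mul, ← map_mul]
      congr 1
      exact Subtype.ext (hxc y).symm
    have h1 : (k x : S) * (k x : S) = 1 := M.std_sq 2 (k x) (k x).2 (fun y hy =>
      congrArg Subtype.val (hc ⟨y, hy⟩))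
    have h2 : k x * k x = 1 := Subtype.ext h1
    apply eq_one_of_odd h2
    have h3 : orderOf x = orderOf (x : F.J) := (Subgroup.orderOf_coe x).symm
    have h4 : Odd (orderOf x) := by rw [h3]; exact H.toIn.odd_of_ker hx1
    exact Odd.of_dvd_nat h4 (orderOf_map_dvd k x)
  have h1 : Nat.card (M.std 2) ∣ Nat.card f.range := by
    rw [← Subgroup.index_ker f]
    have h2 : Nat.card (M.std 2) = k.ker.index := by
      rw [Subgroup.index_ker, MonoidHom.range_eq_top.2 hk, Subgroup.card_top]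
    rw [h2]
    exact Subgroup.index_dvd_of_le hker
  have h2 : Nat.card (M.std 2) ≤ Nat.card f.range := Nat.le_of_dvd Nat.card_pos h1
  have h3 : Nat.card ((M.std c).map (QuotientGroup.mk' (Subgroup.center S))) ≤
      Nat.card (M.std c) :=
    Nat.card_le_card_of_surjective _
      ((QuotientGroup.mk' (Subgroup.center S)).subgroupMap_surjective (M.std c))
  rw [← hf]
  calc _ ≤ Nat.card (M.std c) := h3
    _ = Nat.card (M.std 2) := M.card_std c
    _ ≤ _ := h2

/-- **`J = ⟨K_23, K_24, K_34⟩`**, before closing. -/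
theorem In.J_gen [Finite G] [Finite S] (H : In F M) :
    F.J ≤ F.toFr.tr F.K (F.T 2 3) ⊔ F.toFr.tr F.K (F.T 2 4) ⊔ F.toFr.tr F.K (F.T 3 4) := by
  obtain ⟨A⟩ := H.exists_ad
  set B : Subgroup F.J := KJ F 2 ⊔ KJ F 0 with hB
  have h1 : B.map A.π = ⊤ := by
    rw [hB, Subgroup.map_sup, A.map_eq, A.map_eq, ← Subgroup.map_sup, M.gen,
      Subgroup.map_top_of_surjective _ (QuotientGroup.mk'_surjective _)]
  have h2 : B ⊔ A.π.ker = ⊤ := by
    rw [← Subgroup.comap_map_eq, h1, Subgroup.comap_top]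
  have h3 : B = ⊤ := by
    rw [eq_top_iff]
    have hJ : commutator F.J = ⊤ := LThreeExt.perfect_coe A.Jperf
    rw [← hJ, _root_.commutator_def, ← h2, LThreeExt.commutator_sup_central A.ker]
    exact Subgroup.commutator_le_self _
  intro x hx
  have h4 : (⟨x, hx⟩ : F.J) ∈ B := by rw [h3]; trivial
  have h5 : x ∈ B.map F.J.subtype := ⟨_, h4, rfl⟩
  rw [hB, Subgroup.map_sup, map_KJ, map_KJ] at h5
  have h6 : KK F 2 ⊔ KK F 0 ≤ F.toFr.tr F.K (F.T 2 3) ⊔ F.toFr.tr F.K (F.T 2 4) ⊔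
      F.toFr.tr F.K (F.T 3 4) := sup_le (le_sup_left.trans le_sup_left) le_sup_right
  exact h6 h5

/-- the full frame -/
def In.toKFr [Finite G] [Finite S] (H : In F M) : KFr G := { F with J_gen := H.J_gen }

end pre

theorem sq_of_central {X : Type*} [Group X] {a b w : X} (h : a = b * w)
    (hw : ∀ g, g * w = w * g) (ha : a * a = 1) (hb : b * b = 1) : w * w = 1 := by
  have h1 : a * a = b * b * (w * w) := by
    rw [h]
    calc b * w * (b * w) = b * (w * b) * w := by group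
      _ = b * (b * w) * w := by rw [hw b]
      _ = _ := by group
  rw [ha, hb, one_mul] at h1
  exact h1.symm

section post

variable {F : JK G} {M : Mod S C}

/-- Step C, part 1: odd central elements of `K_ij` are central in `J`. -/
theorem Ad.central [Finite G] [Finite S] (H : Ad F M) (c : Fin 3) {x : G} (hx : x ∈ KK F c)
    (hc : ∀ k ∈ KK F c, x * k = k * x) (ho : Odd (orderOf x)) :
    H.π ⟨x, KK_le F c hx⟩ = 1 := by
  have hmap := H.map_eq c
  have h1 : H.π ⟨x, KK_le F c hx⟩ ∈ (M.std c).map (QuotientGroup.mk' (Subgroup.center S)) := by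
    rw [← hmap]
    exact ⟨_, hx, rfl⟩
  obtain ⟨s, hs, hsx⟩ := h1
  have h2 : ∀ y ∈ M.std c, s * y = y * s := by
    intro y hy
    have h3 : QuotientGroup.mk' (Subgroup.center S) y ∈ (KJ F c).map H.π := by
      rw [hmap]; exact ⟨y, hy, rfl⟩
    obtain ⟨k, hk, hky⟩ := h3
    have h4 : QuotientGroup.mk' (Subgroup.center S) (s * y * (y * s)⁻¹) = 1 := by
      rw [map_mul, map_inv, map_mul, map_mul, hsx, ← hky, ← map_mul, ← map_mul]
      have : (⟨x, KK_le F c hx⟩ : F.J) * k = k * ⟨x, KK_le F c hx⟩ := Subtype.ext (hc k hk)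
      rw [this, mul_inv_cancel]
    have h5 : s * y * (y * s)⁻¹ ∈ Subgroup.center S := (QuotientGroup.eq_one_iff _).1 h4
    have h6 := M.std_center c _ (mul_mem (mul_mem hs hy) (inv_mem (mul_mem hy hs))) h5
    exact mul_inv_eq_one.1 h6
  have h7 := M.std_sq c s hs h2
  have h8 : H.π ⟨x, KK_le F c hx⟩ * H.π ⟨x, KK_le F c hx⟩ = 1 := by
    rw [← hsx, ← map_mul, h7, map_one]
  apply eq_one_of_odd h8
  have h9 : Odd (orderOf (⟨x, KK_le F c hx⟩ : F.J)) := by rwa [Subgroup.orderOf_mk]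
  exact Odd.of_dvd_nat h9 (orderOf_map_dvd _ _)

variable [Finite G] [Finite S] [IsSimpleGroup G]

/-- Step C, part 2: `K` has no odd central elements. -/
theorem Ad.K_centre (H : Ad F M) {x : G} (hx : x ∈ F.K) (hc : ∀ k ∈ F.K, x * k = k * x)
    (ho : Odd (orderOf x)) : x = 1 := by
  refine Centre.K_centre H.toIn.toKFr (x := x) ?_ hx hc ho
  intro y hy hyc hyo j hj
  have h1 := H.central 2 hy hyc hyo
  have h2 := Subgroup.mem_center_iff.1 (H.ker (MonoidHom.mem_ker.2 h1)) ⟨j, hj⟩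
  exact (congrArg Subtype.val h2).symm

theorem Ad.KK_centre (H : Ad F M) (c : Fin 3) {x : G} (hx : x ∈ KK F c)
    (hc : ∀ k ∈ KK F c, x * k = k * x) (ho : Odd (orderOf x)) : x = 1 := by
  obtain ⟨n, hn⟩ := exists_tau F c
  have h1 : ∀ x, x ∈ KK F c ↔ n⁻¹ * x * n ∈ F.K := fun x => F.toFr.mem_tr_iff F.K_nml hn
  have h2 : n⁻¹ * x * n = 1 := by
    refine H.K_centre ((h1 x).1 hx) ?_ ?_
    · intro k hk
      have h3 : n * k * n⁻¹ ∈ KK F c := by
        rw [h1]
        have : n⁻¹ * (n * k * n⁻¹) * n = k := by group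
        rwa [this]
      have h4 := hc _ h3
      calc n⁻¹ * x * n * k = n⁻¹ * (x * (n * k * n⁻¹)) * n := by group
        _ = n⁻¹ * ((n * k * n⁻¹) * x) * n := by rw [h4]
        _ = k * (n⁻¹ * x * n) := by group
    · have := orderOf_conj n⁻¹ x
      rw [inv_inv] at this
      rwa [this]
  calc x = n * (n⁻¹ * x * n) * n⁻¹ := by group
    _ = 1 := by rw [h2]; group

/-- `π` is injective on `K_ij` -/
theorem Ad.inj (H : Ad F M) (c : Fin 3) {x : F.J} (hx : x ∈ KJ F c) (h : H.π x = 1) : x = 1 := by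
  have hc := Subgroup.mem_center_iff.1 (H.ker (MonoidHom.mem_ker.2 h))
  apply Subtype.ext
  refine H.KK_centre c hx ?_ ?_
  · intro k hk
    exact (congrArg Subtype.val (hc ⟨k, KK_le F c hk⟩)).symm
  · have := H.toIn.odd_of_ker h
    rwa [← Subgroup.orderOf_coe] at this

/-- Step D: `|C_K(E)|` divides `|C|`. -/
theorem Ad.card_cE_dvd (H : Ad F M) [Finite C] : Nat.card (cE F.toFr F.K) ∣ Nat.card C := by
  obtain ⟨σ, s0, s1, -, -⟩ := exists_perm4 (a := 2) (b := 3) (c := 0) (d := 1) (by decide)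
    (by decide) (by decide) (by decide) (by decide) (by decide)
  have h0 := card_cE_tr F.toFr F.K_nml σ
  rw [s0, s1] at h0
  rw [← h0]
  set D := cE F.toFr (F.toFr.tr F.K (F.T 2 3)) with hD
  have hDJ : ∀ x ∈ D, x ∈ F.J := fun x hx => KK_le F 2 (mem_cE.1 hx).1
  let f : D →* S ⧸ Subgroup.center S := H.π.comp (Subgroup.inclusion (fun x hx => hDJ x hx))
  have hf : Function.Injective f := by
    rw [injective_iff_map_eq_one]
    intro x hx
    have h1 : (⟨x, hDJ x x.2⟩ : F.J) = 1 := H.inj 2 (mem_cE.1 x.2).1 hx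
    have h2 : (x : G) = 1 := congrArg Subtype.val h1
    exact Subtype.ext h2
  have h1 : f.range ≤ ((M.t 2).range).map (QuotientGroup.mk' (Subgroup.center S)) := by
    rintro _ ⟨x, rfl⟩
    have hx := mem_cE.1 x.2
    have h2 : f x ∈ (M.std 2).map (QuotientGroup.mk' (Subgroup.center S)) := by
      rw [← H.map_eq 2]
      exact ⟨⟨x, hDJ x x.2⟩, hx.1, rfl⟩
    obtain ⟨s, hs, hsx⟩ := h2
    refine ⟨s, ?_, hsx⟩
    apply M.tor_of_comm s hs
    -- `s` commutes with `dg 0` modulo the centre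
    have h3 : QuotientGroup.mk' (Subgroup.center S) (s * M.dg 0 * s⁻¹) =
        QuotientGroup.mk' (Subgroup.center S) (M.dg 0) := by
      have h4 : QuotientGroup.mk' (Subgroup.center S) (M.dg 0) = H.π ⟨F.T 3 4, F.T34⟩ :=
        (H.h0 F.T34).symm
      rw [map_mul, map_mul, map_inv, hsx, h4]
      show H.π ⟨x, hDJ x x.2⟩ * H.π ⟨F.T 3 4, F.T34⟩ * (H.π ⟨x, hDJ x x.2⟩)⁻¹ = _
      rw [← map_inv, ← map_mul, ← map_mul]
      congr 1
      apply Subtype.ext
      show (x : G) * F.T 3 4 * (x : G)⁻¹ = F.T 3 4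
      rw [hx.2 3 4, mul_inv_cancel_right]
    have h5 : (s * M.dg 0 * s⁻¹)⁻¹ * M.dg 0 ∈ Subgroup.center S :=
      QuotientGroup.eq.1 h3
    set w := (s * M.dg 0 * s⁻¹)⁻¹ * M.dg 0 with hw
    have hwc := Subgroup.mem_center_iff.1 h5
    have h6 : M.dg 0 = (s * M.dg 0 * s⁻¹) * w := by rw [hw]; group
    have h7 : w * w = 1 := by
      refine sq_of_central h6 hwc (M.dg_sq 0) ?_
      calc (s * M.dg 0 * s⁻¹) * (s * M.dg 0 * s⁻¹) = s * (M.dg 0 * M.dg 0) * s⁻¹ := by group
        _ = 1 := by rw [M.dg_sq]; group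
    have h10 : w = 1 := by
      apply eq_one_of_odd h7
      have h11 : orderOf w ∣ Nat.card (Subgroup.center S) := by
        have : orderOf (⟨w, h5⟩ : Subgroup.center S) = orderOf w := Subgroup.orderOf_mk _ _
        rw [← this]
        exact orderOf_dvd_natCard _
      exact Odd.of_dvd_nat (Nat.not_even_iff_odd.1 (fun h => M.cz (even_iff_two_dvd.1 h))) h11
    rw [h10, mul_one] at h6
    calc s * M.dg 0 = (s * M.dg 0 * s⁻¹) * s := by group
      _ = M.dg 0 * s := by rw [← h6]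
  have h2 : Nat.card D = Nat.card f.range := Nat.card_congr (MonoidHom.ofInjective hf).toEquiv
  rw [h2]
  refine (Subgroup.card_dvd_of_le h1).trans ?_
  rw [← MonoidHom.range_comp]
  exact Subgroup.card_range_dvd _

end post

/-- an element acting as `swap 2 3` on `T i 4` induces `swap 2 3` -/
theorem act_of {F : Fr G} {n : G} (h0 : n * F.T 0 4 * n⁻¹ = F.T 0 4)
    (h1 : n * F.T 1 4 * n⁻¹ = F.T 1 4) (h2 : n * F.T 2 4 * n⁻¹ = F.T 3 4)
    (h3 : n * F.T 3 4 * n⁻¹ = F.T 2 4) : Act F (Equiv.swap 2 3) n := by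
  have key : ∀ i : Fin 5, n * F.T i 4 * n⁻¹ = F.T (Equiv.swap 2 3 i) 4 := by
    intro i
    fin_cases i
    · exact h0
    · exact h1
    · exact h2
    · exact h3
    · show n * F.T 4 4 * n⁻¹ = F.T 4 4
      rw [F.T_self]
      group
  intro i j
  calc n * F.T i j * n⁻¹ = n * (F.T i 4 * F.T 4 j) * n⁻¹ := by rw [F.T_mul]
    _ = (n * F.T i 4 * n⁻¹) * (n * F.T j 4 * n⁻¹) := by rw [F.T_symm 4 j]; group
    _ = F.T (Equiv.swap 2 3 i) (Equiv.swap 2 3 j) := by
      rw [key, key, F.T_symm (Equiv.swap 2 3 j) 4, F.T_mul]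

section post

variable {F : JK G} {M : Mod S C} [Finite G] [Finite S]

theorem Ad.exists_swap23 (H : Ad F M) : ∃ n ∈ KK F 2, Act F.toFr (Equiv.swap 2 3) n := by
  have h1 : QuotientGroup.mk' (Subgroup.center S) M.n2 ∈ (KJ F 2).map H.π := by
    rw [H.map_eq]; exact ⟨_, M.n2_mem, rfl⟩
  obtain ⟨n, hn, hnn⟩ := h1
  refine ⟨n, hn, ?_⟩
  have hn' : (n : G) ∈ F.toFr.tr F.K (F.T 2 3) := hn
  -- `n` commutes with `T 0 4`, `T 1 4`
  have c1 : ∀ i j : Fin 5, i ≠ j → 2 ≠ i → 2 ≠ j → 3 ≠ i → 3 ≠ j →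
      (n : G) * F.T i j * (n : G)⁻¹ = F.T i j := by
    intro i j h1 h2 h3 h4 h5
    have := F.K_comm_J (i := 2) (j := 3) (by decide) n hn' _
      (F.T_mem_J (i := i) (j := j) (k := 2) (l := 3) (by decide) h2 h3 h4 h5 h1)
    rw [this, mul_inv_cancel_right]
  -- `n T34 n⁻¹ = T24`
  set t34 : F.J := ⟨F.T 3 4, F.T34⟩ with h34
  set t24 : F.J := ⟨F.T 2 4, T24_mem F⟩ with h24
  have e34 : t34 * t34 = 1 := Subtype.ext (F.T_sq 3 4)
  have e24 : t24 * t24 = 1 := Subtype.ext (F.T_sq 2 4)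
  have p34 : H.π t34 = QuotientGroup.mk (M.dg 0) := H.h0 _
  have p24 : H.π t24 = QuotientGroup.mk (M.dg 1) := H.tau_eq 1 _
  have hnn' : H.π n = QuotientGroup.mk M.n2 := hnn
  have k1 : n * t34 * n⁻¹ = t24 := by
    apply H.toIn.inv_eq _ e24
    · rw [map_mul, map_mul, map_inv, p34, p24, hnn', ← QuotientGroup.mk_mul,
        ← QuotientGroup.mk_inv, ← QuotientGroup.mk_mul, M.n2_dg0]
    · calc n * t34 * n⁻¹ * (n * t34 * n⁻¹) = n * (t34 * t34) * n⁻¹ := by group
        _ = 1 := by rw [e34]; group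
  have k2 : n * t24 * n⁻¹ = t34 := by
    apply H.toIn.inv_eq _ e34
    · rw [map_mul, map_mul, map_inv, p34, p24, hnn', ← QuotientGroup.mk_mul,
        ← QuotientGroup.mk_inv, ← QuotientGroup.mk_mul]
      congr 1
      have h1 : M.n2 * M.dg 2 * M.n2⁻¹ = M.dg 2 := by
        rw [M.std_dg 2 _ M.n2_mem, mul_inv_cancel_right]
      calc M.n2 * M.dg 1 * M.n2⁻¹ = (M.n2 * M.dg 2 * M.n2⁻¹) * (M.n2 * M.dg 0 * M.n2⁻¹) := by
            rw [← M.dg_mul]; group
        _ = M.dg 2 * (M.dg 2 * M.dg 0) := by rw [h1, M.n2_dg0, M.dg_mul]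
        _ = M.dg 0 := by rw [← mul_assoc, M.dg_sq, one_mul]
    · calc n * t24 * n⁻¹ * (n * t24 * n⁻¹) = n * (t24 * t24) * n⁻¹ := by group
        _ = 1 := by rw [e24]; group
  exact act_of (c1 0 4 (by decide) (by decide) (by decide) (by decide) (by decide))
    (c1 1 4 (by decide) (by decide) (by decide) (by decide) (by decide))
    (congrArg Subtype.val k2) (congrArg Subtype.val k1)

/-- Step E -/
theorem Ad.exists_swap (H : Ad F M) : ∃ m ∈ F.K, Act F.toFr (Equiv.swap 0 1) m := by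
  obtain ⟨n, hn, hact⟩ := H.exists_swap23
  obtain ⟨σ, s0, s1, s2, s3⟩ := exists_perm4 (a := 2) (b := 3) (c := 0) (d := 1) (by decide)
    (by decide) (by decide) (by decide) (by decide) (by decide)
  obtain ⟨m, hm⟩ := F.perm σ
  have hm' : Act F.toFr σ m := hm
  refine ⟨m * n * m⁻¹, ?_, ?_⟩
  · rw [← F.mem_K_iff]
    have h1 := tr_conj F.toFr hm (show n ∈ F.toFr.tr F.K (F.T 2 3) from hn)
    rwa [s2, s3] at h1
  · have := (hm'.mul hact).mul hm'.inv
    rwa [← Equiv.swap_apply_apply, s2, s3] at this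

variable [IsSimpleGroup G]

/-- Step F: a prime divisor of `|ker π|` divides `|C|`. -/
theorem Ad.prime_dvd (H : Ad F M) [Finite C]
    (hE : ∀ x ∈ F.J, (∀ j ∈ F.J, x * j = j * x) → Odd (orderOf x) → CE F.toFr x)
    {r : ℕ} (hr : r.Prime) (hd : r ∣ Nat.card H.π.ker) : r ∣ Nat.card C := by
  have : Fact r.Prime := ⟨hr⟩
  obtain ⟨x, hx⟩ := exists_prime_orderOf_dvd_card' (G := H.π.ker) r hd
  have hxc := Subgroup.mem_center_iff.1 (H.ker x.2)
  have hxo : orderOf ((x : F.J) : G) = r := by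
    rw [Subgroup.orderOf_coe, Subgroup.orderOf_coe, hx]
  have hxJ : ∀ j ∈ F.J, ((x : F.J) : G) * j = j * ((x : F.J) : G) := fun j hj =>
    (congrArg Subtype.val (hxc ⟨j, hj⟩)).symm
  have hodd : Odd (orderOf ((x : F.J) : G)) := by
    rw [hxo]
    exact Odd.of_dvd_nat H.odd hd
  have hCE := hE _ (x : F.J).2 hxJ hodd
  obtain ⟨m, hm, hact⟩ := H.exists_swap
  have h1 := dvd_card H.toIn.toKFr.toFr5 (Q := F.K) F.K_nml hm hact hCE hxJ hr hxo
  exact h1.trans H.card_cE_dvd

/-- **Homomorphisms `SL₃^ε(q) → G`.** -/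
theorem In.exists_phi (H : In F M) [Finite C] [IsCyclic C]
    (hE : ∀ x ∈ F.J, (∀ j ∈ F.J, x * j = j * x) → Odd (orderOf x) → CE F.toFr x) :
    ∃ φ : S →* G, φ.range = F.J ∧ φ.ker ≤ Subgroup.center S ∧
      ∀ c, (M.std c).map φ = KK F c ∧ φ (M.dg c) = tau F.toFr c := by
  obtain ⟨A⟩ := H.exists_ad
  have hprime : ∀ r : ℕ, r.Prime → r ∣ Nat.card A.π.ker → r ≠ 2 ∧ r ∣ Nat.card C := by
    intro r hr hd
    refine ⟨?_, A.prime_dvd hE hr hd⟩
    rintro rfl
    exact Nat.not_even_iff_odd.2 A.odd (even_iff_two_dvd.2 hd)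
  obtain ⟨φ, hφ, hφπ⟩ := M.toTri.exists_hom A.π (QuotientGroup.mk' (Subgroup.center S)) A.surj
    (QuotientGroup.mk'_surjective _) A.ker (LThreeExt.perfect_coe A.Jperf) M.perfS
    (fun h => Nat.not_even_iff_odd.2 A.odd (even_iff_two_dvd.2 h))
    (fun r hr hd => (M.idx r hr (hprime r hr hd).1 (hprime r hr hd).2).1)
    (fun r hr hd => (M.idx r hr (hprime r hr hd).1 (hprime r hr hd).2).2)
  have hφπ' : ∀ x, A.π (φ x) = QuotientGroup.mk' (Subgroup.center S) x := fun x =>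
    DFunLike.congr_fun hφπ x
  refine ⟨F.J.subtype.comp φ, ?_, ?_, ?_⟩
  · rw [MonoidHom.range_comp, MonoidHom.range_eq_top.2 hφ, ← MonoidHom.range_eq_map,
      Subgroup.range_subtype]
  · intro x hx
    have h1 : φ x = 1 := Subtype.ext (MonoidHom.mem_ker.1 hx)
    have h2 : QuotientGroup.mk' (Subgroup.center S) x = 1 := by rw [← hφπ', h1, map_one]
    exact (QuotientGroup.eq_one_iff x).1 h2
  · intro c
    constructor
    · rw [← Subgroup.map_map]
      have h1 : (M.std c).map φ = KJ F c := by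
        apply LThreeExt.eq_of_map_eq A.ker (LThreeExt.perf_map (M.perf c)) (KJ_perf A.toIn c)
        rw [Subgroup.map_map, hφπ, A.map_eq]
      rw [h1, map_KJ]
    · show ((φ (M.dg c) : F.J) : G) = tau F.toFr c
      have h1 : φ (M.dg c) = ⟨tau F.toFr c, tau_mem F c⟩ := by
        apply A.toIn.inv_eq
        · rw [← map_mul, M.dg_sq, map_one]
        · apply Subtype.ext
          show tau F.toFr c * tau F.toFr c = 1
          fin_cases c
          · exact F.T_sq 3 4
          · exact F.T_sq 2 4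
          · exact F.T_sq 2 3
        · rw [hφπ', A.tau_eq]; rfl
      rw [h1]

end post

end Cfsg.Agent.SylowLFive.Recog
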