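import Cfsg.Agent.SylowLFive.Ends
import Cfsg.Agent.SylowLFive.Recog
import Cfsg.Agent.LThreeExt.SL3
import Cfsg.Agent.LThreeModel.SL3

/-!
# The model `SL₃(q)`, `q > 3` odd, and `In F (mod) ⇒ G ≅ PSL₅(q)`
-/

set_option autoImplicit false

namespace Cfsg.Agent.SylowLFive.ModPlus

open Cfsg.Agent.CTFrame.SL3 Cfsg.Agent.LThreeExt.SL3

universe u

variable {F : Type u} [Field F]

theorem stdc_eq {a b c : Fin 3} (hab : a ≠ b) (hbc : b ≠ c) (hac : a ≠ c) :
    (stdc c : Subgroup (S3 F)) = std a b := by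
  rw [← LThreeModel.SL3.Blk_eq_std hab hbc hac]
  ext g
  exact mem_stdc

theorem others (c : Fin 3) : ∃ a b : Fin 3, a ≠ b ∧ b ≠ c ∧ a ≠ c := by
  revert c; decide

theorem w2_mem : (w2 : S3 F) ∈ (stdc 2 : Subgroup (S3 F)) := by
  rw [mem_stdc']
  intro i
  rw [w2_coe]
  fin_cases i <;> simp

theorem w2_dg0 : (w2 : S3 F) * dg 0 * w2⁻¹ = dg 1 := by
  apply Subtype.ext
  rw [conj_w2]
  ext i j
  have h := fun i k => dg_coe (F := F) 0 i k
  have h' := dg_coe (F := F) 1 i j
  simp only [en] at h h'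
  rw [h']
  fin_cases i <;> fin_cases j <;> simp [h]

theorem comm_dg_of_mem {c : Fin 3} {x : S3 F} (hx : x ∈ (stdc c : Subgroup (S3 F))) :
    x * dg c = dg c * x := by
  have h := mem_stdc'.1 hx
  have h2 : dg c * x * (dg c)⁻¹ = x := by
    apply en_ext
    intro i k
    rw [dg_conj]
    by_cases hi : i = c
    · by_cases hk : k = c
      · simp [hi, hk]
      · have h3 : en x c k = 0 := by
          have := (h k).2
          rwa [if_neg hk] at this
        rw [hi, h3]; simp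
    · by_cases hk : k = c
      · have h3 : en x i c = 0 := by
          have := (h i).1
          rwa [if_neg hi] at this
        rw [hk, h3]; simp
      · simp [hi, hk]
  calc x * dg c = (dg c * x * (dg c)⁻¹) * dg c := by rw [h2]
    _ = dg c * x := by group

theorem center_odd [Finite F] : ¬ 2 ∣ Nat.card (Subgroup.center (S3 F)) := by
  intro h
  obtain ⟨x, hx⟩ := exists_prime_orderOf_dvd_card' (G := Subgroup.center (S3 F)) 2 h
  have h1 : (x : S3 F) ^ 3 = 1 := LThreeModel.SL3.center_pow x.2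
  have h2 : x ^ 3 = 1 := Subtype.ext h1
  have h3 := orderOf_dvd_of_pow_eq_one h2
  rw [hx] at h3
  norm_num at h3

theorem std_center {c : Fin 3} {x : S3 F} (hx : x ∈ (stdc c : Subgroup (S3 F)))
    (hz : x ∈ Subgroup.center (S3 F)) : x = 1 := by
  obtain ⟨a, b, hab, hbc, hac⟩ := others c
  have h := LThreeModel.SL3.std_inf_center (F := F) hab hbc hac
  rw [stdc_eq hab hbc hac] at hx
  have h1 : x ∈ (std a b : Subgroup (S3 F)) ⊓ Subgroup.center (S3 F) := ⟨hx, hz⟩
  rw [h] at h1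
  exact Subgroup.mem_bot.1 h1

theorem std_sq [Fintype F] {c : Fin 3} {x : S3 F} (hx : x ∈ (stdc c : Subgroup (S3 F)))
    (hz : ∀ y ∈ (stdc c : Subgroup (S3 F)), x * y = y * x) : x * x = 1 := by
  obtain ⟨A, rfl⟩ := hx
  have hA : A ∈ Subgroup.center (Matrix.SpecialLinearGroup (Fin 2) F) := by
    rw [Subgroup.mem_center_iff]
    intro B
    have h1 := hz (bl (pr c) (pr_inj c) B) ⟨B, rfl⟩
    rw [← map_mul, ← map_mul] at h1
    have h2 := congrArg Subtype.val h1
    exact Subtype.ext (Phan.extM_inj (pr_inj c) h2).symm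
  obtain ⟨r, hr, e⟩ := Matrix.SpecialLinearGroup.mem_center_iff.1 hA
  have h3 : A * A = 1 := by
    apply Subtype.ext
    show A.1 * A.1 = 1
    have e' : A.1 = Matrix.scalar (Fin 2) r := e.symm
    rw [e', ← map_mul, ← sq]
    have : r ^ 2 = 1 := hr
    rw [this, map_one]
  rw [← map_mul, h3, map_one]

theorem tor_of_comm (h2 : (2 : F) ≠ 0) {x : S3 F} (hx : x ∈ (stdc 2 : Subgroup (S3 F)))
    (h : x * dg 0 = dg 0 * x) : x ∈ (tc 2 : Fˣ →* S3 F).range := by
  have hm := mem_stdc'.1 hx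
  have e10 : en x 1 0 = 0 := (LThreeModel.SL3.comm_dg h2 h (i := 1) (by decide)).1
  have e01 : en x 0 1 = 0 := (LThreeModel.SL3.comm_dg h2 h (i := 1) (by decide)).2
  have e20 : x.1 2 0 = 0 := by have := (hm 0).2; simpa using this
  have e21 : x.1 2 1 = 0 := by have := (hm 1).2; simpa using this
  have e02 : x.1 0 2 = 0 := by have := (hm 0).1; simpa using this
  have e12 : x.1 1 2 = 0 := by have := (hm 1).1; simpa using this
  have e22 : x.1 2 2 = 1 := by have := (hm 2).1; simpa using this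
  have hdet := x.2
  rw [Matrix.det_fin_three] at hdet
  simp only [en] at e10 e01
  have hd : x.1 0 0 * x.1 1 1 = 1 := by
    rw [e10, e01, e20, e21, e02, e12, e22] at hdet
    linear_combination hdet
  refine ⟨⟨x.1 0 0, x.1 1 1, hd, by rw [mul_comm]; exact hd⟩, ?_⟩
  apply Subtype.ext
  rw [tc2_coe]
  ext i j
  fin_cases i <;> fin_cases j <;> simp [e10, e01, e20, e21, e02, e12, e22]

theorem conj_dg (h2 : (2 : F) ≠ 0) (u v : S3 F ⧸ Subgroup.center (S3 F)) (hu : u * u = 1)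
    (hv : v * v = 1) (hu1 : u ≠ 1) (hv1 : v ≠ 1) (huv : u ≠ v) (hc : u * v = v * u) :
    ∃ g : S3 F ⧸ Subgroup.center (S3 F), g * u * g⁻¹ = QuotientGroup.mk (dg 2) ∧
      g * v * g⁻¹ = QuotientGroup.mk (dg 0) :=
  LThreeModel.SL3.exists_conj h2 hu hv hu1 hv1 huv hc (a := 2) (b := 0) (by decide)

theorem perf_le (h2 : (2 : F) ≠ 0) (c : Fin 3) (A : Subgroup (S3 F ⧸ Subgroup.center (S3 F)))
    (hA : ⁅A, A⁆ = A)
    (hc : ∀ a ∈ A, a * QuotientGroup.mk (dg c) = QuotientGroup.mk (dg c) * a) :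
    A ≤ (stdc c : Subgroup (S3 F)).map (QuotientGroup.mk' (Subgroup.center (S3 F))) := by
  obtain ⟨a, b, hab, hbc, hac⟩ := others c
  rw [stdc_eq hab hbc hac]
  refine LThreeModel.SL3.le_std hab hbc hac h2 hA ?_
  intro x hx
  rw [Subgroup.mem_centralizer_singleton_iff]
  exact hc x hx

/-- **The model.** -/
def mod [Fintype F] (h : 3 < Fintype.card F) (h2 : (2 : F) ≠ 0) : Recog.Mod (S3 F) Fˣ where
  toTri := tri h
  perfS := LieClassical.SLGen.commutator_eq_top (by simp)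
  cz := center_odd
  dg := dg
  dg_sq := dg_sq
  dg_mul := dg_mul (a := 2) (b := 0) (c := 1) (by decide) (by decide) (by decide)
  n2_mem := w2_mem
  n2_dg0 := w2_dg0
  std_dg := fun _ _ hx => comm_dg_of_mem hx
  std_center := fun _ _ hx hz => std_center hx hz
  std_sq := fun _ _ hx hz => std_sq hx hz
  tor_of_comm := fun _ hx hc => tor_of_comm h2 hx hc
  conj_dg := conj_dg h2
  perf_le := perf_le h2
  card_std := fun c => by rw [tri_std, tri_std, card_stdc, card_stdc]
  gen := by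
    show (stdc 2 ⊔ stdc 0 : Subgroup (S3 F)) = ⊤
    rw [stdc_two, stdc_zero]
    exact LThreeModel.SL3.std_sup (by decide) (by decide) (by decide)
  idx := fun r hr hr2 hd => by
    have hd' : (r : ℤ) ∣ (Fintype.card F : ℤ) - 1 := by
      rw [← (numData h).cardC]
      exact_mod_cast hd
    exact ⟨fun c => (numData h).index1 hr hr2 hd' c, (numData h).index2 hr hr2 hd'⟩

theorem mod_std [Fintype F] (h : 3 < Fintype.card F) (h2 : (2 : F) ≠ 0) (c : Fin 3) :
    (mod h h2).std c = (stdc c : Subgroup (S3 F)) := rfl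

theorem mod_dg [Fintype F] (h : 3 < Fintype.card F) (h2 : (2 : F) ≠ 0) (c : Fin 3) :
    (mod h h2).dg c = (dg c : S3 F) := rfl

theorem range_up : (FramePlus.up F).range = (stdc 2 : Subgroup (S3 F)) := by
  have h : ∀ M : Matrix.SpecialLinearGroup (Fin 2) F, FramePlus.up F M = bl (pr 2) (pr_inj 2) M := by
    intro M
    apply Subtype.ext
    rw [FramePlus.up_val]
    show _ = Phan.extM (pr 2) M.1
    ext i j
    fin_cases i <;> fin_cases j <;>
      simp [Phan.extM, pr, Matrix.mul_apply, Phan.inc_apply, Fin.sum_univ_two, Matrix.one_apply]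
  ext x
  constructor
  · rintro ⟨M, rfl⟩; exact ⟨M, (h M).symm⟩
  · rintro ⟨M, rfl⟩; exact ⟨M, h M⟩

theorem range_lo : (FramePlus.lo F).range = (stdc 0 : Subgroup (S3 F)) := by
  have h : ∀ M : Matrix.SpecialLinearGroup (Fin 2) F, FramePlus.lo F M = bl (pr 0) (pr_inj 0) M := by
    intro M
    apply Subtype.ext
    rw [FramePlus.lo_val]
    show _ = Phan.extM (pr 0) M.1
    ext i j
    fin_cases i <;> fin_cases j <;>
      simp [Phan.extM, pr, Matrix.mul_apply, Phan.inc_apply, Fin.sum_univ_two, Matrix.one_apply]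
  ext x
  constructor
  · rintro ⟨M, rfl⟩; exact ⟨M, (h M).symm⟩
  · rintro ⟨M, rfl⟩; exact ⟨M, h M⟩

theorem dm_eq : FramePlus.dm F = dg 2 := by
  apply Subtype.ext
  rw [FramePlus.dm_val]
  ext i j
  have h := dg_coe (F := F) 2 i j
  simp only [en] at h
  rw [h]
  fin_cases i <;> fin_cases j <;> simp

theorem dp_eq : FramePlus.dp F = dg 0 := by
  apply Subtype.ext
  rw [FramePlus.dp_val]
  ext i j
  have h := dg_coe (F := F) 0 i j
  simp only [en] at h
  rw [h]
  fin_cases i <;> fin_cases j <;> simp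

open Cfsg.Agent.SylowLFive.Frame Cfsg.Agent.SylowLFive.KFrame Cfsg.Agent.SylowLFive.Centre in
/-- **Recognition, `ε = +`, `q > 3`** -/
theorem nonempty_psl_five [Fintype F] (h : 3 < Fintype.card F) (h2 : (2 : F) ≠ 0)
    {G : Type*} [Group G] [Finite G] [IsSimpleGroup G] {X : JK G} (H : Recog.In X (mod h h2))
    (hE : ∀ x ∈ X.J, (∀ j ∈ X.J, x * j = j * x) → Odd (orderOf x) → CE X.toFr x) :
    Nonempty (G ≃* Matrix.ProjectiveSpecialLinearGroup (Fin 5) F) := by
  obtain ⟨A⟩ := H.exists_ad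
  obtain ⟨m, hm, hact⟩ := A.exists_swap
  obtain ⟨φ, -, hker, hφ⟩ := H.exists_phi hE
  refine Ends.nonempty_psl_five H.toKFr hm hact h2 φ hker ?_ ?_ ?_ ?_
  · rw [range_up]; exact (hφ 2).1
  · rw [range_lo]; exact (hφ 0).1
  · rw [dm_eq]; exact (hφ 2).2
  · rw [dp_eq]; exact (hφ 0).2

end Cfsg.Agent.SylowLFive.ModPlus
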