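import Mathlib
import Cfsg.Agent.S0257

/-!
# Automorphisms of the quaternion group of order 8

Auxiliary facts for the case `q = 3` of type `L₅`.
-/

set_option autoImplicit false

namespace Cfsg.Agent.SylowLFive.ThreeAux

open Subgroup

abbrev Q8 := QuaternionGroup 2

/-- the map with given values on the generators -/
def ev (p q : Q8) : Q8 → Q8
  | .a i => p ^ i.val
  | .xa i => q * p ^ i.val

theorem apply_eq (γ : MulAut Q8) (x : Q8) : γ x = ev (γ (.a 1)) (γ (.xa 0)) x := by
  rcases x with i | i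
  · show γ (.a i) = γ (.a 1) ^ i.val
    rw [← map_pow]
    congr 1
    have h := QuaternionGroup.a_one_pow (n := 2) i.val
    rw [h, ZMod.natCast_zmod_val]
  · show γ (.xa i) = γ (.xa 0) * γ (.a 1) ^ i.val
    rw [← map_pow, ← map_mul]
    congr 1
    have h := QuaternionGroup.a_one_pow (n := 2) i.val
    rw [h, ZMod.natCast_zmod_val, QuaternionGroup.xa_mul_a, zero_add]

theorem nc (γ : MulAut Q8) : γ (.a 1) * γ (.xa 0) ≠ γ (.xa 0) * γ (.a 1) := by
  rw [← map_mul, ← map_mul]
  intro h
  have := γ.injective h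
  revert this
  decide

theorem eq_one_of {γ : MulAut Q8} (h1 : γ (.a 1) = .a 1) (h2 : γ (.xa 0) = .xa 0) : γ = 1 := by
  ext x
  rw [apply_eq γ x, h1, h2, MulAut.one_apply]
  rcases x with i | i
  · show (QuaternionGroup.a 1 : Q8) ^ i.val = .a i
    rw [QuaternionGroup.a_one_pow (n := 2) i.val, ZMod.natCast_zmod_val]
  · show (QuaternionGroup.xa 0 : Q8) * (QuaternionGroup.a 1 : Q8) ^ i.val = .xa i
    rw [QuaternionGroup.a_one_pow (n := 2) i.val, ZMod.natCast_zmod_val, QuaternionGroup.xa_mul_a,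
      zero_add]

set_option maxRecDepth 100000 in
theorem pow34 : ∀ p q : Q8, p * q ≠ q * p →
    (ev p q (ev p q p) = .a 1 ∧ ev p q (ev p q q) = .xa 0) ∨
    (ev p q (ev p q (ev p q p)) = .a 1 ∧ ev p q (ev p q (ev p q q)) = .xa 0) := by
  decide

set_option maxRecDepth 100000 in
theorem comm : ∀ p q : Q8, p * q ≠ q * p → (ev p q (ev p q p) = .a 1 ∧ ev p q (ev p q q) = .xa 0) →
    ∀ r s : Q8, r * s ≠ s * r → ev r s r = .a 1 → ev r s s = .xa 0 → ev p q r = ev r s p →
    ev p q s = ev r s q → (p = .a 1 ∧ q = .xa 0) ∨ (r = .a 1 ∧ s = .xa 0) := by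
  decide

theorem cube {γ : MulAut Q8} (h : Odd (orderOf γ)) : γ ^ 3 = 1 := by
  have e2 : ∀ x, γ (γ x) = ev (γ (.a 1)) (γ (.xa 0)) (ev (γ (.a 1)) (γ (.xa 0)) x) := fun x => by
    rw [apply_eq γ (γ x), apply_eq γ x]
  rcases pow34 _ _ (nc γ) with ⟨h1, h2⟩ | ⟨h1, h2⟩
  · apply eq_one_of
    · rw [← apply_eq γ, ← apply_eq γ] at h1
      exact h1
    · rw [← apply_eq γ, ← apply_eq γ] at h2
      exact h2
  · have h4 : γ ^ 4 = 1 := by
      apply eq_one_of
      · rw [← apply_eq γ, ← apply_eq γ, ← apply_eq γ] at h1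
        exact h1
      · rw [← apply_eq γ, ← apply_eq γ, ← apply_eq γ] at h2
        exact h2
    have h5 : orderOf γ ∣ 4 := orderOf_dvd_of_pow_eq_one h4
    have h6 : orderOf γ = 1 := by
      have h7 : Nat.Coprime (orderOf γ) 4 := by
        rw [show (4 : ℕ) = 2 ^ 2 by norm_num]
        exact Nat.Coprime.pow_right 2 (Nat.coprime_two_right.2 h)
      have := Nat.dvd_gcd (dvd_refl (orderOf γ)) h5
      rw [h7] at this
      exact Nat.dvd_one.1 this
    rw [orderOf_eq_one_iff] at h6
    rw [h6, one_pow]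

theorem aut_comm {γ δ : MulAut Q8} (h : Odd (orderOf γ)) (hd : δ * δ = 1) (hc : γ * δ = δ * γ) :
    γ = 1 ∨ δ = 1 := by
  have h3 := cube h
  have app : ∀ (μ ν : MulAut Q8) x, (μ * ν) x = μ (ν x) := fun _ _ _ => rfl
  have h31 : ∀ x, γ (γ (γ x)) = x := fun x => by
    have := DFunLike.congr_fun h3 x
    exact this
  have h21 : ∀ x, δ (δ x) = x := fun x => by
    have := DFunLike.congr_fun hd x
    exact this
  have hc1 : ∀ x, γ (δ x) = δ (γ x) := fun x => by
    have := DFunLike.congr_fun hc x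
    exact this
  rcases comm _ _ (nc γ) ⟨by rw [← apply_eq, ← apply_eq]; exact h31 _,
    by rw [← apply_eq, ← apply_eq]; exact h31 _⟩ _ _ (nc δ) (by rw [← apply_eq]; exact h21 _)
    (by rw [← apply_eq]; exact h21 _) (by rw [← apply_eq, ← apply_eq]; exact hc1 _)
    (by rw [← apply_eq, ← apply_eq]; exact hc1 _) with ⟨h1, h2⟩ | ⟨h1, h2⟩
  · exact Or.inl (eq_one_of h1 h2)
  · exact Or.inr (eq_one_of h1 h2)

set_option maxRecDepth 100000 in
theorem card_pairs : Fintype.card {x : Q8 × Q8 // x.1 * x.2 ≠ x.2 * x.1} = 24 := by decide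

theorem card_aut : Nat.card (MulAut Q8) ≤ 24 := by
  rw [← card_pairs, ← Nat.card_eq_fintype_card]
  apply Nat.card_le_card_of_injective (fun γ : MulAut Q8 =>
    (⟨(γ (.a 1), γ (.xa 0)), nc γ⟩ : {x : Q8 × Q8 // x.1 * x.2 ≠ x.2 * x.1}))
  intro γ δ h
  have h' := congrArg Subtype.val h
  have h1 : γ (.a 1) = δ (.a 1) := congrArg Prod.fst h'
  have h2 : γ (.xa 0) = δ (.xa 0) := congrArg Prod.snd h'
  ext x
  rw [apply_eq γ x, apply_eq δ x, h1, h2]

variable {X : Type*} [Group X]

/-- the action on a quaternion subgroup -/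
noncomputable def act (P : Subgroup X) (e : P ≃* Q8) : normalizer (P : Set X) →* MulAut Q8 :=
  (MulAut.congr e).toMonoidHom.comp P.normalizerMonoidHom

theorem act_eq_one_iff {P : Subgroup X} {e : P ≃* Q8} {x : normalizer (P : Set X)} :
    act P e x = 1 ↔ ∀ p ∈ P, (x : X) * p = p * x := by
  have h1 : act P e x = 1 ↔ P.normalizerMonoidHom x = 1 := (MulAut.congr e).map_eq_one_iff
  have h2 : P.normalizerMonoidHom x = 1 ↔ x ∈ (centralizer (P : Set X)).subgroupOf (normalizer P) := by
    rw [← normalizerMonoidHom_ker, MonoidHom.mem_ker]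
  rw [h1, h2, mem_subgroupOf, mem_centralizer_iff]
  exact ⟨fun h p hp => (h p hp).symm, fun h p hp => (h p hp).symm⟩

/-- An element of odd order which commutes with an involution acts trivially on a quaternion
group of order 8 or the involution does. -/
theorem q8_comm [Finite X] {P : Subgroup X} (e : P ≃* Q8) {x v : X}
    (hx : ∀ p, p ∈ P ↔ x * p * x⁻¹ ∈ P) (hv : ∀ p, p ∈ P ↔ v * p * v⁻¹ ∈ P)
    (hxo : Odd (orderOf x)) (hvv : v * v = 1) (hxv : x * v = v * x) :
    (∀ p ∈ P, x * p = p * x) ∨ (∀ p ∈ P, v * p = p * v) := by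
  set x' : normalizer (P : Set X) := ⟨x, mem_normalizer_iff.2 hx⟩ with hx'
  set v' : normalizer (P : Set X) := ⟨v, mem_normalizer_iff.2 hv⟩ with hv'
  have h1 : Odd (orderOf (act P e x')) := by
    refine Odd.of_dvd_nat ?_ (orderOf_map_dvd _ _)
    rw [← Subgroup.orderOf_coe]
    exact hxo
  have h2 : act P e v' * act P e v' = 1 := by
    rw [← map_mul]
    have : v' * v' = 1 := Subtype.ext hvv
    rw [this, map_one]
  have h3 : act P e x' * act P e v' = act P e v' * act P e x' := by
    rw [← map_mul, ← map_mul]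
    congr 1
    exact Subtype.ext hxv
  rcases aut_comm h1 h2 h3 with h | h
  · exact Or.inl (act_eq_one_iff.1 h)
  · exact Or.inr (act_eq_one_iff.1 h)

/-- A group with a normal quaternion group of order 8 has order at most 24 times that of its
centralizer. -/
theorem card_le [Finite X] {P N : Subgroup X} (e : P ≃* Q8) (hN : ∀ n ∈ N, ∀ p ∈ P, n * p * n⁻¹ ∈ P)
    {k : ℕ} (hk : ∀ D : Subgroup X, (∀ d ∈ D, d ∈ N ∧ ∀ p ∈ P, d * p = p * d) → Nat.card D ≤ k) :
    Nat.card N ≤ 24 * k := by
  have hle : N ≤ normalizer (P : Set X) := by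
    intro n hn
    rw [mem_normalizer_iff]
    refine fun p => ⟨hN n hn p, fun h => ?_⟩
    have := hN n⁻¹ (inv_mem hn) _ h
    have e1 : n⁻¹ * (n * p * n⁻¹) * n⁻¹⁻¹ = p := by group
    rwa [e1] at this
  let f : N →* MulAut Q8 := (act P e).comp (inclusion hle)
  have h1 : Nat.card N = Nat.card f.ker * Nat.card f.range := by
    rw [← Subgroup.index_ker f, Subgroup.card_mul_index]
  have h2 : Nat.card f.range ≤ 24 :=
    (Nat.card_le_card_of_injective _ f.range.subtype_injective).trans card_aut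
  have h3 : Nat.card f.ker ≤ k := by
    have h4 := hk (f.ker.map N.subtype) ?_
    · rwa [← Nat.card_congr (f.ker.equivMapOfInjective N.subtype N.subtype_injective).toEquiv] at h4
    · rintro _ ⟨d, hd, rfl⟩
      exact ⟨d.2, act_eq_one_iff.1 (MonoidHom.mem_ker.1 hd)⟩
  rw [h1, mul_comm]
  exact Nat.mul_le_mul h2 h3

/-! ### `SL(2,3)` -/

set_option maxRecDepth 100000 in
theorem q8_center : ∀ c : Q8, (∀ p, c * p = p * c) → c = 1 ∨ c = .a 2 := by decide

theorem central_of {Y : Type*} [Group Y] {P : Subgroup Y} (hn : P.Normal) (hi : P.index = 3)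
    (e : P ≃* Q8) {c : Y} (hc : ∀ p ∈ P, c * p = p * c) : c ∈ center Y := by
  by_cases hcP : c ∈ P
  · have key : ∀ d : P, (∀ p : P, d * p = p * d) → d = 1 ∨ d = e.symm (.a 2) := by
      intro d hd
      rcases q8_center (e d) (fun p => by
        have := congrArg e (hd (e.symm p))
        rw [map_mul, map_mul, e.apply_symm_apply] at this
        exact this) with h | h
      · left
        exact e.map_eq_one_iff.1 h
      · right
        rw [← h, e.symm_apply_apply]
    rw [mem_center_iff]
    intro g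
    have h1 := key ⟨c, hcP⟩ (fun p => Subtype.ext (hc p p.2))
    have h2 := key ⟨g * c * g⁻¹, hn.conj_mem c hcP g⟩ (fun p => Subtype.ext (by
      show g * c * g⁻¹ * p = p * (g * c * g⁻¹)
      have h3 := hc (g⁻¹ * p * g) (by
        have := hn.conj_mem p p.2 g⁻¹
        rwa [inv_inv] at this)
      calc g * c * g⁻¹ * p = g * (c * (g⁻¹ * p * g)) * g⁻¹ := by group
        _ = g * ((g⁻¹ * p * g) * c) * g⁻¹ := by rw [h3]
        _ = p * (g * c * g⁻¹) := by group))
    have h5 : g * c * g⁻¹ = c := by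
      rcases h1 with h1 | h1
      · have h1' : c = 1 := congrArg Subtype.val h1
        rw [h1']; group
      · rcases h2 with h2 | h2
        · have h2' : g * c * g⁻¹ = 1 := congrArg Subtype.val h2
          have h3 : c = 1 := by
            calc c = g⁻¹ * (g * c * g⁻¹) * g := by group
              _ = 1 := by rw [h2']; group
          rw [h3]; group
        · exact congrArg Subtype.val (h2.trans h1.symm)
    calc g * c = g * c * g⁻¹ * g := by group
      _ = c * g := by rw [h5]
  · -- `Y = P ⟨c⟩`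
    have h1 : P ⊔ zpowers c = ⊤ := by
      have h2 : (P ⊔ zpowers c).index ∣ 3 := by
        rw [← hi]
        exact index_dvd_of_le le_sup_left
      rcases (Nat.dvd_prime Nat.prime_three).1 h2 with h3 | h3
      · exact index_eq_one.1 h3
      · exfalso
        apply hcP
        have h4 : P = P ⊔ zpowers c := by
          have h5 : P.relIndex (P ⊔ zpowers c) * (P ⊔ zpowers c).index = P.index :=
            relIndex_mul_index le_sup_left
          rw [h3, hi] at h5
          have h6 : P.relIndex (P ⊔ zpowers c) = 1 := by omega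
          exact le_antisymm le_sup_left (relIndex_eq_one.1 h6)
        rw [h4]
        exact mem_sup_right (mem_zpowers c)
    rw [mem_center_iff]
    intro g
    have h2 : P ⊔ zpowers c ≤ centralizer ({c} : Set Y) := by
      apply sup_le
      · intro p hp
        rw [mem_centralizer_singleton_iff]
        exact (hc p hp).symm
      · rw [zpowers_le, mem_centralizer_singleton_iff]
    have h3 : g ∈ P ⊔ zpowers c := by rw [h1]; exact mem_top g
    exact mem_centralizer_singleton_iff.1 (h2 h3)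

/-- The data of `SL(2,3)`. -/
theorem exists_q8 {Y : Type*} [Group Y] {F : Type*} [Field F] [Fintype F] (h3 : Fintype.card F = 3)
    (e : Y ≃* Matrix.SpecialLinearGroup (Fin 2) F) : Nat.card Y = 24 ∧ ∃ P : Subgroup Y,
      P.Normal ∧ P.index = 3 ∧ Nonempty (P ≃* Q8) ∧ (∀ y, y ∈ P ↔ y ^ 8 = 1) ∧
      ∀ c ∈ center Y, c * c = 1 := by
  obtain ⟨⟨Q, hQn, hQi, ⟨eQ⟩⟩, hZ⟩ := Cfsg.Agent.S0257.result h3
  let P := Q.comap e.toMonoidHom
  have hPn : P.Normal := hQn.comap _
  have hPi : P.index = 3 := by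
    rw [index_comap_of_surjective Q e.surjective, hQi]
  let eP : P ≃* Q8 := (MulEquiv.ofBijective (e.toMonoidHom.subgroupComap Q)
    ⟨fun a b h => Subtype.ext (e.injective (congrArg Subtype.val h)),
      MonoidHom.subgroupComap_surjective_of_surjective _ _ e.surjective⟩).trans eQ
  have hPc : Nat.card P = 8 := by
    rw [Nat.card_congr eP.toEquiv, Nat.card_eq_fintype_card, QuaternionGroup.card]
  refine ⟨?_, P, hPn, hPi, ⟨eP⟩, ?_, ?_⟩
  · rw [← P.card_mul_index, hPc, hPi]
  · intro y
    constructor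
    · intro hy
      have h1 : (⟨y, hy⟩ : P) ^ Nat.card P = 1 := pow_card_eq_one'
      rw [hPc] at h1
      exact congrArg Subtype.val h1
    · intro hy
      have h1 : (QuotientGroup.mk' P y) ^ 3 = 1 := by
        have : Nat.card (Y ⧸ P) = 3 := hPi
        rw [← this]
        exact pow_card_eq_one'
      have h2 : (QuotientGroup.mk' P y) ^ 8 = 1 := by rw [← map_pow, hy, map_one]
      have h4 : QuotientGroup.mk' P y = 1 := by
        have h5 := orderOf_dvd_of_pow_eq_one h1
        have h6 := orderOf_dvd_of_pow_eq_one h2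
        have h7 := Nat.dvd_gcd h5 h6
        have h8 : Nat.gcd 3 8 = 1 := by norm_num
        rw [h8, Nat.dvd_one, orderOf_eq_one_iff] at h7
        exact h7
      exact (QuotientGroup.eq_one_iff y).1 h4
  · intro c hc
    have h1 : Nat.card (center Y) = 2 := by
      rw [← hZ]
      exact Nat.card_congr (Subgroup.centerCongr e).toEquiv
    have h2 : (⟨c, hc⟩ : center Y) ^ Nat.card (center Y) = 1 := pow_card_eq_one'
    rw [h1, sq] at h2
    exact congrArg Subtype.val h2

end Cfsg.Agent.SylowLFive.ThreeAux
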