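import Mathlib
import Cfsg.Agent.SylowLFive.ThreeAux
import Cfsg.Agent.TypeLFive.LThreeDef
import Cfsg.Agent.TypeLFive.YCard

/-!
# Type `L₅`, `q = 3`: the groups `Y` inside a subgroup, and odd automorphisms of `J`
-/

set_option autoImplicit false

namespace Cfsg.Agent.SylowLFive.ThreeLoc

open Subgroup Cfsg.Agent.SylowLFive.ThreeAux Cfsg.Agent.TypeLFive.LThreeDef
open Cfsg.Agent.TypeLFive.YCard

variable {X : Type*} [Group X] {Fq : Type*} [Field Fq] [Fintype Fq]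

/-- An element which normalises `Y = SL(2,3)` and centralises its quaternion subgroup centralises
`Y`. -/
theorem comm_of_comm_P {Y : Subgroup X} {P : Subgroup Y} (hn : P.Normal) (hi : P.index = 3)
    (e : P ≃* Q8) (hz : ∀ c ∈ center Y, c * c = 1)
    (hgen : ∀ H : Subgroup X, (∀ y ∈ Y, y ^ 3 = 1 → y ∈ H) → Y ≤ H) {g : X}
    (hg : ∀ y, y ∈ Y ↔ g * y * g⁻¹ ∈ Y) (hP : ∀ p ∈ P, g * (p : X) = p * g) :
    ∀ y ∈ Y, g * y = y * g := by
  have key : Y ≤ centralizer ({g} : Set X) := by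
    apply hgen
    intro y hy hy3
    rw [mem_centralizer_singleton_iff]
    set c : Y := ⟨g * y * g⁻¹, (hg y).1 hy⟩ * ⟨y, hy⟩⁻¹ with hc
    have hcv : (c : X) = g * y * g⁻¹ * y⁻¹ := rfl
    have h1 : c ∈ center Y := by
      apply central_of hn hi e
      intro p hp
      apply Subtype.ext
      show (c : X) * p = p * c
      rw [hcv]
      have h2 : (⟨y, hy⟩ : Y)⁻¹ * p * ⟨y, hy⟩ ∈ P := by
        have := hn.conj_mem p hp (⟨y, hy⟩ : Y)⁻¹
        rwa [inv_inv] at this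
      have h3 := hP _ h2
      have h3' : g * (y⁻¹ * p * y) = y⁻¹ * p * y * g := h3
      have h4 := hP p hp
      calc g * y * g⁻¹ * y⁻¹ * (p : X) = g * y * g⁻¹ * ((y⁻¹ * p * y) * g) * g⁻¹ * y⁻¹ := by group
        _ = g * y * g⁻¹ * (g * (y⁻¹ * p * y)) * g⁻¹ * y⁻¹ := by rw [h3']
        _ = (g * (p : X)) * y * g⁻¹ * y⁻¹ := by group
        _ = ((p : X) * g) * y * g⁻¹ * y⁻¹ := by rw [h4]
        _ = (p : X) * (g * y * g⁻¹ * y⁻¹) := by group
    have h2 : c * c = 1 := hz c h1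
    have h3 : (g * y * g⁻¹) ^ 3 = 1 := by rw [conj_pow, hy3, mul_one, mul_inv_cancel]
    have h4 : (c : X) * y = g * y * g⁻¹ := by rw [hcv]; group
    have h5 : (c : X) * y = y * c := congrArg Subtype.val (mem_center_iff.1 h1 ⟨y, hy⟩).symm
    have h6 : (c : X) = 1 := by
      have h7 : ((c : X) * y) ^ 3 = (c : X) ^ 3 * y ^ 3 := (show Commute (c : X) y from h5).mul_pow 3
      rw [h4, h3, hy3, mul_one] at h7
      have h8 : (c : X) * c = 1 := congrArg Subtype.val h2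
      have h9 : (c : X) ^ 3 = (c : X) * c * c := by rw [pow_succ, sq]
      rw [h9, h8, one_mul] at h7
      exact h7.symm
    have h7 : g * y * g⁻¹ = y := by rw [← h4, h6, one_mul]
    calc y * g = (g * y * g⁻¹) * g := by rw [h7]
      _ = g * y := by group
  intro y hy
  exact (mem_centralizer_singleton_iff.1 (key hy)).symm

/-- An element of odd order which commutes with an involution acts trivially on `SL(2,3)` or the
involution does. -/
theorem sl_comm [Finite X] {Y : Subgroup X} (h3 : Fintype.card Fq = 3)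
    (e : Y ≃* Matrix.SpecialLinearGroup (Fin 2) Fq)
    (hgen : ∀ H : Subgroup X, (∀ y ∈ Y, y ^ 3 = 1 → y ∈ H) → Y ≤ H) {x v : X}
    (hx : ∀ y, y ∈ Y ↔ x * y * x⁻¹ ∈ Y) (hv : ∀ y, y ∈ Y ↔ v * y * v⁻¹ ∈ Y)
    (hxo : Odd (orderOf x)) (hvv : v * v = 1) (hxv : x * v = v * x) :
    (∀ y ∈ Y, x * y = y * x) ∨ (∀ y ∈ Y, v * y = y * v) := by
  obtain ⟨-, P, hPn, hPi, ⟨eP⟩, hP8, hz⟩ := exists_q8 h3 e
  have hmem : ∀ p : X, p ∈ P.map Y.subtype ↔ p ∈ Y ∧ p ^ 8 = 1 := by
    intro p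
    constructor
    · rintro ⟨q, hq, rfl⟩
      exact ⟨q.2, congrArg Subtype.val ((hP8 q).1 hq)⟩
    · rintro ⟨hp, h8⟩
      exact ⟨⟨p, hp⟩, (hP8 _).2 (Subtype.ext h8), rfl⟩
  have hnor : ∀ g : X, (∀ y, y ∈ Y ↔ g * y * g⁻¹ ∈ Y) →
      ∀ p, p ∈ P.map Y.subtype ↔ g * p * g⁻¹ ∈ P.map Y.subtype := by
    intro g hg p
    rw [hmem, hmem, ← hg, conj_pow]
    refine and_congr_right fun _ => ⟨fun h => by rw [h, mul_one, mul_inv_cancel], fun h => ?_⟩
    have := congrArg (fun z => g⁻¹ * z * g) h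
    simpa [mul_assoc] using this
  let e' : P.map Y.subtype ≃* Q8 := (P.equivMapOfInjective Y.subtype Y.subtype_injective).symm.trans eP
  rcases q8_comm e' (hnor x hx) (hnor v hv) hxo hvv hxv with h | h
  · left
    exact comm_of_comm_P hPn hPi eP hz hgen hx (fun p hp => h _ ⟨p, hp, rfl⟩)
  · right
    exact comm_of_comm_P hPn hPi eP hz hgen hv (fun p hp => h _ ⟨p, hp, rfl⟩)

/-- the subgroup generated by the elements of order 3 of `J` commuting with `t` -/
def YY (J : Subgroup X) (t : X) : Subgroup X := closure {x | x ∈ J ∧ x * t = t * x ∧ x ^ 3 = 1}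

theorem YY_le (J : Subgroup X) (t : X) : YY J t ≤ J := by
  unfold YY
  rw [closure_le]
  exact fun x hx => hx.1

theorem YY_comm {J : Subgroup X} {t y : X} (hy : y ∈ YY J t) : y * t = t * y := by
  have : YY J t ≤ centralizer ({t} : Set X) := by
    unfold YY
    rw [closure_le]
    exact fun x hx => mem_centralizer_singleton_iff.2 hx.2.1
  exact mem_centralizer_singleton_iff.1 (this hy)

theorem mem_YY {J : Subgroup X} {t x : X} (h1 : x ∈ J) (h2 : x * t = t * x) (h3 : x ^ 3 = 1) :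
    x ∈ YY J t := subset_closure ⟨h1, h2, h3⟩

theorem YY_gen {J : Subgroup X} {t : X} (H : Subgroup X) (h : ∀ y ∈ YY J t, y ^ 3 = 1 → y ∈ H) :
    YY J t ≤ H := by
  conv_lhs => unfold YY
  rw [closure_le]
  exact fun x hx => h x (mem_YY hx.1 hx.2.1 hx.2.2) hx.2.2

theorem YY_eq (J : Subgroup X) {t : X} (ht : t ∈ J) :
    YY J t = (Y 3 (⟨t, ht⟩ : J)).map J.subtype := by
  apply le_antisymm
  · conv_lhs => unfold YY
    rw [closure_le]
    rintro x ⟨h1, h2, h3⟩
    exact ⟨⟨x, h1⟩, mem_Y (Subtype.ext h2) (Subtype.ext h3), rfl⟩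
  · rw [map_le_iff_le_comap]
    unfold Y
    rw [closure_le]
    rintro x ⟨h1, h2⟩
    exact mem_YY x.2 (congrArg Subtype.val h1) (congrArg Subtype.val h2)

theorem YY_conj {J : Subgroup X} {t g : X} (hJ : ∀ j ∈ J, g * j * g⁻¹ ∈ J) (hg : g * t = t * g)
    {y : X} (hy : y ∈ YY J t) : g * y * g⁻¹ ∈ YY J t := by
  have : YY J t ≤ (YY J t).comap (MulAut.conj g).toMonoidHom := by
    conv_lhs => unfold YY
    rw [closure_le]
    rintro x ⟨h1, h2, h3⟩
    refine mem_YY (hJ x h1) ?_ ?_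
    · show g * x * g⁻¹ * t = t * (g * x * g⁻¹)
      have h4 : g⁻¹ * t = t * g⁻¹ := by
        calc g⁻¹ * t = g⁻¹ * (t * g) * g⁻¹ := by group
          _ = g⁻¹ * (g * t) * g⁻¹ := by rw [hg]
          _ = t * g⁻¹ := by group
      calc g * x * g⁻¹ * t = g * x * (g⁻¹ * t) := by group
        _ = g * (x * t) * g⁻¹ := by rw [h4]; group
        _ = (g * t) * x * g⁻¹ := by rw [h2]; group
        _ = t * (g * x * g⁻¹) := by rw [hg]; group
    · show (g * x * g⁻¹) ^ 3 = 1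
      rw [conj_pow, h3, mul_one, mul_inv_cancel]
  exact this hy

theorem YY_conj_iff {J : Subgroup X} {t g : X} (hJ : ∀ j, j ∈ J ↔ g * j * g⁻¹ ∈ J)
    (hg : g * t = t * g) (y : X) : y ∈ YY J t ↔ g * y * g⁻¹ ∈ YY J t := by
  refine ⟨YY_conj (fun j hj => (hJ j).1 hj) hg, fun h => ?_⟩
  have h1 : ∀ j ∈ J, g⁻¹ * j * g⁻¹⁻¹ ∈ J := by
    intro j hj
    rw [hJ]
    have : g * (g⁻¹ * j * g⁻¹⁻¹) * g⁻¹ = j := by group
    rwa [this]
  have h2 : g⁻¹ * t = t * g⁻¹ := by
    calc g⁻¹ * t = g⁻¹ * (t * g) * g⁻¹ := by group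
      _ = g⁻¹ * (g * t) * g⁻¹ := by rw [hg]
      _ = t * g⁻¹ := by group
  have := YY_conj h1 h2 h
  have e1 : g⁻¹ * (g * y * g⁻¹) * g⁻¹⁻¹ = y := by group
  rwa [e1] at this

/-- The hypotheses on `J`. -/
structure JHyp (J : Subgroup X) (Fq : Type*) [Field Fq] : Prop where
  simple : IsSimpleGroup J
  nc : ¬ IsMulCommutative J
  facts : Facts J 3
  yiso : YIso J 3 Fq

omit [Fintype Fq] in
theorem JHyp.equiv {J : Subgroup X} (h : JHyp J Fq) {t : X} (ht : t ∈ J) (h1 : t ≠ 1)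
    (h2 : t * t = 1) : Nonempty (YY J t ≃* Matrix.SpecialLinearGroup (Fin 2) Fq) := by
  obtain ⟨e⟩ := h.yiso ⟨t, ht⟩ (fun hc => h1 (congrArg Subtype.val hc)) (Subtype.ext h2)
  exact ⟨(MulEquiv.subgroupCongr (YY_eq J ht)).trans
    (((Y 3 (⟨t, ht⟩ : J)).equivMapOfInjective J.subtype J.subtype_injective).symm.trans e)⟩

theorem JHyp.card {J : Subgroup X} (h : JHyp J Fq) (hq : Fintype.card Fq = 3) {t : X} (ht : t ∈ J)
    (h1 : t ≠ 1) (h2 : t * t = 1) : Nat.card (YY J t) = 24 := by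
  obtain ⟨e⟩ := h.equiv ht h1 h2
  exact (exists_q8 hq e).1

omit [Fintype Fq] in
theorem JHyp.center {J : Subgroup X} (h : JHyp J Fq) {z : X} (hz : z ∈ J)
    (hc : ∀ j ∈ J, z * j = j * z) : z = 1 := by
  have := h.simple
  have h1 : (⟨z, hz⟩ : J) ∈ Subgroup.center J := by
    rw [mem_center_iff]
    intro j
    exact Subtype.ext (hc j j.2).symm
  rcases (inferInstance : (Subgroup.center J).Normal).eq_bot_or_eq_top with h2 | h2
  · rw [h2, mem_bot] at h1
    exact congrArg Subtype.val h1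
  · exfalso
    apply h.nc
    refine ⟨⟨fun a b => ?_⟩⟩
    have ha : b ∈ Subgroup.center J := by rw [h2]; exact mem_top b
    exact (mem_center_iff.1 ha a)

omit [Fintype Fq] in
/-- `J` is generated by the `YY J w` for `w` in a four-group. -/
theorem JHyp.gen {J : Subgroup X} (h : JHyp J Fq) {a c : X} (ha : a ∈ J) (ha1 : a ≠ 1)
    (ha2 : a * a = 1) (hc : c ∈ J) (hc1 : c ≠ 1) (hc2 : c * c = 1) (hac : a ≠ c)
    (hcomm : a * c = c * a) : J ≤ YY J a ⊔ YY J c ⊔ YY J (a * c) := by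
  have h1 := h.facts.gen ⟨a, ha⟩ ⟨c, hc⟩ (fun hh => ha1 (congrArg Subtype.val hh))
    (Subtype.ext ha2) (fun hh => hc1 (congrArg Subtype.val hh)) (Subtype.ext hc2)
    (fun hh => hac (congrArg Subtype.val hh)) (Subtype.ext hcomm)
  have h2 := congrArg (Subgroup.map J.subtype) h1
  rw [Subgroup.map_sup, Subgroup.map_sup, ← MonoidHom.range_eq_map, Subgroup.range_subtype] at h2
  rw [YY_eq J ha, YY_eq J hc, YY_eq J (mul_mem ha hc)]
  exact h2.ge

theorem JHyp.not_comm [Finite X] {J : Subgroup X} (h : JHyp J Fq) (hq : Fintype.card Fq = 3)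
    {a c : X} (ha : a ∈ J) (ha1 : a ≠ 1)
    (ha2 : a * a = 1) (hc : c ∈ J) (hc1 : c ≠ 1) (hc2 : c * c = 1) (hac : a ≠ c)
    (hcomm : a * c = c * a) (hh : ∀ y ∈ YY J a, c * y = y * c) : False := by
  have h1 : YY J a ≤ YY J c := by
    apply YY_gen
    intro y hy hy3
    exact mem_YY (YY_le _ _ hy) (hh y hy).symm hy3
  have h2 : YY J a ≤ YY J (a * c) := by
    apply YY_gen
    intro y hy hy3
    refine mem_YY (YY_le _ _ hy) ?_ hy3
    rw [← mul_assoc, YY_comm hy, mul_assoc, ← hh y hy, mul_assoc]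
  have hac1 : a * c ≠ 1 := by
    intro h0
    apply hac
    calc a = a * (c * c) := by rw [hc2, mul_one]
      _ = c := by rw [← mul_assoc, h0, one_mul]
  have hac2 : a * c * (a * c) = 1 := by
    rw [hcomm]
    calc c * a * (c * a) = c * (a * c) * a := by group
      _ = (c * c) * (a * a) := by rw [hcomm]; group
      _ = 1 := by rw [ha2, hc2, one_mul]
  have h3 : YY J a = YY J c := Subgroup.eq_of_le_of_card_ge h1
    (by rw [h.card hq ha ha1 ha2, h.card hq hc hc1 hc2])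
  have h4 : YY J a = YY J (a * c) := Subgroup.eq_of_le_of_card_ge h2
    (by rw [h.card hq ha ha1 ha2, h.card hq (mul_mem ha hc) hac1 hac2])
  have h5 := h.gen ha ha1 ha2 hc hc1 hc2 hac hcomm
  rw [← h4, ← h3, sup_idem, sup_idem] at h5
  exact ha1 (h.center ha (fun j hj => (YY_comm (h5 hj)).symm))

/-- **Lemma A.** An element of odd order normalising `J` and centralising a four-group of `J`
centralises `J`. -/
theorem JHyp.odd_trivial [Finite X] {J : Subgroup X} (h : JHyp J Fq) (hq : Fintype.card Fq = 3)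
    {a c : X} (ha : a ∈ J) (ha1 : a ≠ 1)
    (ha2 : a * a = 1) (hc : c ∈ J) (hc1 : c ≠ 1) (hc2 : c * c = 1) (hac : a ≠ c)
    (hcomm : a * c = c * a) {x : X} (hx : ∀ j, j ∈ J ↔ x * j * x⁻¹ ∈ J) (hxo : Odd (orderOf x))
    (hxa : x * a = a * x) (hxc : x * c = c * x) : ∀ j ∈ J, x * j = j * x := by
  have hac1 : a * c ≠ 1 := by
    intro h0
    apply hac
    calc a = a * (c * c) := by rw [hc2, mul_one]
      _ = c := by rw [← mul_assoc, h0, one_mul]
  have hac2 : a * c * (a * c) = 1 := by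
    rw [hcomm]
    calc c * a * (c * a) = c * (a * c) * a := by group
      _ = (c * c) * (a * a) := by rw [hcomm]; group
      _ = 1 := by rw [ha2, hc2, one_mul]
  have key : ∀ a c : X, a ∈ J → a ≠ 1 → a * a = 1 → c ∈ J → c ≠ 1 → c * c = 1 → a ≠ c →
      a * c = c * a → x * a = a * x → x * c = c * x → YY J a ≤ centralizer ({x} : Set X) := by
    intro a c ha ha1 ha2 hc hc1 hc2 hac hcomm hxa hxc
    obtain ⟨e⟩ := h.equiv ha ha1 ha2
    have hcJ : ∀ j, j ∈ J ↔ c * j * c⁻¹ ∈ J := by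
      intro j
      rw [J.mul_mem_cancel_right (J.inv_mem hc), J.mul_mem_cancel_left hc]
    rcases sl_comm hq e (fun H hH => YY_gen H hH) (YY_conj_iff hx hxa)
      (YY_conj_iff hcJ hcomm.symm) hxo hc2 hxc with h1 | h1
    · intro y hy
      rw [mem_centralizer_singleton_iff]
      exact (h1 y hy).symm
    · exact (h.not_comm hq ha ha1 ha2 hc hc1 hc2 hac hcomm h1).elim
  have h1 := h.gen ha ha1 ha2 hc hc1 hc2 hac hcomm
  have h2 := key a c ha ha1 ha2 hc hc1 hc2 hac hcomm hxa hxc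
  have h3 := key c a hc hc1 hc2 ha ha1 ha2 hac.symm hcomm.symm hxc hxa
  have h4 := key (a * c) a (mul_mem ha hc) hac1 hac2 ha ha1 ha2
    (fun h0 => hc1 (mul_eq_left.1 h0)) (by rw [mul_assoc, hcomm])
    (by rw [← mul_assoc, hxa, mul_assoc, hxc, mul_assoc]) hxa
  intro j hj
  exact (mem_centralizer_singleton_iff.1 (sup_le (sup_le h2 h3) h4 (h1 hj))).symm

end Cfsg.Agent.SylowLFive.ThreeLoc
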