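import Mathlib
import Cfsg.Agent.Transfer.CentralTransfer

/-!
# Central extensions of `SL₃^ε(q)` by transfer, abstract part

`π : P → L` surjective with central kernel of odd order, `P` perfect, `L` with three perfect
subgroups `K i` and "tori" `h i` with the relations of the monomial group of `SL₃`.
Then `π` is injective, if the order of the kernel is prime to the indices of the tori in the `K i`
and to the index of the monomial subgroup. No Schur multiplier, no presentation.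
-/

set_option autoImplicit false

namespace Cfsg.Agent.SylowLFive.Lift

open Cfsg.Agent.Transfer.CentralTransfer
open scoped commutatorElement Pointwise

universe u v w

section transfer

variable {P : Type u} [Group P]

theorem eq_one_of_abelian [Finite P] (hP : commutator P = ⊤) (A : Subgroup P)
    (hA : ∀ a ∈ A, ∀ b ∈ A, a * b = b * a) {z : P} (hz : z ∈ Subgroup.center P) (hzA : z ∈ A)
    (hcop : Nat.Coprime (orderOf z) A.index) : z = 1 := by
  let _ : CommGroup A := { (inferInstance : Group A) with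
    mul_comm := fun a b => Subtype.ext (hA a a.2 b b.2) }
  have h1 := map_pow_index_eq_one_of_perfect hP (MonoidHom.id A) ⟨z, hzA⟩ hz
  have h2 : z ^ A.index = 1 := congrArg Subtype.val h1
  have h3 : orderOf z ∣ A.index := orderOf_dvd_of_pow_eq_one h2
  have h4 : orderOf z = 1 := Nat.Coprime.eq_one_of_dvd hcop h3
  exact orderOf_eq_one_iff.1 h4

theorem eq_one_of_compl [Finite P] (hP : commutator P = ⊤) (A Z : Subgroup P)
    (hZ : Z ≤ Subgroup.center P) (hAZ : A ⊓ Z = ⊥) {z : P} (hz : z ∈ Z)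
    (hcop : Nat.Coprime (orderOf z) (A ⊔ Z).index) : z = 1 := by
  have hN : A ⊔ Z ≤ Subgroup.normalizer (A : Set P) := by
    refine sup_le Subgroup.le_normalizer ?_
    intro x hx
    have hx' := Subgroup.mem_center_iff.1 (hZ hx)
    rw [Subgroup.mem_normalizer_iff]
    intro a
    rw [← hx' a, mul_inv_cancel_right]
  have hnorm : (A.subgroupOf (A ⊔ Z)).Normal := by
    refine ⟨fun a ha g => ?_⟩
    rw [Subgroup.mem_subgroupOf] at ha ⊢
    exact (Subgroup.mem_normalizer_iff.1 (hN g.2) _).1 ha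
  -- every element of the quotient is the image of an element of `Z`
  have hZsup : ∀ x : P, x ∈ A ⊔ Z → ∃ y ∈ Z, x * y⁻¹ ∈ A := by
    intro x hx
    have hZn : Z.Normal := by
      refine ⟨fun a ha g => ?_⟩
      have := Subgroup.mem_center_iff.1 (hZ ha) g
      rw [this, mul_inv_cancel_right]
      exact ha
    obtain ⟨a, ha, y, hy, rfl⟩ := Subgroup.mem_sup_of_normal_right.1 hx
    exact ⟨y, hy, by rwa [mul_inv_cancel_right]⟩
  have hcomm : ∀ x y : (A ⊔ Z : Subgroup P) ⧸ A.subgroupOf (A ⊔ Z), x * y = y * x := by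
    intro x y
    obtain ⟨x, rfl⟩ := QuotientGroup.mk_surjective x
    obtain ⟨y, rfl⟩ := QuotientGroup.mk_surjective y
    obtain ⟨c, hc, hxc⟩ := hZsup x x.2
    have hcm : c ∈ A ⊔ Z := Subgroup.mem_sup_right hc
    have hc' := Subgroup.mem_center_iff.1 (hZ hc)
    have e : (QuotientGroup.mk x : (A ⊔ Z : Subgroup P) ⧸ A.subgroupOf (A ⊔ Z)) =
        QuotientGroup.mk (⟨c, hcm⟩ : (A ⊔ Z : Subgroup P)) := by
      rw [QuotientGroup.eq]
      rw [Subgroup.mem_subgroupOf]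
      show (x : P)⁻¹ * c ∈ A
      have h1 : (x * c⁻¹ : P)⁻¹ ∈ A := inv_mem hxc
      have h2 : (x * c⁻¹ : P)⁻¹ = (x : P)⁻¹ * c := by
        rw [mul_inv_rev, inv_inv, hc']
      rwa [h2] at h1
    rw [e]
    rw [← QuotientGroup.mk_mul, ← QuotientGroup.mk_mul]
    congr 1
    apply Subtype.ext
    exact (hc' y).symm
  let _ : CommGroup ((A ⊔ Z : Subgroup P) ⧸ A.subgroupOf (A ⊔ Z)) :=
    { (inferInstance : Group ((A ⊔ Z : Subgroup P) ⧸ A.subgroupOf (A ⊔ Z))) with
      mul_comm := hcomm }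
  have hzm : z ∈ A ⊔ Z := Subgroup.mem_sup_right hz
  have h1 := map_pow_index_eq_one_of_perfect hP
    (QuotientGroup.mk' (A.subgroupOf (A ⊔ Z))) ⟨z, hzm⟩ (hZ hz)
  rw [← map_pow] at h1
  have h2 : (⟨z, hzm⟩ : (A ⊔ Z : Subgroup P)) ^ (A ⊔ Z).index ∈ A.subgroupOf (A ⊔ Z) :=
    (QuotientGroup.eq_one_iff _).1 h1
  rw [Subgroup.mem_subgroupOf] at h2
  have h3 : z ^ (A ⊔ Z).index ∈ A ⊓ Z := ⟨h2, pow_mem hz _⟩
  rw [hAZ, Subgroup.mem_bot] at h3
  have h4 : orderOf z ∣ (A ⊔ Z).index := orderOf_dvd_of_pow_eq_one h3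
  exact orderOf_eq_one_iff.1 (Nat.Coprime.eq_one_of_dvd hcop h4)

end transfer

section lift

variable {P : Type u} {L : Type v} [Group P] [Group L] (π : P →* L)

/-- the perfect lift of a perfect subgroup -/
def per (K : Subgroup L) : Subgroup P := ⁅K.comap π, K.comap π⁆

variable {π}

theorem comap_le (hs : Function.Surjective π) {K : Subgroup L} (hK : ⁅K, K⁆ = K) :
    K.comap π ≤ per π K ⊔ π.ker := by
  have h1 : (per π K).map π = K := by
    unfold per
    rw [Subgroup.map_commutator, Subgroup.map_comap_eq_self_of_surjective hs, hK]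
  rw [← Subgroup.comap_map_eq, h1]

theorem map_per (hs : Function.Surjective π) {K : Subgroup L} (hK : ⁅K, K⁆ = K) :
    (per π K).map π = K := by
  unfold per
  rw [Subgroup.map_commutator, Subgroup.map_comap_eq_self_of_surjective hs, hK]

/-- commutators of `A ⊔ Z` with `Z` central are commutators of `A` -/
theorem commutator_sup_central {A Z : Subgroup P} (hZ : Z ≤ Subgroup.center P) :
    ⁅A ⊔ Z, A ⊔ Z⁆ ≤ ⁅A, A⁆ := by
  have hZn : Z.Normal := by
    refine ⟨fun a ha g => ?_⟩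
    have := Subgroup.mem_center_iff.1 (hZ ha) g
    rw [this, mul_inv_cancel_right]
    exact ha
  rw [Subgroup.commutator_le]
  intro x hx y hy
  obtain ⟨a, ha, c, hc, rfl⟩ := Subgroup.mem_sup_of_normal_right.1 hx
  obtain ⟨b, hb, d, hd, rfl⟩ := Subgroup.mem_sup_of_normal_right.1 hy
  have hc' := Subgroup.mem_center_iff.1 (hZ hc)
  have hd' := Subgroup.mem_center_iff.1 (hZ hd)
  have e : ⁅a * c, b * d⁆ = ⁅a, b⁆ := by
    have h1 : c * (b * d) = (b * d) * c := (hc' _).symm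
    have h2 : d * a⁻¹ = a⁻¹ * d := (hd' _).symm
    rw [commutatorElement_def, commutatorElement_def, mul_inv_rev, mul_inv_rev]
    calc a * c * (b * d) * (c⁻¹ * a⁻¹) * (d⁻¹ * b⁻¹)
        = a * (c * (b * d)) * (c⁻¹ * a⁻¹) * (d⁻¹ * b⁻¹) := by group
      _ = a * ((b * d) * c) * (c⁻¹ * a⁻¹) * (d⁻¹ * b⁻¹) := by rw [h1]
      _ = a * b * (d * a⁻¹) * d⁻¹ * b⁻¹ := by group
      _ = a * b * (a⁻¹ * d) * d⁻¹ * b⁻¹ := by rw [h2]
      _ = a * b * a⁻¹ * b⁻¹ := by group
  rw [e]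
  exact Subgroup.commutator_mem_commutator ha hb

theorem per_perfect (hs : Function.Surjective π) (hc : π.ker ≤ Subgroup.center P) {K : Subgroup L}
    (hK : ⁅K, K⁆ = K) : ⁅per π K, per π K⁆ = per π K := by
  apply le_antisymm
  · exact Subgroup.commutator_le_self _
  · calc per π K = ⁅K.comap π, K.comap π⁆ := rfl
      _ ≤ ⁅per π K ⊔ π.ker, per π K ⊔ π.ker⁆ :=
        Subgroup.commutator_mono (comap_le hs hK) (comap_le hs hK)
      _ ≤ ⁅per π K, per π K⁆ := commutator_sup_central hc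

theorem commutator_eq_top_of {G : Type*} [Group G] {A : Subgroup G} (hA : ⁅A, A⁆ = A) :
    commutator A = ⊤ := by
  rw [_root_.commutator_def]
  apply Subgroup.map_injective A.subtype_injective
  rw [Subgroup.map_commutator, ← MonoidHom.range_eq_map, Subgroup.range_subtype, hA]

/-- the perfect lift meets the kernel trivially, if there is a cyclic subgroup whose index is prime
to the order of the kernel -/
theorem per_inf_ker [Finite P] (hs : Function.Surjective π) (hc : π.ker ≤ Subgroup.center P)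
    {K : Subgroup L} (hK : ⁅K, K⁆ = K) (T : Subgroup L) (hT : IsCyclic T)
    (hcop : Nat.Coprime (Nat.card π.ker) (T.relIndex K)) : per π K ⊓ π.ker = ⊥ := by
  rw [eq_bot_iff]
  rintro z ⟨hz1, hz2⟩
  rw [Subgroup.mem_bot]
  set A : Subgroup (per π K) := (T.comap π).subgroupOf (per π K) with hA
  -- the index of `A`
  have hidx : A.index = T.relIndex K := by
    have h1 : A = T.comap (π.comp (per π K).subtype) := by
      rw [hA, ← Subgroup.comap_comap]; rfl
    have h2 : (π.comp (per π K).subtype).range = K := by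
      rw [MonoidHom.range_eq_map, ← Subgroup.map_map, ← MonoidHom.range_eq_map,
        Subgroup.range_subtype, map_per hs hK]
    rw [h1, Subgroup.index_comap, h2]
  -- `A` is commutative
  have hcomm : ∀ a ∈ T.comap π, ∀ b ∈ T.comap π, a * b = b * a := by
    let f : (T.comap π) →* T := (π.comp (T.comap π).subtype).codRestrict T (fun x => x.2)
    have hf : f.ker ≤ Subgroup.center (T.comap π) := by
      intro x hx
      have h1 : π x = 1 := congrArg Subtype.val (MonoidHom.mem_ker.1 hx)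
      have h2 := Subgroup.mem_center_iff.1 (hc (MonoidHom.mem_ker.2 h1))
      rw [Subgroup.mem_center_iff]
      intro g
      exact Subtype.ext (h2 g)
    intro a ha b hb
    have h3 := MonoidHom.isMulCommutative_of_isCyclic_of_ker_le_center f hf
    have := h3.is_comm.comm (⟨a, ha⟩ : T.comap π) ⟨b, hb⟩
    exact congrArg Subtype.val this
  have hzA : (⟨z, hz1⟩ : per π K) ∈ A := by
    rw [hA, Subgroup.mem_subgroupOf]
    show π z ∈ T
    rw [MonoidHom.mem_ker.1 hz2]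
    exact one_mem _
  have hzc : (⟨z, hz1⟩ : per π K) ∈ Subgroup.center (per π K) := by
    rw [Subgroup.mem_center_iff]
    intro g
    exact Subtype.ext (Subgroup.mem_center_iff.1 (hc hz2) g)
  have hdvd : orderOf (⟨z, hz1⟩ : per π K) ∣ Nat.card π.ker := by
    rw [Subgroup.orderOf_mk]
    have : orderOf (⟨z, hz2⟩ : π.ker) = orderOf z := Subgroup.orderOf_mk _ _
    rw [← this]
    exact orderOf_dvd_natCard _
  have := eq_one_of_abelian (commutator_eq_top_of (per_perfect hs hc hK)) A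
    (fun a ha b hb => Subtype.ext (hcomm a ha b hb)) hzc hzA (by
      rw [hidx]
      exact Nat.Coprime.coprime_dvd_left hdvd hcop)
  exact congrArg Subtype.val this

/-- the section of `π` over a perfect subgroup -/
theorem exists_section (hs : Function.Surjective π)
    {K : Subgroup L} (hK : ⁅K, K⁆ = K) (hi : per π K ⊓ π.ker = ⊥) :
    ∃ s : K →* P, ∀ k, π (s k) = k := by
  let f : per π K →* K := (π.comp (per π K).subtype).codRestrict K (fun x => by
    have h := map_per hs hK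
    have : π x ∈ (per π K).map π := ⟨x, x.2, rfl⟩
    rwa [h] at this)
  have hf : Function.Bijective f := by
    constructor
    · rw [injective_iff_map_eq_one]
      intro x hx
      have h1 : π x = 1 := congrArg Subtype.val hx
      have h2 : (x : P) ∈ per π K ⊓ π.ker := ⟨x.2, h1⟩
      rw [hi, Subgroup.mem_bot] at h2
      exact Subtype.ext h2
    · rintro ⟨k, hk⟩
      rw [← map_per hs hK] at hk
      obtain ⟨x, hx, rfl⟩ := hk
      exact ⟨⟨x, hx⟩, rfl⟩
  let e := MulEquiv.ofBijective f hf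
  refine ⟨(per π K).subtype.comp e.symm.toMonoidHom, fun k => ?_⟩
  have : f (e.symm k) = k := e.apply_symm_apply k
  exact congrArg Subtype.val this

/-- sections over perfect groups are unique -/
theorem section_unique (hc : π.ker ≤ Subgroup.center P) {K : Type w} [Group K]
    (hK : commutator K = ⊤) (s t : K →* P) (h : ∀ k, π (s k) = π (t k)) : s = t := by
  let f : K →* P :=
    { toFun := fun k => s k * (t k)⁻¹
      map_one' := by simp
      map_mul' := by
        intro a b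
        have h1 : s b * (t b)⁻¹ ∈ π.ker := by
          rw [MonoidHom.mem_ker, map_mul, map_inv, h, mul_inv_cancel]
        have h2 := Subgroup.mem_center_iff.1 (hc h1) (t a)⁻¹
        rw [map_mul, map_mul, mul_inv_rev]
        calc s a * s b * ((t b)⁻¹ * (t a)⁻¹) = s a * ((s b * (t b)⁻¹) * (t a)⁻¹) := by group
          _ = s a * ((t a)⁻¹ * (s b * (t b)⁻¹)) := by rw [h2]
          _ = s a * (t a)⁻¹ * (s b * (t b)⁻¹) := by group }
  have hf : ∀ k, f k ∈ Subgroup.center P := by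
    intro k
    apply hc
    rw [MonoidHom.mem_ker]
    show π (s k * (t k)⁻¹) = 1
    rw [map_mul, map_inv, h, mul_inv_cancel]
  let g : K →* Subgroup.center P := f.codRestrict _ hf
  ext k
  have h1 : g k = 1 := by
    let _ : CommGroup (Subgroup.center P) := { (inferInstance : Group (Subgroup.center P)) with
      mul_comm := fun a b => Subtype.ext (Subgroup.mem_center_iff.1 b.2 a) }
    exact map_eq_one_of_commutator_eq_top hK g k
  have h2 : s k * (t k)⁻¹ = 1 := congrArg Subtype.val h1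
  exact mul_inv_eq_one.1 h2

/-- the section is compatible with conjugation -/
theorem section_conj (hc : π.ker ≤ Subgroup.center P) {K K' : Subgroup L} (hK : ⁅K, K⁆ = K)
    {s : K →* P} {s' : K' →* P} (hs : ∀ k, π (s k) = k) (hs' : ∀ k, π (s' k) = k) (n : P)
    (hn : ∀ k ∈ K, π n * k * (π n)⁻¹ ∈ K') (k : K) :
    n * s k * n⁻¹ = s' ⟨π n * k * (π n)⁻¹, hn k k.2⟩ := by
  let c : K →* K' :=
    { toFun := fun k => ⟨π n * k * (π n)⁻¹, hn k k.2⟩
      map_one' := by
        apply Subtype.ext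
        show π n * ((1 : K) : L) * (π n)⁻¹ = 1
        simp
      map_mul' := by
        intro a b
        apply Subtype.ext
        show π n * ((a * b : K) : L) * (π n)⁻¹ = (π n * a * (π n)⁻¹) * (π n * b * (π n)⁻¹)
        rw [Subgroup.coe_mul]
        group }
  have h := section_unique hc (commutator_eq_top_of hK)
    ((MulAut.conj n).toMonoidHom.comp s) (s'.comp c) (by
      intro k
      show π (n * s k * n⁻¹) = π (s' (c k))
      rw [map_mul, map_mul, map_inv, hs, hs']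
      rfl)
  exact DFunLike.congr_fun h k

end lift

/-- Three perfect subgroups with tori and the relations of the monomial group of `SL₃`. -/
structure Data (L : Type v) [Group L] (C : Type w) [CommGroup C] where
  K1 : Subgroup L
  K2 : Subgroup L
  K3 : Subgroup L
  perf1 : ⁅K1, K1⁆ = K1
  perf2 : ⁅K2, K2⁆ = K2
  perf3 : ⁅K3, K3⁆ = K3
  h1 : C →* L
  h2 : C →* L
  h1_mem : ∀ c, h1 c ∈ K1
  h2_mem : ∀ c, h2 c ∈ K2
  h3_mem : ∀ c, h1 c * h2 c ∈ K3
  comm : ∀ a b, h1 a * h2 b = h2 b * h1 a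
  n1 : L
  n2 : L
  n1_mem : n1 ∈ K1
  n2_mem : n2 ∈ K2
  n1h1 : ∀ c, n1 * h1 c * n1⁻¹ = (h1 c)⁻¹
  n1h2 : ∀ c, n1 * h2 c * n1⁻¹ = h1 c * h2 c
  n2h2 : ∀ c, n2 * h2 c * n2⁻¹ = (h2 c)⁻¹
  n2h1 : ∀ c, n2 * h1 c * n2⁻¹ = h1 c * h2 c
  n1K2 : ∀ k ∈ K2, n1 * k * n1⁻¹ ∈ K3
  n1K3 : ∀ k ∈ K3, n1 * k * n1⁻¹ ∈ K2
  n2K1 : ∀ k ∈ K1, n2 * k * n2⁻¹ ∈ K3
  n2iK1 : ∀ k ∈ K1, n2⁻¹ * k * n2 ∈ K3
  braid : n2 * n1 * n2 = n1 * n2 * n1
  m : C
  m_sq : m * m = 1
  n1_sq : n1 * n1 = h1 m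
  n2_sq : n2 * n2 = h2 m
  inj : ∀ a b, h1 a * h2 b = 1 → a = 1 ∧ b = 1
  w_ne : ∀ a b, n1 * n2 ≠ h1 a * h2 b

namespace Data

variable {L : Type v} [Group L] {C : Type w} [CommGroup C] (D : Data L C)

/-- the third torus -/
def h3 : C →* L where
  toFun c := D.h1 c * D.h2 c
  map_one' := by simp
  map_mul' a b := by
    rw [map_mul, map_mul]
    calc D.h1 a * D.h1 b * (D.h2 a * D.h2 b) = D.h1 a * (D.h1 b * D.h2 a) * D.h2 b := by group
      _ = D.h1 a * (D.h2 a * D.h1 b) * D.h2 b := by rw [D.comm]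
      _ = _ := by group

/-- the torus -/
def hh : C × C →* L := MonoidHom.noncommCoprod D.h1 D.h2 (fun a b => D.comm a b)

theorem hh_apply (c : C × C) : D.hh c = D.h1 c.1 * D.h2 c.2 := rfl

/-- the monomial subgroup -/
def N : Subgroup L := Subgroup.zpowers (D.n1 * D.n2) ⊔ D.hh.range

variable {P : Type u} [Group P] {π : P →* L}

theorem sq_eq_one {z : P} (hodd : Odd (Nat.card π.ker)) (hz : z ∈ π.ker) (h : z * z = 1) :
    z = 1 := by
  have h1 : orderOf z ∣ 2 := orderOf_dvd_of_pow_eq_one (by rw [sq, h])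
  have h2 : orderOf z ∣ Nat.card π.ker := by
    have : orderOf (⟨z, hz⟩ : π.ker) = orderOf z := Subgroup.orderOf_mk _ _
    rw [← this]
    exact orderOf_dvd_natCard _
  have h3 : Nat.Coprime 2 (Nat.card π.ker) := Nat.coprime_two_left.2 hodd
  have h4 : orderOf z = 1 := by
    have := Nat.dvd_gcd h1 h2
    rw [h3] at this
    exact Nat.dvd_one.1 this
  exact orderOf_eq_one_iff.1 h4

/-- **Lifting theorem.** -/
theorem ker_eq_bot [Finite P] [IsCyclic C] (hs : Function.Surjective π)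
    (hc : π.ker ≤ Subgroup.center P) (hP : commutator P = ⊤) (hodd : Odd (Nat.card π.ker))
    (c1 : Nat.Coprime (Nat.card π.ker) (D.h1.range.relIndex D.K1))
    (c2 : Nat.Coprime (Nat.card π.ker) (D.h2.range.relIndex D.K2))
    (c3 : Nat.Coprime (Nat.card π.ker) (D.h3.range.relIndex D.K3))
    (cN : Nat.Coprime (Nat.card π.ker) D.N.index) : π.ker = ⊥ := by
  have cyc : ∀ f : C →* L, IsCyclic f.range := fun f =>
    isCyclic_of_surjective f.rangeRestrict f.rangeRestrict_surjective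
  obtain ⟨s1, hs1⟩ := exists_section hs D.perf1 (per_inf_ker hs hc D.perf1 _ (cyc D.h1) c1)
  obtain ⟨s2, hs2⟩ := exists_section hs D.perf2 (per_inf_ker hs hc D.perf2 _ (cyc D.h2) c2)
  obtain ⟨s3, hs3⟩ := exists_section hs D.perf3 (per_inf_ker hs hc D.perf3 _ (cyc D.h3) c3)
  have hcen : ∀ z, π z = 1 → ∀ g, g * z = z * g := fun z hz g =>
    Subgroup.mem_center_iff.1 (hc (MonoidHom.mem_ker.2 hz)) g
  -- the lifts of the tori
  let H1 : C →* P := s1.comp (D.h1.codRestrict D.K1 D.h1_mem)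
  let H2 : C →* P := s2.comp (D.h2.codRestrict D.K2 D.h2_mem)
  let H3 : C →* P := s3.comp (D.h3.codRestrict D.K3 D.h3_mem)
  have e1 : ∀ c, π (H1 c) = D.h1 c := fun c => hs1 _
  have e2 : ∀ c, π (H2 c) = D.h2 c := fun c => hs2 _
  have e3 : ∀ c, π (H3 c) = D.h1 c * D.h2 c := fun c => hs3 _
  set N1 : P := s1 ⟨D.n1, D.n1_mem⟩ with hN1
  set N2 : P := s2 ⟨D.n2, D.n2_mem⟩ with hN2
  have f1 : π N1 = D.n1 := hs1 _
  have f2 : π N2 = D.n2 := hs2 _
  -- conjugations inside one `K`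
  have g11 : ∀ c, N1 * H1 c * N1⁻¹ = (H1 c)⁻¹ := by
    intro c
    show s1 _ * s1 _ * (s1 _)⁻¹ = (s1 _)⁻¹
    rw [← map_inv, ← map_inv, ← map_mul, ← map_mul]
    congr 1
    exact Subtype.ext (D.n1h1 c)
  have g22 : ∀ c, N2 * H2 c * N2⁻¹ = (H2 c)⁻¹ := by
    intro c
    show s2 _ * s2 _ * (s2 _)⁻¹ = (s2 _)⁻¹
    rw [← map_inv, ← map_inv, ← map_mul, ← map_mul]
    congr 1
    exact Subtype.ext (D.n2h2 c)
  -- conjugations between the `K`'s
  have g12 : ∀ c, N1 * H2 c * N1⁻¹ = H3 c := by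
    intro c
    have := section_conj hc D.perf2 hs2 hs3 N1 (by rw [f1]; exact D.n1K2)
      ⟨D.h2 c, D.h2_mem c⟩
    refine this.trans ?_
    show s3 _ = s3 _
    congr 1
    apply Subtype.ext
    show π N1 * D.h2 c * (π N1)⁻¹ = D.h1 c * D.h2 c
    rw [f1, D.n1h2]
  have g13 : ∀ c, N1 * H3 c * N1⁻¹ = H2 c := by
    intro c
    have := section_conj hc D.perf3 hs3 hs2 N1 (by rw [f1]; exact D.n1K3)
      ⟨D.h1 c * D.h2 c, D.h3_mem c⟩
    refine this.trans ?_
    show s2 _ = s2 _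
    congr 1
    apply Subtype.ext
    show π N1 * (D.h1 c * D.h2 c) * (π N1)⁻¹ = D.h2 c
    rw [f1]
    calc D.n1 * (D.h1 c * D.h2 c) * D.n1⁻¹ = (D.n1 * D.h1 c * D.n1⁻¹) *
          (D.n1 * D.h2 c * D.n1⁻¹) := by group
      _ = D.h2 c := by rw [D.n1h1, D.n1h2, inv_mul_cancel_left]
  have g21 : ∀ c, N2 * H1 c * N2⁻¹ = H3 c := by
    intro c
    have := section_conj hc D.perf1 hs1 hs3 N2 (by rw [f2]; exact D.n2K1)
      ⟨D.h1 c, D.h1_mem c⟩
    refine this.trans ?_
    show s3 _ = s3 _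
    congr 1
    apply Subtype.ext
    show π N2 * D.h1 c * (π N2)⁻¹ = D.h1 c * D.h2 c
    rw [f2, D.n2h1]
  -- the discrepancy
  have hf : ∀ c, ∃ f : P, π f = 1 ∧ H3 c = H1 c * H2 c * f := by
    intro c
    refine ⟨(H1 c * H2 c)⁻¹ * H3 c, ?_, by group⟩
    rw [map_mul, map_inv, map_mul, e1, e2, e3, inv_mul_cancel]
  -- the tori commute
  have hcomm : ∀ a b, H1 a * H2 b = H2 b * H1 a := by
    intro a b
    set z := H1 a * H2 b * (H1 a)⁻¹ * (H2 b)⁻¹ with hz
    have hz1 : π z = 1 := by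
      rw [hz, map_mul, map_mul, map_mul, map_inv, map_inv, e1, e2, D.comm]
      group
    obtain ⟨f, hf1, hf2⟩ := hf b
    have zc := hcen z hz1
    have fc := hcen f hf1
    have k1 : (H1 a)⁻¹ * H2 b * H1 a = z⁻¹ * H2 b := by
      have h0 : H1 a * H2 b * (H1 a)⁻¹ = z * H2 b := by rw [hz]; group
      have h1 : H2 b = z * ((H1 a)⁻¹ * H2 b * H1 a) := by
        calc H2 b = (H1 a)⁻¹ * (H1 a * H2 b * (H1 a)⁻¹) * H1 a := by group
          _ = (H1 a)⁻¹ * z * (H2 b * H1 a) := by rw [h0]; group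
          _ = z * ((H1 a)⁻¹ * H2 b * H1 a) := by rw [zc]; group
      rw [eq_inv_mul_iff_mul_eq]
      exact h1.symm
    have k2 : z = z⁻¹ := by
      calc z = N1 * z * N1⁻¹ := by rw [zc, mul_inv_cancel_right]
        _ = (N1 * H1 a * N1⁻¹) * (N1 * H2 b * N1⁻¹) * (N1 * H1 a * N1⁻¹)⁻¹ *
            (N1 * H2 b * N1⁻¹)⁻¹ := by rw [hz]; group
        _ = (H1 a)⁻¹ * (H1 b * H2 b * f) * H1 a * (H1 b * H2 b * f)⁻¹ := by
            rw [g11, g12, hf2, inv_inv]
        _ = (H1 a)⁻¹ * H1 b * H2 b * (f * H1 a) * f⁻¹ * (H2 b)⁻¹ * (H1 b)⁻¹ := by group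
        _ = (H1 a)⁻¹ * H1 b * H2 b * (H1 a * f) * f⁻¹ * (H2 b)⁻¹ * (H1 b)⁻¹ := by rw [fc]
        _ = ((H1 a)⁻¹ * H1 b) * H2 b * H1 a * (H2 b)⁻¹ * (H1 b)⁻¹ := by group
        _ = (H1 b * (H1 a)⁻¹) * H2 b * H1 a * (H2 b)⁻¹ * (H1 b)⁻¹ := by
            rw [← map_inv, ← map_mul, ← map_mul, mul_comm a⁻¹ b]
        _ = H1 b * ((H1 a)⁻¹ * H2 b * H1 a) * (H2 b)⁻¹ * (H1 b)⁻¹ := by group
        _ = H1 b * z⁻¹ * (H1 b)⁻¹ := by rw [k1]; group
        _ = z⁻¹ := by
            have := hcen z⁻¹ (by rw [map_inv, hz1, inv_one]) (H1 b)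
            rw [this, mul_inv_cancel_right]
    have k3 : z = 1 := sq_eq_one hodd (MonoidHom.mem_ker.2 hz1) (by
      nth_rw 2 [k2]
      exact mul_inv_cancel z)
    calc H1 a * H2 b = z * (H2 b * H1 a) := by rw [hz]; group
      _ = H2 b * H1 a := by rw [k3, one_mul]
  -- the third torus
  have h3 : ∀ c, H3 c = H1 c * H2 c := by
    intro c
    obtain ⟨f, hf1, hf2⟩ := hf c
    have fc := hcen f hf1
    have k1 : H2 c = (H1 c)⁻¹ * H3 c * f := by
      calc H2 c = N1 * H3 c * N1⁻¹ := (g13 c).symm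
        _ = (N1 * H1 c * N1⁻¹) * (N1 * H2 c * N1⁻¹) * (N1 * f * N1⁻¹) := by rw [hf2]; group
        _ = (H1 c)⁻¹ * H3 c * f := by rw [g11, g12, fc, mul_inv_cancel_right]
    have k2 : f * f = 1 := by
      have : H2 c = H2 c * (f * f) := by
        calc H2 c = (H1 c)⁻¹ * (H1 c * H2 c * f) * f := by rw [← hf2]; exact k1
          _ = H2 c * (f * f) := by group
      exact (mul_eq_left.1 this.symm)
    rw [hf2, sq_eq_one hodd (MonoidHom.mem_ker.2 hf1) k2, mul_one]
  -- the braid relation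
  have hbraid : N2 * N1 * N2 = N1 * N2 * N1 := by
    have b1 := section_conj hc D.perf2 hs2 hs3 N1 (by rw [f1]; exact D.n1K2) ⟨D.n2, D.n2_mem⟩
    have b2 := section_conj hc D.perf1 hs1 hs3 N2⁻¹ (by
      rw [map_inv, f2, inv_inv]; exact D.n2iK1) ⟨D.n1, D.n1_mem⟩
    have b3 : N1 * N2 * N1⁻¹ = N2⁻¹ * N1 * N2⁻¹⁻¹ := by
      refine (show N1 * N2 * N1⁻¹ = _ from b1).trans (Eq.trans ?_
        (show N2⁻¹ * N1 * N2⁻¹⁻¹ = _ from b2).symm)
      congr 1
      apply Subtype.ext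
      show π N1 * D.n2 * (π N1)⁻¹ = π N2⁻¹ * D.n1 * (π N2⁻¹)⁻¹
      rw [map_inv, f1, f2, inv_inv]
      have hb : D.n1 * D.n2 = D.n2⁻¹ * (D.n1 * D.n2 * D.n1) := by rw [← D.braid]; group
      calc D.n1 * D.n2 * D.n1⁻¹ = D.n2⁻¹ * (D.n1 * D.n2 * D.n1) * D.n1⁻¹ := by rw [← hb]
        _ = D.n2⁻¹ * D.n1 * D.n2 := by group
    calc N2 * N1 * N2 = N2 * (N1 * N2 * N1⁻¹) * N1 := by group
      _ = N2 * (N2⁻¹ * N1 * N2⁻¹⁻¹) * N1 := by rw [b3]
      _ = N1 * N2 * N1 := by group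
  -- squares of the Weyl elements
  have q1 : N1 * N1 = H1 D.m := by
    show s1 _ * s1 _ = s1 _
    rw [← map_mul]
    congr 1
    exact Subtype.ext D.n1_sq
  have q2 : N2 * N2 = H2 D.m := by
    show s2 _ * s2 _ = s2 _
    rw [← map_mul]
    congr 1
    exact Subtype.ext D.n2_sq
  have r21 : ∀ c, N2 * H1 c = H1 c * H2 c * N2 := by
    intro c
    rw [← h3, ← g21]
    group
  have r12 : ∀ c, N1 * H2 c = H1 c * H2 c * N1 := by
    intro c
    rw [← h3, ← g12]
    group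
  have r13 : ∀ c, N1 * (H1 c * H2 c) = H2 c * N1 := by
    intro c
    rw [← h3]
    calc N1 * H3 c = (N1 * H3 c * N1⁻¹) * N1 := by group
      _ = H2 c * N1 := by rw [g13]
  have r11 : ∀ c, N1 * H1 c = (H1 c)⁻¹ * N1 := by
    intro c
    rw [← g11]
    group
  set W := N1 * N2 with hW
  have hm1 : H1 D.m * H1 D.m = 1 := by rw [← map_mul, D.m_sq, map_one]
  have hm2 : H2 D.m * H2 D.m = 1 := by rw [← map_mul, D.m_sq, map_one]
  have hW3 : W ^ 3 = 1 := by
    calc W ^ 3 = (N1 * N2 * N1) * (N2 * N1 * N2) := by rw [hW, pow_succ, pow_succ, pow_one]; group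
      _ = (N1 * N2 * N1) * (N1 * N2 * N1) := by rw [hbraid]
      _ = N1 * (N2 * (N1 * N1)) * N2 * N1 := by group
      _ = N1 * (H1 D.m * H2 D.m) * (N2 * N2) * N1 := by rw [q1, r21]; group
      _ = H2 D.m * N1 * H2 D.m * N1 := by rw [r13, q2]
      _ = H2 D.m * (N1 * H2 D.m) * N1 := by group
      _ = H2 D.m * (H1 D.m * H2 D.m) * (N1 * N1) := by rw [r12]; group
      _ = (H2 D.m * H1 D.m) * H2 D.m * H1 D.m := by rw [q1]; group
      _ = H1 D.m * (H2 D.m * H2 D.m) * H1 D.m := by rw [← hcomm]; group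
      _ = 1 := by rw [hm2, mul_one, hm1]
  -- the complement
  let HH : C × C →* P := MonoidHom.noncommCoprod H1 H2 (fun a b => hcomm a b)
  have HH_apply : ∀ c, HH c = H1 c.1 * H2 c.2 := fun c => rfl
  have πHH : ∀ c, π (HH c) = D.hh c := by
    intro c
    rw [HH_apply, map_mul, e1, e2, D.hh_apply]
  have hWN : Subgroup.zpowers W ≤ Subgroup.normalizer (HH.range : Set P) := by
    rw [Subgroup.zpowers_le]
    have hinc : ∀ x ∈ HH.range, W * x * W⁻¹ ∈ HH.range := by
      rintro _ ⟨c, rfl⟩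
      refine ⟨(c.2⁻¹, c.1 * c.2⁻¹), ?_⟩
      rw [HH_apply, HH_apply]
      show H1 c.2⁻¹ * H2 (c.1 * c.2⁻¹) = _
      have k1 : W * H1 c.1 * W⁻¹ = H2 c.1 := by
        calc W * H1 c.1 * W⁻¹ = N1 * (N2 * H1 c.1) * N2⁻¹ * N1⁻¹ := by rw [hW]; group
          _ = N1 * (H1 c.1 * H2 c.1) * N1⁻¹ := by rw [r21]; group
          _ = H2 c.1 := by rw [r13]; group
      have k2 : W * H2 c.2 * W⁻¹ = (H1 c.2 * H2 c.2)⁻¹ := by
        calc W * H2 c.2 * W⁻¹ = N1 * (N2 * H2 c.2 * N2⁻¹) * N1⁻¹ := by rw [hW]; group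
          _ = (N1 * H2 c.2 * N1⁻¹)⁻¹ := by rw [g22]; group
          _ = (H1 c.2 * H2 c.2)⁻¹ := by rw [g12, h3]
      calc H1 c.2⁻¹ * H2 (c.1 * c.2⁻¹) = (H1 c.2)⁻¹ * (H2 c.1 * (H2 c.2)⁻¹) := by
            rw [map_inv, map_mul, map_inv]
        _ = H2 c.1 * ((H1 c.2)⁻¹ * (H2 c.2)⁻¹) := by
            have := hcomm c.2⁻¹ c.1
            rw [map_inv] at this
            rw [← mul_assoc, this, mul_assoc]
        _ = H2 c.1 * (H1 c.2 * H2 c.2)⁻¹ := by rw [mul_inv_rev, ← map_inv, ← map_inv, hcomm]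
        _ = W * (H1 c.1 * H2 c.2) * W⁻¹ := by rw [← k1, ← k2]; group
    rw [Subgroup.mem_normalizer_iff]
    intro x
    refine ⟨hinc x, fun hx => ?_⟩
    have h1 := hinc _ (hinc _ hx)
    have h2 : W * (W * (W * x * W⁻¹) * W⁻¹) * W⁻¹ = W ^ 3 * x * (W ^ 3)⁻¹ := by
      rw [pow_succ, pow_succ, pow_one]; group
    rw [h2, hW3, one_mul, inv_one, mul_one] at h1
    exact h1
  set A : Subgroup P := Subgroup.zpowers W ⊔ HH.range with hA
  have hAinf : A ⊓ π.ker = ⊥ := by
    rw [eq_bot_iff]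
    rintro x ⟨hxA, hxk⟩
    rw [Subgroup.mem_bot]
    have h1 : x ∈ (Subgroup.zpowers W : Set P) * (HH.range : Set P) := by
      rw [← Subgroup.coe_mul_of_left_le_normalizer_right _ _ hWN]
      exact hxA
    obtain ⟨u, hu, v, ⟨c, rfl⟩, rfl⟩ := h1
    obtain ⟨i, rfl⟩ := Subgroup.mem_zpowers_iff.1 hu
    have hπW : π W = D.n1 * D.n2 := by rw [hW, map_mul, f1, f2]
    have h2 : (D.n1 * D.n2) ^ i * D.hh c = 1 := by
      have := MonoidHom.mem_ker.1 hxk
      rw [map_mul, map_zpow, hπW, πHH] at this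
      exact this
    have h3' : (D.n1 * D.n2) ^ i ∈ D.hh.range := by
      rw [eq_inv_of_mul_eq_one_left h2]
      exact inv_mem ⟨c, rfl⟩
    have h4 : (D.n1 * D.n2) ^ 3 = 1 := by rw [← hπW, ← map_pow, hW3, map_one]
    have h5 : (3 : ℤ) ∣ i := by
      by_contra hi
      have h6 : (D.n1 * D.n2) ∈ D.hh.range := by
        have h7 : i % 3 = 1 ∨ i % 3 = 2 := by omega
        have h8 : (D.n1 * D.n2) ^ (3 : ℤ) = 1 := by exact_mod_cast h4
        have h9 : (D.n1 * D.n2) ^ i = (D.n1 * D.n2) ^ (i % 3) := by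
          conv_lhs => rw [← Int.emod_add_mul_ediv i 3, zpow_add, zpow_mul, h8, one_zpow, mul_one]
        rcases h7 with h7 | h7
        · rw [h9, h7, zpow_one] at h3'
          exact h3'
        · rw [h9, h7] at h3'
          have h10 : D.n1 * D.n2 = ((D.n1 * D.n2) ^ (2 : ℤ))⁻¹ := by
            rw [eq_inv_iff_mul_eq_one]
            calc D.n1 * D.n2 * (D.n1 * D.n2) ^ (2 : ℤ) = (D.n1 * D.n2) ^ (3 : ℤ) := by
                  rw [show (3 : ℤ) = 1 + 2 by norm_num, zpow_add, zpow_one]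
              _ = 1 := h8
          rw [h10]
          exact inv_mem h3'
      obtain ⟨c', hc'⟩ := h6
      exact D.w_ne c'.1 c'.2 (hc'.symm.trans (D.hh_apply c'))
    obtain ⟨k, rfl⟩ := h5
    have h11 : W ^ (3 * k) = 1 := by
      rw [zpow_mul]
      have : W ^ (3 : ℤ) = 1 := by exact_mod_cast hW3
      rw [this, one_zpow]
    have h12 : (D.n1 * D.n2) ^ (3 * k) = 1 := by rw [← hπW, ← map_zpow, h11, map_one]
    rw [h12, one_mul, D.hh_apply] at h2
    obtain ⟨k1, k2⟩ := D.inj _ _ h2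
    have h13 : c = 1 := Prod.ext k1 k2
    rw [h11, h13, map_one]
    exact one_mul 1
  -- index
  have hAN : A.map π = D.N := by
    rw [hA, Subgroup.map_sup, MonoidHom.map_zpowers, hW, map_mul, f1, f2, ← MonoidHom.range_comp]
    unfold N
    congr 1
    have : π.comp HH = D.hh := by
      ext c
      exact πHH c
    rw [this]
  have hidx : (A ⊔ π.ker).index = D.N.index := by
    rw [← Subgroup.comap_map_eq, Subgroup.index_comap_of_surjective _ hs, hAN]
  rw [eq_bot_iff]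
  intro z hz
  rw [Subgroup.mem_bot]
  apply eq_one_of_compl hP A π.ker hc hAinf hz
  rw [hidx]
  refine Nat.Coprime.coprime_dvd_left ?_ cN
  have : orderOf (⟨z, hz⟩ : π.ker) = orderOf z := Subgroup.orderOf_mk _ _
  rw [← this]
  exact orderOf_dvd_natCard _

end Data

end Cfsg.Agent.SylowLFive.Lift
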