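import Cfsg.Agent.SylowLFive.MElevenFacts
import Cfsg.Agent.S0215
import Cfsg.Agent.S1180

/-!
# The frame of type `L₅(q)` does not contain `M₁₁`

`t = t₁₂`, `u = t₃₄`, `v = t₄₅`, `r = t₁₅`; `J ∋ u, v` is normal in `C(t)`, `J' ∋ t, r` is normal in
`C(u)`; `J` and `J'` are simple of order 7920; `p` induces `(1 2)`, `q` induces `(1 5)`. If `t` is
not conjugate to `t * u` and no involution centralizes `J` and `J'`, this is impossible: an element
`d` of order three of `J'` commuting with `t` centralizes `J`, `t` is isolated in `C(d)`, and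
Glauberman's `Z*`-theorem gives a group of odd order on which `J` acts.
-/

set_option autoImplicit false

namespace Cfsg.Agent.SylowLFive.MElevenOut

open Subgroup Cfsg MElevenFacts

/-- A finite type with a fixed point free involution has an even number of elements. -/
theorem even_card_of_invol {α : Type*} [Finite α] (f : α → α) (hf : ∀ n, f (f n) = n)
    (hne : ∀ n, f n ≠ n) : Even (Nat.card α) := by
  classical
  have := Fintype.ofFinite α
  let f' : Function.End α := f
  have hf2 : f' ^ 2 ^ 1 = 1 := by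
    rw [pow_one]
    refine (pow_two (M := Function.End α) f').trans ?_
    funext n
    exact hf n
  have hmod := Equiv.Perm.card_fixedPoints_modEq (f := f') (p := 2) (n := 1) hf2
  have h0 : Fintype.card (Function.fixedPoints f') = 0 := by
    rw [Fintype.card_eq_zero_iff]
    exact ⟨fun x => hne x.1 x.2⟩
  have h1 : Fintype.card α ≡ 0 [MOD 2] := by
    rw [← h0]
    convert hmod
  rw [Nat.card_eq_fintype_card, Nat.even_iff]
  exact h1

/-- The configuration. -/
structure Frame {G : Type*} [Group G] (t u v r p q : G) (J J' : Subgroup G) : Prop where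
  tt : t * t = 1
  uu : u * u = 1
  vv : v * v = 1
  rr : r * r = 1
  t1 : t ≠ 1
  r1 : r ≠ 1
  tr_ne : t ≠ r
  u1 : u ≠ 1
  v1 : v ≠ 1
  uv_ne : u ≠ v
  tu : t * u = u * t
  tv : t * v = v * t
  tr : t * r = r * t
  uv : u * v = v * u
  vr : v * r = r * v
  uJ : u ∈ J
  vJ : v ∈ J
  tJ' : t ∈ J'
  rJ' : r ∈ J'
  cJ : ∀ x ∈ J, x * t = t * x
  cJ' : ∀ x ∈ J', x * u = u * x
  nJ : ∀ c, c * t = t * c → ∀ x ∈ J, c * x * c⁻¹ ∈ J
  nJ' : ∀ c, c * u = u * c → ∀ x ∈ J', c * x * c⁻¹ ∈ J'
  hJ : IsM11 J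
  hJ' : IsM11 J'
  pt : p * t = t * p
  pu : p * u = u * p
  pv : p * v = v * p
  pr : p * r * p⁻¹ = t * r
  qu : q * u = u * q
  qr : q * r = r * q
  qv : q * v * q⁻¹ = v * r
  ntu : ∀ g : G, g * t * g⁻¹ ≠ t * u
  fix : ∀ y : G, y * y = 1 → (∀ x ∈ J, y * x = x * y) → (∀ x ∈ J', y * x = x * y) → y = 1

variable {G : Type*} [Group G] [Finite G] {t u v r p q : G} {J J' : Subgroup G}

omit [Finite G] in
theorem coe_orderOf_two {J : Subgroup G} {a : G} (ha : a ∈ J) (h : a * a = 1) (h1 : a ≠ 1) :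
    orderOf (⟨a, ha⟩ : J) = 2 := by
  rw [← Subgroup.orderOf_coe]; exact orderOf_two h h1

/-- `C_J(⟨u, v⟩) = ⟨u, v⟩` -/
theorem four {J : Subgroup G} (hJ : IsM11 J) {a b x : G} (ha : a ∈ J) (hb : b ∈ J) (hx : x ∈ J)
    (haa : a * a = 1) (hbb : b * b = 1) (ha1 : a ≠ 1) (hb1 : b ≠ 1) (hne : a ≠ b)
    (hab : a * b = b * a) (hxa : x * a = a * x) (hxb : x * b = b * x) :
    x = 1 ∨ x = a ∨ x = b ∨ x = a * b := by
  have := cent_four hJ (a := ⟨a, ha⟩) (b := ⟨b, hb⟩) (x := ⟨x, hx⟩)
    (coe_orderOf_two ha haa ha1) (coe_orderOf_two hb hbb hb1)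
    (fun h => hne (congrArg Subtype.val h)) (Subtype.ext hab) (Subtype.ext hxa) (Subtype.ext hxb)
  rcases this with h | h | h | h
  · exact Or.inl (congrArg Subtype.val h)
  · exact Or.inr (Or.inl (congrArg Subtype.val h))
  · exact Or.inr (Or.inr (Or.inl (congrArg Subtype.val h)))
  · exact Or.inr (Or.inr (Or.inr (congrArg Subtype.val h)))

/-- conjugation is determined on `J` by an element of `J` -/
theorem inner_unique {J : Subgroup G} (hJ : IsM11 J) {g h : G} (hg : g ∈ J) (hh : h ∈ J)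
    (H : ∀ x ∈ J, g * x * g⁻¹ = h * x * h⁻¹) : g = h := by
  have : h⁻¹ * g = 1 := by
    apply eq_one_of_comm hJ (mul_mem (inv_mem hh) hg)
    intro x hx
    calc h⁻¹ * g * x = h⁻¹ * (g * x * g⁻¹) * g := by group
      _ = h⁻¹ * (h * x * h⁻¹) * g := by rw [H x hx]
      _ = x * (h⁻¹ * g) := by group
  rw [inv_mul_eq_one] at this
  exact this.symm

/-- `v` acts on `J'` as `t`. -/
theorem v_act (F : Frame t u v r p q J J') {x : G} (hx : x ∈ J') :
    v * x * v⁻¹ = t * x * t⁻¹ := by
  obtain ⟨g, hg, hgx⟩ := inner F.hJ' (c := v) (F.nJ' v F.uv.symm)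
  have gt : g * t = t * g := by
    have h1 := hgx t F.tJ'
    have h2 : v * t * v⁻¹ = t := by rw [← F.tv]; group
    rw [h2] at h1
    exact (mul_inv_eq_iff_eq_mul.1 h1.symm)
  have gr : g * r = r * g := by
    have h1 := hgx r F.rJ'
    have h2 : v * r * v⁻¹ = r := by rw [F.vr]; group
    rw [h2] at h1
    exact (mul_inv_eq_iff_eq_mul.1 h1.symm)
  have hp : p * g * p⁻¹ = g := by
    have hpn := F.nJ' p F.pu
    have hpJ : ∀ x ∈ J', p⁻¹ * x * p ∈ J' := by
      intro x hx
      have := F.nJ' p⁻¹ (by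
        calc p⁻¹ * u = p⁻¹ * (u * p) * p⁻¹ := by group
          _ = p⁻¹ * (p * u) * p⁻¹ := by rw [F.pu]
          _ = u * p⁻¹ := by group) x hx
      rwa [inv_inv] at this
    apply inner_unique F.hJ' (hpn g hg) hg
    intro x hx
    have h1 := hgx (p⁻¹ * x * p) (hpJ x hx)
    rw [← hgx x hx]
    calc p * g * p⁻¹ * x * (p * g * p⁻¹)⁻¹ = p * (g * (p⁻¹ * x * p) * g⁻¹) * p⁻¹ := by group
      _ = p * (v * (p⁻¹ * x * p) * v⁻¹) * p⁻¹ := by rw [h1]
      _ = (p * v) * p⁻¹ * x * p * v⁻¹ * p⁻¹ := by group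
      _ = (v * p) * p⁻¹ * x * p * v⁻¹ * p⁻¹ := by rw [F.pv]
      _ = v * x * (p * v⁻¹ * p⁻¹) := by group
      _ = v * x * (p * v * p⁻¹)⁻¹ := by group
      _ = v * x * v⁻¹ := by rw [F.pv]; group
  have hti : t⁻¹ = t := inv_eq_of_mul_eq_one_left F.tt
  have hri : r⁻¹ = r := inv_eq_of_mul_eq_one_left F.rr
  rcases four F.hJ' F.tJ' F.rJ' hg F.tt F.rr F.t1 F.r1 F.tr_ne F.tr gt gr with h | h | h | h
  · -- `v` centralizes `J'`
    exfalso
    subst h
    have hv : ∀ x ∈ J', v * x = x * v := by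
      intro x hx
      have := hgx x hx
      rw [mul_inv_eq_iff_eq_mul] at this
      rw [this]; group
    have hvr : ∀ x ∈ J', (v * r) * x = x * (v * r) := by
      intro x hx
      have hqx : q⁻¹ * x * q ∈ J' := by
        have := F.nJ' q⁻¹ (by
          calc q⁻¹ * u = q⁻¹ * (u * q) * q⁻¹ := by group
            _ = q⁻¹ * (q * u) * q⁻¹ := by rw [F.qu]
            _ = u * q⁻¹ := by group) x hx
        rwa [inv_inv] at this
      have h1 := hv _ hqx
      rw [← F.qv]
      calc q * v * q⁻¹ * x = q * (v * (q⁻¹ * x * q)) * q⁻¹ := by group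
        _ = q * ((q⁻¹ * x * q) * v) * q⁻¹ := by rw [h1]
        _ = x * (q * v * q⁻¹) := by group
    apply F.r1
    apply eq_one_of_comm F.hJ' F.rJ'
    intro x hx
    have h1 := hvr x hx
    have h2 := hv x hx
    have : v * (r * x) = v * (x * r) := by
      calc v * (r * x) = v * r * x := by group
        _ = x * v * r := by rw [h1]; group
        _ = v * (x * r) := by rw [← h2]; group
    exact mul_left_cancel this
  · rw [hgx x hx, h]
  · exfalso
    subst h
    rw [F.pr] at hp
    apply F.t1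
    exact mul_eq_right.1 hp
  · exfalso
    rw [h] at hp
    have h1 : p * (t * r) * p⁻¹ = r := by
      calc p * (t * r) * p⁻¹ = (p * t) * p⁻¹ * (p * r * p⁻¹) := by group
        _ = (t * p) * p⁻¹ * (t * r) := by rw [F.pt, F.pr]
        _ = (t * t) * r := by group
        _ = r := by rw [F.tt, one_mul]
    rw [h1] at hp
    exact F.t1 (mul_eq_right.1 hp.symm)

/-- An element `d` of order three of `J'` commuting with `t` centralizes `J`. -/
theorem d_J (F : Frame t u v r p q J J') {d : G} (hd : d ∈ J') (h3 : orderOf d = 3)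
    (hdt : d * t = t * d) {x : G} (hx : x ∈ J) : d * x = x * d := by
  have hdv : d * v = v * d := by
    have h1 := v_act F hd
    have h2 : t * d * t⁻¹ = d := by rw [← hdt]; group
    rw [h2] at h1
    exact (mul_inv_eq_iff_eq_mul.1 h1).symm
  have hdu := F.cJ' d hd
  obtain ⟨h, hh, hhx⟩ := inner F.hJ (c := d) (F.nJ d hdt)
  have hu : h * u = u * h := by
    have h1 := hhx u F.uJ
    have h2 : d * u * d⁻¹ = u := by rw [hdu]; group
    rw [h2] at h1
    exact (mul_inv_eq_iff_eq_mul.1 h1.symm)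
  have hv : h * v = v * h := by
    have h1 := hhx v F.vJ
    have h2 : d * v * d⁻¹ = v := by rw [hdv]; group
    rw [h2] at h1
    exact (mul_inv_eq_iff_eq_mul.1 h1.symm)
  have hhh : h * h = 1 := by
    rcases four F.hJ F.uJ F.vJ hh F.uu F.vv F.u1 F.v1 F.uv_ne F.uv hu hv with e | e | e | e
    · rw [e, one_mul]
    · rw [e, F.uu]
    · rw [e, F.vv]
    · rw [e]
      calc u * v * (u * v) = u * (v * u) * v := by group
        _ = (u * u) * (v * v) := by rw [← F.uv]; group
        _ = 1 := by rw [F.uu, F.vv, one_mul]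
  have hdd : ∀ x ∈ J, d * d * x * (d * d)⁻¹ = x := by
    intro x hx
    have h1 : d * x * d⁻¹ ∈ J := F.nJ d hdt x hx
    calc d * d * x * (d * d)⁻¹ = d * (d * x * d⁻¹) * d⁻¹ := by group
      _ = h * (h * x * h⁻¹) * h⁻¹ := by rw [hhx _ h1, hhx x hx]
      _ = (h * h) * x * (h * h)⁻¹ := by group
      _ = x := by rw [hhh]; group
  have hd3 : d * d * d = 1 := by
    have := pow_orderOf_eq_one d
    rw [h3, pow_succ, pow_two] at this
    exact this
  have hdi : d * d * (d * d) = d := by
    calc d * d * (d * d) = (d * d * d) * d := by group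
      _ = d := by rw [hd3, one_mul]
  have h5 : d * x * d⁻¹ = x := by
    calc d * x * d⁻¹ = (d * d * (d * d)) * x * (d * d * (d * d))⁻¹ := by rw [hdi]
      _ = d * d * (d * d * x * (d * d)⁻¹) * (d * d)⁻¹ := by group
      _ = x := by rw [hdd x hx, hdd x hx]
  exact mul_inv_eq_iff_eq_mul.1 h5

/-- `t` is isolated in `C(d)`. -/
theorem isolated (F : Frame t u v r p q J J') {d : G} (hd : d ∈ J') (h3 : orderOf d = 3)
    (hdt : d * t = t * d) {x : G} (hx : x * d = d * x)
    (hc : (x * t * x⁻¹) * t = t * (x * t * x⁻¹)) : x * t * x⁻¹ = t := by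
  have hJ3 : orderOf (⟨d, hd⟩ : J') = 3 := by rw [← Subgroup.orderOf_coe]; exact h3
  have hdJ : ∀ x ∈ J, d * x = x * d := fun x hx => d_J F hd h3 hdt hx
  -- `t` is not conjugate to `u` in `C(d)`
  have hnu : ∀ y : G, y * d = d * y → y * t * y⁻¹ ≠ u := by
    intro y hy hyu
    have hyt : y * t = u * y := mul_inv_eq_iff_eq_mul.1 hyu
    let α : J →* G := (MulAut.conj y).toMonoidHom.comp J.subtype
    have hα : ∀ a : J, α a = y * (a : G) * y⁻¹ := fun a => rfl
    have hαu : ∀ a : J, α a * u = u * α a := by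
      intro a
      rw [hα, ← hyu]
      have := F.cJ a a.2
      calc y * (a : G) * y⁻¹ * (y * t * y⁻¹) = y * (a * t) * y⁻¹ := by group
        _ = y * (t * a) * y⁻¹ := by rw [this]
        _ = y * t * y⁻¹ * (y * a * y⁻¹) := by group
    have hyd : y⁻¹ * d = d * y⁻¹ := by
      calc y⁻¹ * d = y⁻¹ * (d * y) * y⁻¹ := by group
        _ = y⁻¹ * (y * d) * y⁻¹ := by rw [hy]
        _ = d * y⁻¹ := by group
    have hαd : ∀ a : J, α a * d = d * α a := by
      intro a
      rw [hα]
      have := hdJ a a.2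
      calc y * (a : G) * y⁻¹ * d = y * a * (y⁻¹ * d) := by group
        _ = y * (a * d) * y⁻¹ := by rw [hyd]; group
        _ = (y * d) * a * y⁻¹ := by rw [← this]; group
        _ = d * (y * a * y⁻¹) := by rw [hy]; group
    have h1 : ∀ a : J, ∀ x ∈ J', α a * x = x * α a := by
      intro a x hx
      refine triv F.hJ F.hJ' α (fun a x hx => F.nJ' _ (hαu a) x hx) hd hαd ?_ a hx
      rw [Cfsg.Agent.SporadicA.M11Facts2.card_centralizer_three F.hJ' hJ3]
      norm_num
    have h2 : ∀ a : J, ∀ x ∈ J, α a * x = x * α a := by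
      intro a x hx
      refine triv F.hJ F.hJ α (fun a x hx => F.nJ _ (h1 a t F.tJ') x hx) F.uJ hαu ?_ a hx
      rw [Cfsg.Agent.SporadicA.M11Facts.card_centralizer_two F.hJ
        (coe_orderOf_two F.uJ F.uu F.u1)]
      norm_num
    have h3' := F.fix (α ⟨u, F.uJ⟩) (by
      rw [← map_mul]
      have : (⟨u, F.uJ⟩ * ⟨u, F.uJ⟩ : J) = 1 := Subtype.ext F.uu
      rw [this, map_one]) (h2 _) (h1 _)
    rw [hα] at h3'
    apply F.u1
    have := mul_inv_eq_one.1 h3'
    exact mul_eq_left.1 this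
  set w := x * t * x⁻¹ with hw
  have hww : w * w = 1 := by
    calc w * w = x * (t * t) * x⁻¹ := by rw [hw]; group
      _ = 1 := by rw [F.tt]; group
  have hw1 : w ≠ 1 := by
    intro h
    rw [hw, mul_inv_eq_one] at h
    exact F.t1 (mul_eq_left.1 h)
  have hwd : w * d = d * w := by
    have hxd : x⁻¹ * d = d * x⁻¹ := by
      calc x⁻¹ * d = x⁻¹ * (d * x) * x⁻¹ := by group
        _ = x⁻¹ * (x * d) * x⁻¹ := by rw [hx]
        _ = d * x⁻¹ := by group
    calc w * d = x * t * (x⁻¹ * d) := by rw [hw]; group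
      _ = x * (t * d) * x⁻¹ := by rw [hxd]; group
      _ = (x * d) * t * x⁻¹ := by rw [← hdt]; group
      _ = d * w := by rw [hx, hw]; group
  obtain ⟨j, hj, hjx⟩ := inner F.hJ (c := w) (F.nJ w hc)
  have hjj : j * j = 1 := by
    apply eq_one_of_comm F.hJ (mul_mem hj hj)
    intro y hy
    have h1 : w * y * w⁻¹ ∈ J := F.nJ w hc y hy
    have : j * j * y * (j * j)⁻¹ = y := by
      calc j * j * y * (j * j)⁻¹ = j * (j * y * j⁻¹) * j⁻¹ := by group
        _ = w * (w * y * w⁻¹) * w⁻¹ := by rw [← hjx y hy, ← hjx _ h1]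
        _ = (w * w) * y * (w * w)⁻¹ := by group
        _ = y := by rw [hww]; group
    exact mul_inv_eq_iff_eq_mul.1 this
  have hji : j⁻¹ = j := inv_eq_of_mul_eq_one_left hjj
  have hjt := F.cJ j hj
  have hjd := (hdJ j hj).symm
  -- the part `y` of `w` centralizing `J`
  set y := j * w with hy
  have hwy : w = j * y := by rw [hy, ← mul_assoc, hjj, one_mul]
  have hyJ : ∀ x ∈ J, y * x = x * y := by
    intro x hx
    have h1 := hjx x hx
    have h2 : y * x * y⁻¹ = x := by
      calc y * x * y⁻¹ = j * (w * x * w⁻¹) * j⁻¹ := by rw [hy]; group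
        _ = j * (j * x * j⁻¹) * j⁻¹ := by rw [h1]
        _ = (j * j) * x * (j * j)⁻¹ := by group
        _ = x := by rw [hjj]; group
    exact mul_inv_eq_iff_eq_mul.1 h2
  have hyy : y * y = 1 := by
    have h1 := hyJ j hj
    calc y * y = y * (j * w) := rfl
      _ = (y * j) * w := by group
      _ = j * y * w := by rw [h1]
      _ = j * j * w * w := by rw [hy]; group
      _ = (j * j) * (w * w) := by group
      _ = 1 := by rw [hjj, hww, one_mul]
  have hyt : y * t = t * y := by
    calc y * t = j * (w * t) := by rw [hy]; group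
      _ = (j * t) * w := by rw [hc]; group
      _ = t * y := by rw [hjt, hy]; group
  have hyd : y * d = d * y := by
    calc y * d = j * (w * d) := by rw [hy]; group
      _ = (j * d) * w := by rw [hwd]; group
      _ = d * y := by rw [hjd, hy]; group
  -- `y` acts on `J'` as `1` or `t`
  have hyt1 : y = 1 ∨ y = t := by
    obtain ⟨h, hh, hhx⟩ := inner F.hJ' (c := y) (F.nJ' y (hyJ u F.uJ))
    have hhh : h * h = 1 := by
      apply eq_one_of_comm F.hJ' (mul_mem hh hh)
      intro z hz
      have h1 : y * z * y⁻¹ ∈ J' := F.nJ' y (hyJ u F.uJ) z hz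
      have : h * h * z * (h * h)⁻¹ = z := by
        calc h * h * z * (h * h)⁻¹ = h * (h * z * h⁻¹) * h⁻¹ := by group
          _ = y * (y * z * y⁻¹) * y⁻¹ := by rw [← hhx z hz, ← hhx _ h1]
          _ = (y * y) * z * (y * y)⁻¹ := by group
          _ = z := by rw [hyy]; group
      exact mul_inv_eq_iff_eq_mul.1 this
    have ht : h * t = t * h := by
      have h1 := hhx t F.tJ'
      have h2 : y * t * y⁻¹ = t := by rw [hyt]; group
      rw [h2] at h1
      exact (mul_inv_eq_iff_eq_mul.1 h1.symm)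
    have hd' : h * d = d * h := by
      have h1 := hhx d hd
      have h2 : y * d * y⁻¹ = d := by rw [hyd]; group
      rw [h2] at h1
      exact (mul_inv_eq_iff_eq_mul.1 h1.symm)
    have hor := eq_of_comm_three F.hJ' (a := ⟨t, F.tJ'⟩) (d := ⟨d, hd⟩) (h := ⟨h, hh⟩)
      (coe_orderOf_two F.tJ' F.tt F.t1) hJ3 (Subtype.ext hdt) (Subtype.ext hhh)
      (Subtype.ext ht) (Subtype.ext hd')
    rcases hor with e | e
    · left
      have e' : h = 1 := congrArg Subtype.val e
      subst e'
      apply F.fix y hyy hyJ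
      intro z hz
      have := hhx z hz
      rw [mul_inv_eq_iff_eq_mul] at this
      rw [this]; group
    · right
      have e' : h = t := congrArg Subtype.val e
      have h1 : t * y = 1 := by
        apply F.fix
        · calc t * y * (t * y) = t * (y * t) * y := by group
            _ = (t * t) * (y * y) := by rw [hyt]; group
            _ = 1 := by rw [F.tt, hyy, one_mul]
        · intro z hz
          calc t * y * z = t * (y * z) := by group
            _ = (t * z) * y := by rw [hyJ z hz]; group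
            _ = z * (t * y) := by rw [← F.cJ z hz]; group
        · intro z hz
          have h2 := hhx z hz
          rw [e'] at h2
          have : t * y * z * (t * y)⁻¹ = z := by
            calc t * y * z * (t * y)⁻¹ = t * (y * z * y⁻¹) * t⁻¹ := by group
              _ = t * (t * z * t⁻¹) * t⁻¹ := by rw [h2]
              _ = (t * t) * z * (t * t)⁻¹ := by group
              _ = z := by rw [F.tt]; group
          exact mul_inv_eq_iff_eq_mul.1 this
      have hti : t⁻¹ = t := inv_eq_of_mul_eq_one_left F.tt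
      rw [← hti]
      exact (eq_inv_of_mul_eq_one_right h1)
  by_cases hj1 : j = 1
  · rw [hwy, hj1, one_mul]
    rcases hyt1 with e | e
    · exact absurd (by rw [hwy, hj1, e, one_mul]) hw1
    · exact e
  · exfalso
    obtain ⟨k, hk⟩ := isConj_iff.1 (Cfsg.Agent.SporadicA.M11Facts.isConj_involutions F.hJ
      (coe_orderOf_two hj hjj hj1) (coe_orderOf_two F.uJ F.uu F.u1))
    have hk' : (k : G) * j * (k : G)⁻¹ = u := congrArg Subtype.val hk
    rcases hyt1 with e | e
    · -- `w = j`
      apply hnu (k * x)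
      · have := hdJ k k.2
        calc (k : G) * x * d = k * (x * d) := by group
          _ = (k * d) * x := by rw [hx]; group
          _ = d * (k * x) := by rw [← this]; group
      · calc (k : G) * x * t * (k * x)⁻¹ = k * (x * t * x⁻¹) * (k : G)⁻¹ := by group
          _ = k * j * (k : G)⁻¹ := by rw [← hw, hwy, e, mul_one]
          _ = u := hk'
    · apply F.ntu (k * x)
      have hkt := F.cJ k k.2
      calc (k : G) * x * t * (k * x)⁻¹ = k * (x * t * x⁻¹) * (k : G)⁻¹ := by group
        _ = k * (j * t) * (k : G)⁻¹ := by rw [← hw, hwy, e]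
        _ = (k * j * (k : G)⁻¹) * (k * t * (k : G)⁻¹) := by group
        _ = u * t := by rw [hk', hkt]; group
        _ = t * u := F.tu.symm

/-- The normal subgroup of odd order of `C(d)` given by the `Z*`-theorem. -/
theorem exists_core (F : Frame t u v r p q J J') {d : G} (hd : d ∈ J') (h3 : orderOf d = 3)
    (hdt : d * t = t * d) : ∃ N : Subgroup G, Odd (Nat.card N) ∧ (∀ n ∈ N, n * d = d * n) ∧
      (∀ x, x * d = d * x → ∀ n ∈ N, x * n * x⁻¹ ∈ N) ∧
      (∀ x, x * d = d * x → t * x * t⁻¹ * x⁻¹ ∈ N) := by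
  classical
  have p2 : Fact (Nat.Prime 2) := ⟨Nat.prime_two⟩
  set X := centralizer ({d} : Set G) with hX
  have hmem : ∀ {x : G}, x ∈ X ↔ x * d = d * x := mem_centralizer_singleton_iff
  let t' : X := ⟨t, hmem.2 hdt.symm⟩
  have ht' : orderOf t' = 2 := by
    rw [← Subgroup.orderOf_coe]; exact orderOf_two F.tt F.t1
  have hiso' : Cfsg.IsIsolatedInvolution t' := by
    refine ⟨ht', fun g hg => ?_⟩
    apply Subtype.ext
    exact isolated F hd h3 hdt (hmem.1 g.2) (congrArg Subtype.val hg).symm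
  have hp : IsPGroup 2 (zpowers t') := by
    rw [IsPGroup.iff_card]
    exact ⟨1, by rw [Nat.card_zpowers, ht', pow_one]⟩
  obtain ⟨P, hP⟩ := hp.exists_le_sylow
  have htP : t' ∈ P := hP (mem_zpowers t')
  obtain ⟨N, hN, hodd, hcomm⟩ := Cfsg.Agent.S0215.result P t' ht' htP fun g hg =>
    Cfsg.Agent.S1180.eq_of_conj_mem_isPGroup t' hiso' (P : Subgroup X) P.isPGroup' htP g hg
  refine ⟨N.map X.subtype, ?_, ?_, ?_, ?_⟩
  · rw [Subgroup.card_map_of_injective (subtype_injective X)]; exact hodd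
  · rintro _ ⟨n, _, rfl⟩
    exact hmem.1 n.2
  · rintro x hx _ ⟨n, hn, rfl⟩
    exact ⟨⟨x, hmem.2 hx⟩ * n * ⟨x, hmem.2 hx⟩⁻¹, hN.conj_mem n hn _, rfl⟩
  · intro x hx
    exact ⟨t' * ⟨x, hmem.2 hx⟩ * t'⁻¹ * ⟨x, hmem.2 hx⟩⁻¹, hcomm ⟨x, hmem.2 hx⟩, rfl⟩

omit [Finite G] in
theorem card_fix (N : Subgroup G) (a : G) :
    Nat.card {h : G // h ∈ N ∧ (MulAut.conj a).toMonoidHom h = h} =
      Nat.card (N ⊓ centralizer ({a} : Set G) : Subgroup G) := by
  apply Nat.card_congr
  refine Equiv.subtypeEquivRight fun x => ?_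
  rw [mem_inf, mem_centralizer_singleton_iff]
  refine and_congr Iff.rfl ?_
  change a * x * a⁻¹ = x ↔ _
  rw [mul_inv_eq_iff_eq_mul]
  exact eq_comm

omit [Finite G] in
theorem conj_conj {a : G} (h : a * a = 1) (g : G) :
    (MulAut.conj a).toMonoidHom ((MulAut.conj a).toMonoidHom g) = g := by
  change a * (a * g * a⁻¹) * a⁻¹ = g
  calc a * (a * g * a⁻¹) * a⁻¹ = (a * a) * g * (a * a)⁻¹ := by group
    _ = g := by rw [h]; group

/-- **The configuration is impossible.** -/
theorem false (F : Frame t u v r p q J J') : False := by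
  classical
  obtain ⟨⟨d, hd⟩, h3', hdt'⟩ := exists_three F.hJ' (coe_orderOf_two F.tJ' F.tt F.t1)
  have h3 : orderOf d = 3 := by rw [← Subgroup.orderOf_coe] at h3'; exact h3'
  have hdt : d * t = t * d := congrArg Subtype.val hdt'
  have hdJ : ∀ x ∈ J, d * x = x * d := fun x hx => d_J F hd h3 hdt hx
  obtain ⟨⟨s, hs⟩, hs1', hso', hsd', hst', hsall⟩ := three_data F.hJ'
    (coe_orderOf_two F.tJ' F.tt F.t1) h3' hdt'
  have hs1 : s ≠ 1 := fun h => hs1' (Subtype.ext h)
  have hso : Odd (orderOf s) := by rw [← Subgroup.orderOf_coe] at hso'; exact hso'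
  have hsd : s * d = d * s := congrArg Subtype.val hsd'
  have hst : t * s * t⁻¹ = s⁻¹ := congrArg Subtype.val hst'
  obtain ⟨N, hodd, hNd, hNx, hNt⟩ := exists_core F hd h3 hdt
  have hti : t⁻¹ = t := inv_eq_of_mul_eq_one_left F.tt
  have hui : u⁻¹ = u := inv_eq_of_mul_eq_one_left F.uu
  have hJX : ∀ x ∈ J, x * d = d * x := fun x hx => (hdJ x hx).symm
  have hNodd : ∀ n ∈ N, Odd (orderOf n) := by
    intro n hn
    have := orderOf_dvd_natCard (⟨n, hn⟩ : N)
    rw [← Subgroup.orderOf_coe] at this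
    exact Odd.of_dvd_nat hodd this
  -- `s ∈ N`
  have hsN : s ∈ N := by
    apply mem_of_sq_mem hso
    have h1 := hNt s hsd
    rw [hst] at h1
    have := inv_mem h1
    rwa [mul_inv_rev, inv_inv] at this
  -- `J ∩ N = 1`
  have hJN : ∀ x ∈ J, x ∈ N → x = 1 := by
    have hn : (N.subgroupOf J).Normal := by
      constructor
      intro n hn g
      rw [mem_subgroupOf] at hn ⊢
      exact hNx g (hJX g g.2) n hn
    have hJs := F.hJ.1
    rcases hJs.eq_bot_or_eq_top_of_normal _ hn with h | h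
    · intro x hx hxN
      have : (⟨x, hx⟩ : J) ∈ N.subgroupOf J := mem_subgroupOf.2 hxN
      rw [h, mem_bot] at this
      exact congrArg Subtype.val this
    · exfalso
      have : (⟨u, F.uJ⟩ : J) ∈ N.subgroupOf J := by rw [h]; trivial
      have := hNodd u (mem_subgroupOf.1 this)
      rw [orderOf_two F.uu F.u1] at this
      exact absurd this (by decide)
  -- `C_N(t)` centralizes `J`
  have hcen : ∀ n ∈ N, n * t = t * n → ∀ x ∈ J, n * x = x * n := by
    intro n hn hnt x hx
    have h1 : n * x * n⁻¹ * x⁻¹ = 1 := by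
      apply hJN
      · exact mul_mem (F.nJ n hnt x hx) (inv_mem hx)
      · have := hNx x (hJX x hx) _ (inv_mem hn)
        have e : n * x * n⁻¹ * x⁻¹ = n * (x * n⁻¹ * x⁻¹) := by group
        rw [e]
        exact mul_mem hn this
    calc n * x = (n * x * n⁻¹ * x⁻¹) * x * n := by group
      _ = x * n := by rw [h1, one_mul]
  -- elements of `C_N(u)` inverted by `t`
  have hinv : ∀ n ∈ N, n * u = u * n → t * n * t⁻¹ = n⁻¹ → n = 1 ∨ n = s ∨ n = s⁻¹ := by
    intro n hn hnu hnt
    have hnJ' : n ∈ J' := by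
      apply mem_of_sq_mem (hNodd n hn)
      have h1 := F.nJ' n hnu t F.tJ'
      have h2 : n * t * n⁻¹ * t⁻¹ = n * n := by
        calc n * t * n⁻¹ * t⁻¹ = n * (t * n * t⁻¹)⁻¹ := by group
          _ = n * n := by rw [hnt, inv_inv]
      rw [← h2]
      exact mul_mem h1 (inv_mem F.tJ')
    have := hsall ⟨n, hnJ'⟩ (Subtype.ext (hNd n hn)) (Subtype.ext hnt)
      (by rw [← Subgroup.orderOf_coe]; exact hNodd n hn)
    rcases this with h | h | h
    · exact Or.inl (congrArg Subtype.val h)
    · exact Or.inr (Or.inl (congrArg Subtype.val h))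
    · exact Or.inr (Or.inr (congrArg Subtype.val h))
  have hsu : s * u = u * s := F.cJ' s hs
  have hsit : t * s⁻¹ * t⁻¹ = s⁻¹⁻¹ := by
    calc t * s⁻¹ * t⁻¹ = (t * s * t⁻¹)⁻¹ := by group
      _ = s⁻¹⁻¹ := by rw [hst]
  have hsiu : s⁻¹ * u = u * s⁻¹ := by
    calc s⁻¹ * u = s⁻¹ * (u * s) * s⁻¹ := by group
      _ = s⁻¹ * (s * u) * s⁻¹ := by rw [hsu]
      _ = u * s⁻¹ := by group
  have hsne : s ≠ s⁻¹ := ne_inv_of_odd hso hs1
  have hNt' : ∀ n ∈ N, t * n * t⁻¹ ∈ N := hNx t hdt.symm
  -- the number of fixed points of `t`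
  set c := Nat.card (N ⊓ centralizer ({t} : Set G) : Subgroup G) with hc
  have hcpos : 0 < c := Nat.card_pos
  -- `|C_N(u)| = 3 c`
  have hcu : Nat.card (N ⊓ centralizer ({u} : Set G) : Subgroup G) = c * 3 := by
    have hKodd : Odd (Nat.card (N ⊓ centralizer ({u} : Set G) : Subgroup G)) :=
      Odd.of_dvd_nat hodd (card_dvd_of_le inf_le_left)
    rw [Cfsg.Agent.Lib.KleinOrder.card_eq_fix_mul_inv (N ⊓ centralizer ({u} : Set G)) hKodd
      (MulAut.conj t).toMonoidHom (conj_conj F.tt) (fun h hh => by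
        rw [mem_inf, mem_centralizer_singleton_iff] at hh ⊢
        refine ⟨hNt' h hh.1, ?_⟩
        change t * h * t⁻¹ * u = u * (t * h * t⁻¹)
        rw [hti]
        calc t * h * t * u = t * h * (t * u) := by group
          _ = t * (h * u) * t := by rw [F.tu]; group
          _ = (t * u) * h * t := by rw [hh.2]; group
          _ = u * (t * h * t) := by rw [F.tu]; group), card_fix]
    have heq : N ⊓ centralizer ({u} : Set G) ⊓ centralizer ({t} : Set G) =
        N ⊓ centralizer ({t} : Set G) := by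
      apply le_antisymm
      · exact inf_le_inf_right _ inf_le_left
      · intro n hn
        rw [mem_inf, mem_centralizer_singleton_iff] at hn
        rw [mem_inf, mem_inf, mem_centralizer_singleton_iff, mem_centralizer_singleton_iff]
        exact ⟨⟨hn.1, hcen n hn.1 hn.2 u F.uJ⟩, hn.2⟩
    rw [heq, ← hc]
    congr 1
    · have : ({h : G | h ∈ N ⊓ centralizer ({u} : Set G) ∧
          (MulAut.conj t).toMonoidHom h = h⁻¹} : Set G) = {1, s, s⁻¹} := by
        ext n
        constructor
        · rintro ⟨h1, h2⟩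
          rw [mem_inf, mem_centralizer_singleton_iff] at h1
          exact hinv n h1.1 h1.2 h2
        · rintro (h | h | h)
          · subst h
            exact ⟨one_mem _, by simp⟩
          · subst h
            exact ⟨mem_inf.2 ⟨hsN, mem_centralizer_singleton_iff.2 hsu⟩, hst⟩
          · rw [Set.mem_singleton_iff] at h
            subst h
            exact ⟨mem_inf.2 ⟨inv_mem hsN, mem_centralizer_singleton_iff.2 hsiu⟩, hsit⟩
      change Nat.card ({h : G | h ∈ N ⊓ centralizer ({u} : Set G) ∧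
          (MulAut.conj t).toMonoidHom h = h⁻¹} : Set G) = 3
      rw [this, Nat.card_coe_set_eq]
      rw [Set.ncard_insert_of_notMem, Set.ncard_insert_of_notMem, Set.ncard_singleton]
      · exact hsne
      · rintro (h | h)
        · exact hs1 h.symm
        · rw [Set.mem_singleton_iff] at h
          exact hs1 (inv_eq_one.1 h.symm)
  -- the same for every involution of `J`
  have hca : ∀ a ∈ J, a * a = 1 → a ≠ 1 →
      Nat.card (N ⊓ centralizer ({a} : Set G) : Subgroup G) = c * 3 := by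
    intro a ha haa ha1
    rw [← hcu]
    obtain ⟨k, hk⟩ := isConj_iff.1 (Cfsg.Agent.SporadicA.M11Facts.isConj_involutions F.hJ
      (coe_orderOf_two ha haa ha1) (coe_orderOf_two F.uJ F.uu F.u1))
    have hk' : (k : G) * a * (k : G)⁻¹ = u := congrArg Subtype.val hk
    have hkN : ∀ n, n ∈ N ↔ (k : G) * n * (k : G)⁻¹ ∈ N := by
      intro n
      refine ⟨hNx k (hJX k k.2) n, fun h => ?_⟩
      have h1 := hNx (k : G)⁻¹ (hJX _ (inv_mem k.2)) _ h
      have e : (k : G)⁻¹ * ((k : G) * n * (k : G)⁻¹) * ((k : G)⁻¹)⁻¹ = n := by group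
      rwa [e] at h1
    apply Nat.card_congr
    refine (MulAut.conj (k : G)).toEquiv.subtypeEquiv fun n => ?_
    change n ∈ N ⊓ centralizer ({a} : Set G) ↔
      (k : G) * n * (k : G)⁻¹ ∈ N ⊓ centralizer ({u} : Set G)
    rw [mem_inf, mem_inf, ← hkN, mem_centralizer_singleton_iff, mem_centralizer_singleton_iff,
      ← hk']
    refine and_congr Iff.rfl ⟨fun h => ?_, fun h => ?_⟩
    · calc (k : G) * n * (k : G)⁻¹ * (k * a * (k : G)⁻¹) = k * (n * a) * (k : G)⁻¹ := by group
        _ = k * (a * n) * (k : G)⁻¹ := by rw [h]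
        _ = _ := by group
    · have : (k : G) * (n * a) * (k : G)⁻¹ = k * (a * n) * (k : G)⁻¹ := by
        calc (k : G) * (n * a) * (k : G)⁻¹
            = (k : G) * n * (k : G)⁻¹ * (k * a * (k : G)⁻¹) := by group
          _ = _ := h
          _ = _ := by group
      exact mul_left_cancel (mul_right_cancel this)
  -- the order of `N`
  have hN := Cfsg.Agent.Lib.KleinOrder.card_eq_fix_mul_inv N hodd
      (MulAut.conj t).toMonoidHom (conj_conj F.tt) hNt'
  rw [card_fix, ← hc] at hN
  set m := Nat.card {h : G // h ∈ N ∧ (MulAut.conj t).toMonoidHom h = h⁻¹} with hm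
  have hK := Cfsg.Agent.Lib.KleinOrder.card_klein N hodd F.uu F.vv F.uv
    (hNx u (hJX u F.uJ)) (hNx v (hJX v F.vJ))
  have huv1 : u * v ≠ 1 := by
    intro h
    apply F.uv_ne
    calc u = u * (v * v) := by rw [F.vv, mul_one]
      _ = (u * v) * v := by group
      _ = v := by rw [h, one_mul]
  have huvuv : u * v * (u * v) = 1 := by
    calc u * v * (u * v) = u * (v * u) * v := by group
      _ = (u * u) * (v * v) := by rw [← F.uv]; group
      _ = 1 := by rw [F.uu, F.vv, one_mul]
  rw [hcu, hca v F.vJ F.vv F.v1, hca (u * v) (mul_mem F.uJ F.vJ) huvuv huv1, hN] at hK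
  obtain ⟨k, hk⟩ : c ∣ Nat.card (N ⊓ centralizer ({u} : Set G) ⊓ centralizer ({v} : Set G) :
      Subgroup G) := by
    rw [hc]
    apply card_dvd_of_le
    intro n hn
    rw [mem_inf, mem_centralizer_singleton_iff] at hn
    rw [mem_inf, mem_inf, mem_centralizer_singleton_iff, mem_centralizer_singleton_iff]
    exact ⟨⟨hn.1, hcen n hn.1 hn.2 u F.uJ⟩, hcen n hn.1 hn.2 v F.vJ⟩
  rw [hk] at hK
  have hmk : m * k ^ 2 = 27 := by
    have : c ^ 3 * (m * k ^ 2) = c ^ 3 * 27 := by
      calc c ^ 3 * (m * k ^ 2) = c * m * (c * k) ^ 2 := by ring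
        _ = c * 3 * (c * 3) * (c * 3) := hK
        _ = c ^ 3 * 27 := by ring
    exact Nat.eq_of_mul_eq_mul_left (by positivity) this
  have hm27 : m = 27 ∨ m = 3 := by
    have hk5 : k ≤ 5 := by
      by_contra hcon
      push Not at hcon
      have hmpos : 0 < m := by
        rcases Nat.eq_zero_or_pos m with h | h
        · rw [h] at hmk; omega
        · exact h
      nlinarith
    interval_cases k <;> omega
  -- the action of `J` on the nontrivial elements of `N` inverted by `t`
  let Ω := {n : G // n ∈ N ∧ t * n * t⁻¹ = n⁻¹ ∧ n ≠ 1}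
  have hact : ∀ (a : J) (n : G), n ∈ N ∧ t * n * t⁻¹ = n⁻¹ ∧ n ≠ 1 →
      (a : G) * n * (a : G)⁻¹ ∈ N ∧ t * ((a : G) * n * (a : G)⁻¹) * t⁻¹ =
        ((a : G) * n * (a : G)⁻¹)⁻¹ ∧ (a : G) * n * (a : G)⁻¹ ≠ 1 := by
    intro a n ⟨h1, h2, h3⟩
    refine ⟨hNx a (hJX a a.2) n h1, ?_, ?_⟩
    · have hat := F.cJ a a.2
      have hat' : (a : G)⁻¹ * t⁻¹ = t⁻¹ * (a : G)⁻¹ := by
        rw [← mul_inv_rev, ← mul_inv_rev, hat]
      calc t * ((a : G) * n * (a : G)⁻¹) * t⁻¹ = (t * a) * n * ((a : G)⁻¹ * t⁻¹) := by group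
        _ = a * (t * n * t⁻¹) * (a : G)⁻¹ := by rw [hat', ← hat]; group
        _ = ((a : G) * n * (a : G)⁻¹)⁻¹ := by rw [h2]; group
    · intro h
      apply h3
      rw [mul_inv_eq_one] at h
      exact mul_eq_left.1 h
  let act : MulAction J Ω :=
    { smul := fun a n => ⟨(a : G) * n * (a : G)⁻¹, hact a n n.2⟩
      one_smul := fun n => Subtype.ext (by
        change ((1 : J) : G) * (n : G) * ((1 : J) : G)⁻¹ = n
        rw [Subgroup.coe_one]; group)
      mul_smul := fun a b n => Subtype.ext (by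
        change ((a * b : J) : G) * (n : G) * ((a * b : J) : G)⁻¹ =
          (a : G) * ((b : G) * n * (b : G)⁻¹) * (a : G)⁻¹
        rw [Subgroup.coe_mul]; group) }
  have hsmul : ∀ (a : J) (n : Ω), ((a • n : Ω) : G) = (a : G) * n * (a : G)⁻¹ := fun _ _ => rfl
  have hfin : Finite Ω := inferInstance
  have hcardΩ : Nat.card Ω + 1 = m := by
    have h1 : Nat.card Ω = ({n : G | n ∈ N ∧ t * n * t⁻¹ = n⁻¹} \ {1} : Set G).ncard := by
      rw [← Nat.card_coe_set_eq]
      apply Nat.card_congr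
      refine Equiv.subtypeEquivRight fun n => ?_
      rw [Set.mem_sdiff, Set.mem_singleton_iff]
      change _ ↔ (n ∈ N ∧ t * n * t⁻¹ = n⁻¹) ∧ n ≠ 1
      tauto
    rw [h1, Set.ncard_sdiff_singleton_add_one]
    · rfl
    · exact ⟨one_mem _, by simp⟩
  -- every orbit has even length
  have hvs : v * s * v⁻¹ = s⁻¹ := by rw [v_act F hs, hst]
  have hvsi : v * s⁻¹ * v⁻¹ = s := by
    calc v * s⁻¹ * v⁻¹ = (v * s * v⁻¹)⁻¹ := by group
      _ = s := by rw [hvs, inv_inv]
  have heven : ∀ ω : Ω, Even (MulAction.orbit J ω).ncard := by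
    intro ω
    let U : J := ⟨u, F.uJ⟩
    let V : J := ⟨v, F.vJ⟩
    have hUU : U * U = 1 := Subtype.ext F.uu
    have hVV : V * V = 1 := Subtype.ext F.vv
    have hUV : U * V = V * U := Subtype.ext F.uv
    -- fixed points of `u`
    have hfixU : ∀ n : Ω, U • n = n → V • n ≠ n := by
      intro n hn h
      have h1 : u * (n : G) * u⁻¹ = n := congrArg Subtype.val hn
      have h2 := hinv n n.2.1 (by
        have := mul_inv_eq_iff_eq_mul.1 h1
        exact this.symm) n.2.2.1
      have h3 : v * (n : G) * v⁻¹ = n := congrArg Subtype.val h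
      rcases h2 with e | e | e
      · exact n.2.2.2 e
      · rw [e, hvs] at h3
        exact hsne h3.symm
      · rw [e, hvsi] at h3
        exact hsne h3
    -- the fixed point free involution
    let O := MulAction.orbit J ω
    have hO : ∀ (a : J) (n : Ω), n ∈ O → a • n ∈ O := by
      rintro a n ⟨b, rfl⟩
      exact ⟨a * b, mul_smul a b ω⟩
    let f : O → O := fun n =>
      if U • (n : Ω) = n then ⟨V • (n : Ω), hO V n n.2⟩ else ⟨U • (n : Ω), hO U n n.2⟩
    have hf : ∀ n, f (f n) = n := by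
      intro n
      by_cases h : U • (n : Ω) = n
      · have h1 : f n = ⟨V • (n : Ω), hO V n n.2⟩ := if_pos h
        have h2 : U • (V • (n : Ω)) = V • (n : Ω) := by
          rw [← mul_smul, hUV, mul_smul, h]
        have h3 : f (f n) = ⟨V • (V • (n : Ω)), hO V _ (hO V n n.2)⟩ := by
          rw [h1]; exact if_pos h2
        rw [h3]
        apply Subtype.ext
        change V • (V • (n : Ω)) = n
        rw [← mul_smul, hVV, one_smul]
      · have h1 : f n = ⟨U • (n : Ω), hO U n n.2⟩ := if_neg h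
        have h2 : ¬ U • (U • (n : Ω)) = U • (n : Ω) := by
          intro h'
          exact h (MulAction.injective U h')
        have h3 : f (f n) = ⟨U • (U • (n : Ω)), hO U _ (hO U n n.2)⟩ := by
          rw [h1]; exact if_neg h2
        rw [h3]
        apply Subtype.ext
        change U • (U • (n : Ω)) = n
        rw [← mul_smul, hUU, one_smul]
    have hfne : ∀ n, f n ≠ n := by
      intro n hn
      by_cases h : U • (n : Ω) = n
      · have h1 : f n = ⟨V • (n : Ω), hO V n n.2⟩ := if_pos h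
        rw [h1] at hn
        exact hfixU n h (congrArg Subtype.val hn)
      · have h1 : f n = ⟨U • (n : Ω), hO U n n.2⟩ := if_neg h
        rw [h1] at hn
        exact h (congrArg Subtype.val hn)
    have h1 : (MulAction.orbit J ω).ncard = Nat.card O := (Nat.card_coe_set_eq _).symm
    rw [h1]
    exact even_card_of_invol f hf hfne
  exact no_orbits F.hJ heven (by omega)

end Cfsg.Agent.SylowLFive.MElevenOut
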