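import Mathlib

/-!
# Automorphisms of the quaternion group of order 8

* `eq_one_of_comm`: an automorphism of odd order commuting with an automorphism of order 2 is trivial;
* `exists_inner`: two automorphisms of order dividing 3, the second one not trivial, generate the
  same subgroup modulo inner automorphisms;
* `comm_of_odd`, `exists_comm`: the same for elements of a group normalising a quaternion group.
-/

set_option autoImplicit false

namespace Cfsg.Agent.SylowLFive.QEight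

open QuaternionGroup

/-- quaternion group of order 8 -/
abbrev Q8 := QuaternionGroup 2

/-- the map with `a 1 ↦ u`, `xa 0 ↦ v` -/
def ev (u v : Q8) : Q8 → Q8
  | a i => u ^ i.val
  | xa i => v * u ^ i.val

theorem ev_eq (α : MulAut Q8) (x : Q8) : α x = ev (α (a 1)) (α (xa 0)) x := by
  have h1 : ∀ i : ZMod (2 * 2), (a i : Q8) = (a 1) ^ i.val := by decide
  have h2 : ∀ i : ZMod (2 * 2), (xa i : Q8) = xa 0 * (a 1) ^ i.val := by decide
  cases x with
  | a i =>
    calc α (a i) = α ((a 1) ^ i.val) := by rw [← h1 i]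
      _ = _ := map_pow _ _ _
  | xa i =>
    calc α (xa i) = α (xa 0 * (a 1) ^ i.val) := by rw [← h2 i]
      _ = _ := by rw [map_mul, map_pow]; rfl

/-- the conditions for a pair to be the image of the generators -/
def P (u v : Q8) : Prop := u * u = a 2 ∧ v * v = a 2 ∧ u * v = v * u⁻¹

instance (u v : Q8) : Decidable (P u v) := by unfold P; infer_instance

theorem map_a2 (α : MulAut Q8) : α (a 2) = a 2 := by
  have h : ∀ x : Q8, x * x = 1 → x = 1 ∨ x = a 2 := by decide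
  have h1 : α (a 2) * α (a 2) = 1 := by
    rw [← map_mul, show (a 2 : Q8) * a 2 = 1 from by decide, map_one]
  rcases h _ h1 with h2 | h2
  · exfalso
    rw [MulEquiv.map_eq_one_iff] at h2
    revert h2; decide
  · exact h2

theorem P_of (α : MulAut Q8) : P (α (a 1)) (α (xa 0)) := by
  refine ⟨?_, ?_, ?_⟩
  · rw [← map_mul, show (a 1 : Q8) * a 1 = a 2 from by decide, map_a2]
  · rw [← map_mul, show (xa 0 : Q8) * xa 0 = a 2 from by decide, map_a2]
  · rw [← map_mul, show (a 1 : Q8) * xa 0 = xa 0 * (a 1)⁻¹ from by decide, map_mul, map_inv]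

theorem ext_gen {α β : MulAut Q8} (h1 : α (a 1) = β (a 1)) (h2 : α (xa 0) = β (xa 0)) : α = β := by
  ext x
  rw [ev_eq α x, ev_eq β x, h1, h2]

set_option maxRecDepth 100000 in
theorem dec2 : ∀ u v : Q8, P u v → ∀ u' v' : Q8, P u' v' → ev u v u' = ev u' v' u →
    ev u v v' = ev u' v' v → ev u' v' u' = a 1 → ev u' v' v' = xa 0 → ¬ (u' = a 1 ∧ v' = xa 0) →
    ev u v (ev u v (ev u v u)) = a 1 ∧ ev u v (ev u v (ev u v v)) = xa 0 := by
  decide

/-- order dividing 3 -/
def T3 (u v : Q8) : Prop := P u v ∧ ev u v (ev u v u) = a 1 ∧ ev u v (ev u v v) = xa 0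

instance (u v : Q8) : Decidable (T3 u v) := by unfold T3; infer_instance

/-- inner -/
def In (u v : Q8) : Prop := ∃ q : Q8, u = q * a 1 * q⁻¹ ∧ v = q * xa 0 * q⁻¹

instance (u v : Q8) : Decidable (In u v) := by unfold In; infer_instance

set_option maxRecDepth 100000 in
theorem dec1 : ∀ u v : Q8, T3 u v → ∀ u' v' : Q8, T3 u' v' → ¬ (u' = a 1 ∧ v' = xa 0) →
    In u v ∨ In (ev u v u') (ev u v v') ∨ In (ev u v (ev u' v' u')) (ev u v (ev u' v' v')) := by
  decide

theorem T3_of {α : MulAut Q8} (h : α ^ 3 = 1) : T3 (α (a 1)) (α (xa 0)) := by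
  have e : ∀ x, α (α (α x)) = x := fun x => by
    have := DFunLike.congr_fun h x
    rwa [pow_succ, pow_two] at this
  refine ⟨P_of α, ?_, ?_⟩
  · rw [← ev_eq, ← ev_eq, e]
  · rw [← ev_eq, ← ev_eq, e]

theorem exists_inner {α β : MulAut Q8} (h : α ^ 3 = 1) (h' : β ^ 3 = 1) (hne : β ≠ 1) :
    ∃ (q : Q8) (k : ℕ), α * β ^ k = MulAut.conj q := by
  have key : ∀ γ : MulAut Q8, In (γ (a 1)) (γ (xa 0)) → ∃ q, γ = MulAut.conj q := by
    rintro γ ⟨q, h1, h2⟩
    exact ⟨q, ext_gen (by rw [h1]; rfl) (by rw [h2]; rfl)⟩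
  rcases dec1 _ _ (T3_of h) _ _ (T3_of h')
    (fun hh => hne (ext_gen (by rw [hh.1]; rfl) (by rw [hh.2]; rfl))) with h1 | h1 | h1
  · obtain ⟨q, hq⟩ := key _ h1
    exact ⟨q, 0, by rw [pow_zero, mul_one, hq]⟩
  · rw [← ev_eq, ← ev_eq] at h1
    obtain ⟨q, hq⟩ := key (α * β) h1
    exact ⟨q, 1, by rw [pow_one, hq]⟩
  · rw [← ev_eq β, ← ev_eq β, ← ev_eq α, ← ev_eq α] at h1
    obtain ⟨q, hq⟩ := key (α * (β * β)) h1
    exact ⟨q, 2, by rw [pow_two, hq]⟩

theorem eq_one_of_comm {α β : MulAut Q8} {n : ℕ} (hn : Odd n) (hα : α ^ n = 1) (hβ : β ≠ 1)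
    (hβ2 : β * β = 1) (hc : α * β = β * α) : α = 1 := by
  have e1 : ∀ x, β (β x) = x := fun x => DFunLike.congr_fun hβ2 x
  have e2 : ∀ x, α (β x) = β (α x) := fun x => DFunLike.congr_fun hc x
  have h4 : α ^ 4 = 1 := by
    obtain ⟨h1, h2⟩ := dec2 _ _ (P_of α) _ _ (P_of β) (by rw [← ev_eq, ← ev_eq, e2])
      (by rw [← ev_eq, ← ev_eq, e2]) (by rw [← ev_eq, e1]) (by rw [← ev_eq, e1])
      (fun hh => hβ (ext_gen (by rw [hh.1]; rfl) (by rw [hh.2]; rfl)))
    rw [← ev_eq, ← ev_eq, ← ev_eq] at h1 h2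
    refine ext_gen ?_ ?_
    · exact h1
    · exact h2
  have h5 : orderOf α ∣ 4 := orderOf_dvd_of_pow_eq_one h4
  have h6 : orderOf α ∣ n := orderOf_dvd_of_pow_eq_one hα
  have h7 : Nat.Coprime 4 n := by
    have : Nat.Coprime (2 ^ 2) n := Nat.Coprime.pow_left 2 (Nat.coprime_two_left.2 hn)
    exact this
  have h8 : orderOf α = 1 := Nat.dvd_one.1 (h7 ▸ Nat.dvd_gcd h5 h6)
  exact orderOf_eq_one_iff.1 h8

section group

variable {G : Type*} [Group G] {Q : Subgroup G}

/-- the action of the normaliser -/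
def act (e : Q ≃* Q8) : Subgroup.normalizer (Q : Set G) →* MulAut Q8 :=
  (MulAut.congr e).toMonoidHom.comp Q.normalizerMonoidHom

theorem act_apply (e : Q ≃* Q8) (x : Subgroup.normalizer (Q : Set G)) (k : Q) :
    ((e.symm (act e x (e k)) : Q) : G) = x * k * (x : G)⁻¹ := by
  have : e.symm (act e x (e k)) = Q.normalizerMonoidHom x k := by
    show e.symm (e (Q.normalizerMonoidHom x (e.symm (e k)))) = _
    rw [e.symm_apply_apply, e.symm_apply_apply]
  rw [this]
  rfl

theorem act_eq_one_iff (e : Q ≃* Q8) (x : Subgroup.normalizer (Q : Set G)) :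
    act e x = 1 ↔ ∀ k ∈ Q, (x : G) * k = k * x := by
  constructor
  · intro h k hk
    have h1 := act_apply e x ⟨k, hk⟩
    rw [h, MulAut.one_apply, e.symm_apply_apply] at h1
    exact (mul_inv_eq_iff_eq_mul.1 h1.symm)
  · intro h
    ext y
    obtain ⟨k, rfl⟩ := e.surjective y
    rw [MulAut.one_apply]
    apply e.symm.injective
    apply Subtype.ext
    rw [act_apply, e.symm_apply_apply, h k k.2, mul_inv_cancel_right]

/-- an element of odd order commuting with an involution which acts non-trivially acts trivially -/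
theorem comm_of_odd (e : Q ≃* Q8) {x t : G} (hx : x ∈ Subgroup.normalizer (Q : Set G))
    (ht : t ∈ Subgroup.normalizer (Q : Set G)) {n : ℕ} (hn : Odd n) (hxn : x ^ n = 1)
    (htt : t * t = 1) (hxt : x * t = t * x) (hne : ¬ ∀ k ∈ Q, t * k = k * t) :
    ∀ k ∈ Q, x * k = k * x := by
  refine (act_eq_one_iff e ⟨x, hx⟩).1 ?_
  refine eq_one_of_comm (β := act e ⟨t, ht⟩) hn ?_ ?_ ?_ ?_
  · rw [← map_pow]
    have : (⟨x, hx⟩ : Subgroup.normalizer (Q : Set G)) ^ n = 1 := Subtype.ext hxn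
    rw [this, map_one]
  · intro h
    exact hne ((act_eq_one_iff e ⟨t, ht⟩).1 h)
  · rw [← map_mul]
    have : (⟨t, ht⟩ * ⟨t, ht⟩ : Subgroup.normalizer (Q : Set G)) = 1 := Subtype.ext htt
    rw [this, map_one]
  · rw [← map_mul, ← map_mul]
    congr 1
    exact Subtype.ext hxt

/-- elements of order 3: `x y ^ k q` acts trivially for some `k`, `q ∈ Q` -/
theorem exists_comm (e : Q ≃* Q8) {x y : G} (hx : x ∈ Subgroup.normalizer (Q : Set G))
    (hy : y ∈ Subgroup.normalizer (Q : Set G)) (hx3 : x ^ 3 = 1) (hy3 : y ^ 3 = 1)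
    (hne : ¬ ∀ k ∈ Q, y * k = k * y) :
    ∃ (i : ℕ) (q : G), q ∈ Q ∧ ∀ k ∈ Q, (x * y ^ i * q) * k = k * (x * y ^ i * q) := by
  obtain ⟨r, i, hr⟩ := exists_inner (α := act e ⟨x, hx⟩) (β := act e ⟨y, hy⟩)
    (by
      rw [← map_pow]
      have : (⟨x, hx⟩ : Subgroup.normalizer (Q : Set G)) ^ 3 = 1 := Subtype.ext hx3
      rw [this, map_one])
    (by
      rw [← map_pow]
      have : (⟨y, hy⟩ : Subgroup.normalizer (Q : Set G)) ^ 3 = 1 := Subtype.ext hy3
      rw [this, map_one])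
    (fun h => hne ((act_eq_one_iff e ⟨y, hy⟩).1 h))
  obtain ⟨⟨q, hq⟩, hqr⟩ := e.surjective r⁻¹
  have hqn : q ∈ Subgroup.normalizer (Q : Set G) := Subgroup.le_normalizer hq
  refine ⟨i, q, hq, ?_⟩
  have key := act_eq_one_iff e ((⟨x, hx⟩ * ⟨y, hy⟩ ^ i * ⟨q, hqn⟩ :
    Subgroup.normalizer (Q : Set G)))
  refine key.1 ?_
  rw [map_mul, map_mul, map_pow, hr]
  -- the action of `q`
  have h1 : act e ⟨q, hqn⟩ = MulAut.conj r⁻¹ := by
    ext z
    obtain ⟨k, rfl⟩ := e.surjective z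
    apply e.symm.injective
    apply Subtype.ext
    rw [act_apply, MulAut.conj_apply, ← hqr, ← map_mul, ← map_inv, ← map_mul,
      e.symm_apply_apply]
    rfl
  rw [h1, ← map_mul, mul_inv_cancel, map_one]

end group

end Cfsg.Agent.SylowLFive.QEight
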