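import Mathlib
import Cfsg.Agent.TypeLFive.CentThree
import Cfsg.Agent.TypeLFive.CoreOut
import Cfsg.Agent.SylowLFive.Centre

/-!
# Type `L₅`, `q = 3`: `O(C(t)) = 1` and the frame with `K = SL(2,3)`

`X = C(t) / O(C(t))`, `t = t_01`. Elements of odd order commuting with `E` are in `O(C(t))`
(`odd_mem_M`), so `O(C(t))` is normal in `G` and trivial (`M_eq_bot`). Then `J` is a subgroup of
`C(t)`, and `K` is generated by the elements of order three centralising `J`: `exists_kfr`.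
-/

set_option autoImplicit false
set_option linter.unusedSectionVars false

namespace Cfsg.Agent.SylowLFive.Three

open Subgroup hiding mk
open Cfsg
open Cfsg.Agent.SignalizersComponents
open Cfsg.Agent.TypeLFive.CoreBalance
open Cfsg.Agent.TypeLFive.CoreLoc
open Cfsg.Agent.TypeLFive.CoreOut
open Cfsg.Agent.TypeLFive.CentAbs
open Cfsg.Agent.TypeLFive.CentThree
open Cfsg.Agent.TypeLFive.LThreeDef
open Cfsg.Agent.TypeLFive.YCard
open Cfsg.Agent.SylowLFive.ThreeAux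
open Cfsg.Agent.SylowLFive.ThreeLoc
open Cfsg.Agent.SylowLFive.Frame
open Cfsg.Agent.SylowLFive.KFrame
open Cfsg.Agent.SylowLFive.Centre

universe u

variable {G : Type u} [Group G]

local notation "mkQ" => Cfsg.Agent.TypeLFive.CoreLoc.mk

/-! ### The preimage of a subgroup of `C(b) / O(C(b))` -/

/-- the preimage -/
def up (b : G) (N : Subgroup (Q b)) : Subgroup G :=
  (N.comap (QuotientGroup.mk' (pPrimeCore 2 ↥(centralizer ({b} : Set G))))).map
    (centralizer ({b} : Set G)).subtype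

theorem mem_up {b x : G} {N : Subgroup (Q b)} :
    x ∈ up b N ↔ ∃ h : x ∈ centralizer ({b} : Set G), mkQ b x h ∈ N := by
  constructor
  · rintro ⟨y, hy, rfl⟩
    exact ⟨y.2, hy⟩
  · rintro ⟨h, hx⟩
    exact ⟨⟨x, h⟩, hx, rfl⟩

theorem exists_rep (b : G) (y : Q b) : ∃ (x : G) (h : x ∈ centralizer ({b} : Set G)),
    mkQ b x h = y := by
  obtain ⟨c, rfl⟩ := QuotientGroup.mk'_surjective _ y
  exact ⟨c, c.2, rfl⟩

theorem mk_mul' {b x y : G} (hx : x ∈ centralizer ({b} : Set G))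
    (hy : y ∈ centralizer ({b} : Set G)) :
    mkQ b (x * y) (mul_mem hx hy) = mkQ b x hx * mkQ b y hy := rfl

theorem mk_inv' {b x : G} (hx : x ∈ centralizer ({b} : Set G)) :
    mkQ b x⁻¹ (inv_mem hx) = (mkQ b x hx)⁻¹ := rfl

theorem mk_pow' {b x : G} (hx : x ∈ centralizer ({b} : Set G)) (n : ℕ) :
    mkQ b (x ^ n) (pow_mem hx n) = mkQ b x hx ^ n := by
  rw [TypeLFive.CoreLoc.mk, TypeLFive.CoreLoc.mk, ← map_pow]
  rfl

section inj

variable [Finite G] {b : G} (hM : M b = ⊥)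

include hM

theorem mk_inj {x y : G} (hx : x ∈ centralizer ({b} : Set G))
    (hy : y ∈ centralizer ({b} : Set G)) (h : mkQ b x hx = mkQ b y hy) : x = y := by
  have h1 : mkQ b (x * y⁻¹) (mul_mem hx (inv_mem hy)) = 1 := by
    rw [mk_mul' hx (inv_mem hy), mk_inv' hy, h, mul_inv_cancel]
  rw [mk_eq_one_iff, hM, mem_bot] at h1
  exact mul_inv_eq_one.1 h1

theorem up_equiv (N : Subgroup (Q b)) : Nonempty (up b N ≃* N) := by
  let f : up b N →* N :=
    { toFun := fun x => ⟨mkQ b x (mem_up.1 x.2).choose, (mem_up.1 x.2).choose_spec⟩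
      map_one' := rfl
      map_mul' := fun x y => rfl }
  refine ⟨MulEquiv.ofBijective f ⟨?_, ?_⟩⟩
  · intro x y hxy
    exact Subtype.ext (mk_inj hM _ _ (congrArg Subtype.val hxy))
  · rintro ⟨y, hy⟩
    obtain ⟨x, hx, rfl⟩ := exists_rep b y
    exact ⟨⟨x, mem_up.2 ⟨hx, hy⟩⟩, rfl⟩

end inj

/-! ### The frame -/

section

variable {F : FrX G}

theorem swap_act {m : G} (hact : Act F.toFr (Equiv.swap 0 1) m) :
    m * F.T 0 4 * m⁻¹ = F.T 1 4 := by
  have h := hact 0 4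
  have e0 : (Equiv.swap 0 1 : Equiv.Perm (Fin 5)) 0 = 1 := by decide
  have e4 : (Equiv.swap 0 1 : Equiv.Perm (Fin 5)) 4 = 4 := by decide
  rwa [e0, e4] at h

/-- The hypotheses at `q = 3`. -/
structure Hyp3 (F : FrX G) (T : Sylow 2 (Q (F.T 0 1))) (W1 W2 Q1 : Subgroup (Q (F.T 0 1)))
    (Fq : Type*) [Field Fq] [Fintype Fq] (m : G) : Prop where
  chyp : CHyp T W1 W2 Q1
  out : CenOut (F.T 0 1) (F.T 2 3) (F.T 3 4) (F.toFr.z 0) 3 (normalClosure (W2 : Set (Q (F.T 0 1))))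
  hK : normalClosure (Q1 : Set (Q (F.T 0 1))) = Q1
  e8 : Nonempty (Q1 ≃* Q8)
  card : Fintype.card Fq = 3
  yiso : YIso ↥(normalClosure (W2 : Set (Q (F.T 0 1)))) 3 Fq
  mQ : ∃ h : m ∈ centralizer ({F.T 0 1} : Set G), mkQ (F.T 0 1) m h ∈ Q1
  act : Act F.toFr (Equiv.swap 0 1) m
  hE : ⁅M (F.T 0 1), EE F⁆ = ⊥

variable [Finite G] {T : Sylow 2 (Q (F.T 0 1))} {W1 W2 Q1 : Subgroup (Q (F.T 0 1))}
  {Fq : Type*} [Field Fq] [Fintype Fq] {m : G} (H : Hyp3 F T W1 W2 Q1 Fq m)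

include H

theorem Hyp3.jhyp : JHyp (normalClosure (W2 : Set (Q (F.T 0 1)))) Fq where
  simple := H.chyp.simple_J.1
  nc := H.chyp.simple_J.2
  facts := H.out.facts
  yiso := H.yiso

theorem mem_C_of_CE {b : G} (hb : CE F.toFr b) : b ∈ centralizer ({F.T 0 1} : Set G) :=
  mem_centralizer_singleton_iff.2 (hb 0 1)

/-- Elements of odd order commuting with `E` are in the core. -/
theorem Hyp3.odd_mem_M {b : G} (hb : Odd (orderOf b)) (hE : CE F.toFr b) : b ∈ M (F.T 0 1) := by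
  have hbC : b ∈ centralizer ({F.T 0 1} : Set G) := mem_C_of_CE H hE
  rw [← mk_eq_one_iff hbC]
  have hodd : Odd (orderOf (mkQ (F.T 0 1) b hbC)) := by
    refine Odd.of_dvd_nat ?_ (orderOf_map_dvd _ _)
    rw [← Subgroup.orderOf_coe]
    exact hb
  have hJn := H.out.nml
  set J := normalClosure (W2 : Set (Q (F.T 0 1))) with hJ
  have hne : ∀ x (hx : x ∈ centralizer ({F.T 0 1} : Set G)), x ≠ 1 → x * x = 1 →
      mkQ (F.T 0 1) x hx ≠ 1 := by
    intro x hx h1 h2 h3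
    rw [mk_eq_one_iff] at h3
    exact not_mem_M h1 h2 h3
  have hsq : ∀ x (hx : x ∈ centralizer ({F.T 0 1} : Set G)), x * x = 1 →
      mkQ (F.T 0 1) x hx * mkQ (F.T 0 1) x hx = 1 := by
    intro x hx h1
    rw [← mk_mul' hx hx, mk_eq_one_iff, h1]
    exact one_mem _
  have hcm : ∀ x y (hx : x ∈ centralizer ({F.T 0 1} : Set G))
      (hy : y ∈ centralizer ({F.T 0 1} : Set G)), x * y = y * x →
      mkQ (F.T 0 1) x hx * mkQ (F.T 0 1) y hy = mkQ (F.T 0 1) y hy * mkQ (F.T 0 1) x hx := by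
    intro x y hx hy h1
    rw [← mk_mul' hx hy, ← mk_mul' hy hx]
    exact mk_congr h1 _ _
  apply odd_eq_one H.chyp H.hK hodd
  · refine H.jhyp.odd_trivial H.card H.out.t1J (hne _ _ (F.toFr.T_ne_one (by decide)) (F.T_sq 2 3))
      (hsq _ _ (F.T_sq 2 3)) H.out.t2J (hne _ _ (F.toFr.T_ne_one (by decide)) (F.T_sq 3 4))
      (hsq _ _ (F.T_sq 3 4)) ?_ (hcm _ _ _ _ (F.comm 2 3 3 4)) ?_ hodd
      (hcm _ _ _ _ (hE 2 3)) (hcm _ _ _ _ (hE 3 4))
    · intro h1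
      have h2 : mkQ (F.T 0 1) (F.T 2 3 * F.T 3 4) (mul_mem H.out.t1C H.out.t2C) = 1 := by
        rw [mk_mul' H.out.t1C H.out.t2C, h1, hsq _ _ (F.T_sq 3 4)]
      rw [mk_eq_one_iff, F.T_mul] at h2
      exact not_mem_M (F.toFr.T_ne_one (by decide)) (F.T_sq 2 4) h2
    · intro j
      refine ⟨fun hj => hJn.conj_mem j hj _, fun hj => ?_⟩
      have := hJn.conj_mem _ hj (mkQ (F.T 0 1) b hbC)⁻¹
      simpa [mul_assoc] using this
  · -- the action on `Q1`
    obtain ⟨e⟩ := H.e8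
    have hQn : Q1.Normal := by rw [← H.hK]; exact normalClosure_normal
    have hv : F.T 0 4 ∈ centralizer ({F.T 0 1} : Set G) :=
      mem_centralizer_singleton_iff.2 (F.comm _ _ _ _)
    have hnor : ∀ g : Q (F.T 0 1), ∀ p, p ∈ Q1 ↔ g * p * g⁻¹ ∈ Q1 := by
      intro g p
      refine ⟨fun hp => hQn.conj_mem p hp g, fun hp => ?_⟩
      have := hQn.conj_mem _ hp g⁻¹
      simpa [mul_assoc] using this
    rcases q8_comm e (hnor _) (hnor (mkQ (F.T 0 1) (F.T 0 4) hv)) hodd (hsq _ hv (F.T_sq 0 4))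
      (hcm _ _ hbC hv (hE 0 4)) with h | h
    · exact h
    · exfalso
      obtain ⟨hm, hmQ⟩ := H.mQ
      have h1 := h _ hmQ
      have h2 := swap_act H.act
      have h3 : mkQ (F.T 0 1) (m * F.T 0 4 * m⁻¹ * F.T 0 4)
          (mul_mem (mul_mem (mul_mem hm hv) (inv_mem hm)) hv) = 1 := by
        rw [mk_mul' (mul_mem (mul_mem hm hv) (inv_mem hm)) hv, mk_mul' (mul_mem hm hv) (inv_mem hm),
          mk_mul' hm hv, mk_inv' hm, ← h1, mul_inv_cancel_right, hsq _ hv (F.T_sq 0 4)]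
      rw [mk_eq_one_iff, h2, F.T_symm 0 4, F.T_mul] at h3
      exact not_mem_M (F.toFr.T_ne_one (by decide)) (F.T_sq 1 0) h3

/-- `CE` is invariant under `Ind` -/
theorem CE_conj {b n : G} (hn : F.toFr.Ind n) (hb : CE F.toFr b) : CE F.toFr (n * b * n⁻¹) := by
  obtain ⟨σ, hσ⟩ := hn
  intro i j
  have h1 := hσ (σ.symm i) (σ.symm j)
  rw [Equiv.apply_symm_apply, Equiv.apply_symm_apply] at h1
  have h2 := hb (σ.symm i) (σ.symm j)
  rw [← h1]
  calc n * b * n⁻¹ * (n * F.T (σ.symm i) (σ.symm j) * n⁻¹)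
      = n * (b * F.T (σ.symm i) (σ.symm j)) * n⁻¹ := by group
    _ = n * (F.T (σ.symm i) (σ.symm j) * b) * n⁻¹ := by rw [h2]
    _ = _ := by group

theorem Hyp3.mem_M_iff {b : G} : b ∈ M (F.T 0 1) ↔ Odd (orderOf b) ∧ CE F.toFr b := by
  constructor
  · intro hb
    refine ⟨?_, fun i j => comm_M H.hE hb (T_mem_EE F i j)⟩
    have h1 : orderOf b ∣ Nat.card (M (F.T 0 1)) := by
      rw [← Subgroup.orderOf_mk b hb]
      exact orderOf_dvd_natCard _
    exact Odd.of_dvd_nat (Nat.not_even_iff_odd.1 fun h => M_odd _ (even_iff_two_dvd.1 h)) h1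
  · rintro ⟨h1, h2⟩
    exact H.odd_mem_M h1 h2

/-- **`O(C(t)) = 1`.** -/
theorem Hyp3.M_eq_bot [IsSimpleGroup G] : M (F.T 0 1) = ⊥ := by
  have h1 : normalizer (M (F.T 0 1) : Set G) = ⊤ := by
    have hsub : ∀ n : G, (∀ b ∈ M (F.T 0 1), n * b * n⁻¹ ∈ M (F.T 0 1)) →
        n ∈ normalizer (M (F.T 0 1) : Set G) := by
      intro n hn
      have h2 : (M (F.T 0 1)).map (MulAut.conj n).toMonoidHom ≤ M (F.T 0 1) := by
        rintro _ ⟨b, hb, rfl⟩
        exact hn b hb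
      have h3 : (M (F.T 0 1)).map (MulAut.conj n).toMonoidHom = M (F.T 0 1) :=
        Subgroup.eq_of_le_of_card_ge h2 (by
          rw [Nat.card_congr ((M (F.T 0 1)).equivMapOfInjective _
            (MulAut.conj n).injective).toEquiv.symm])
      rw [mem_normalizer_iff]
      intro b
      refine ⟨hn b, fun hb => ?_⟩
      rw [← h3] at hb
      obtain ⟨c, hc, hcb⟩ := hb
      have : c = b := (MulAut.conj n).injective hcb
      rwa [← this]
    apply F.close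
    · intro c hc
      apply hsub
      intro b hb
      have hcC : c ∈ centralizer ({F.T 0 1} : Set G) := mem_centralizer_singleton_iff.2 hc
      have hbC := M_le _ hb
      rw [← mk_eq_one_iff (mul_mem (mul_mem hcC hbC) (inv_mem hcC)),
        mk_mul' (mul_mem hcC hbC) (inv_mem hcC), mk_mul' hcC hbC, mk_inv' hcC,
        (mk_eq_one_iff hbC).2 hb, mul_one, mul_inv_cancel]
    · intro n hn
      apply hsub
      intro b hb
      rw [H.mem_M_iff] at hb ⊢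
      exact ⟨by rw [Cfsg.Agent.TwoFusion.StronglyEmbeddedBasic.orderOf_conj]; exact hb.1,
        CE_conj H hn hb.2⟩
  have h2 : (M (F.T 0 1)).Normal := normalizer_eq_top_iff.1 h1
  rcases h2.eq_bot_or_eq_top with h3 | h3
  · exact h3
  · exfalso
    apply not_mem_M F.T_ne (F.T_sq 0 1)
    rw [h3]
    exact mem_top _

/-- Elements of odd order commuting with `E` are trivial. -/
theorem Hyp3.odd_eq_one [IsSimpleGroup G] {b : G} (hb : Odd (orderOf b)) (hE : CE F.toFr b) :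
    b = 1 := by
  have := H.odd_mem_M hb hE
  rwa [H.M_eq_bot, mem_bot] at this

end

/-! ### `J` and `K` -/

/-- conjugation of `YY` -/
theorem YY_map (J : Subgroup G) (t n : G) :
    YY (J.map (MulAut.conj n).toMonoidHom) (n * t * n⁻¹) =
      (YY J t).map (MulAut.conj n).toMonoidHom := by
  unfold YY
  rw [MonoidHom.map_closure]
  congr 1
  ext x
  constructor
  · rintro ⟨⟨j, hj, rfl⟩, h2, h3⟩
    refine ⟨j, ⟨hj, ?_, ?_⟩, rfl⟩
    · have h4 : n * j * n⁻¹ * (n * t * n⁻¹) = n * t * n⁻¹ * (n * j * n⁻¹) := h2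
      calc j * t = n⁻¹ * (n * j * n⁻¹ * (n * t * n⁻¹)) * n := by group
        _ = n⁻¹ * (n * t * n⁻¹ * (n * j * n⁻¹)) * n := by rw [h4]
        _ = t * j := by group
    · have h4 : (n * j * n⁻¹) ^ 3 = 1 := h3
      rw [conj_pow] at h4
      calc j ^ 3 = n⁻¹ * (n * j ^ 3 * n⁻¹) * n := by group
        _ = 1 := by rw [h4]; group
  · rintro ⟨j, ⟨hj, h2, h3⟩, rfl⟩
    refine ⟨⟨j, hj, rfl⟩, ?_, ?_⟩
    · show n * j * n⁻¹ * (n * t * n⁻¹) = n * t * n⁻¹ * (n * j * n⁻¹)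
      calc n * j * n⁻¹ * (n * t * n⁻¹) = n * (j * t) * n⁻¹ := by group
        _ = n * (t * j) * n⁻¹ := by rw [h2]
        _ = _ := by group
    · show (n * j * n⁻¹) ^ 3 = 1
      rw [conj_pow, h3, mul_one, mul_inv_cancel]

theorem tr_eq_map (F : Fr G) {H : Subgroup G} (hH : F.Nml H) {g t : G}
    (hg : g * F.T 0 1 * g⁻¹ = t) : F.tr H t = H.map (MulAut.conj g).toMonoidHom := by
  ext x
  rw [F.mem_tr_iff hH hg]
  constructor
  · intro hx
    exact ⟨_, hx, by show g * (g⁻¹ * x * g) * g⁻¹ = x; group⟩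
  · rintro ⟨y, hy, rfl⟩
    show g⁻¹ * (g * y * g⁻¹) * g ∈ H
    have : g⁻¹ * (g * y * g⁻¹) * g = y := by group
    rwa [this]

section

variable {F : FrX G} [Finite G] {T : Sylow 2 (Q (F.T 0 1))} {W1 W2 Q1 : Subgroup (Q (F.T 0 1))}
  {Fq : Type*} [Field Fq] [Fintype Fq] {m : G} (H : Hyp3 F T W1 W2 Q1 Fq m) [IsSimpleGroup G]

/-- the subgroup `J` of `C(t_01)` -/
def JJ (F : FrX G) (W2 : Subgroup (Q (F.T 0 1))) : Subgroup G :=
  up (F.T 0 1) (normalClosure (W2 : Set (Q (F.T 0 1))))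

/-- the subgroup `K` of `C(t_01)` -/
def KK (F : FrX G) (J : Subgroup G) : Subgroup G :=
  closure {x | x * F.T 0 1 = F.T 0 1 * x ∧ (∀ j ∈ J, x * j = j * x) ∧ x ^ 3 = 1}

omit [Finite G] [IsSimpleGroup G] in
theorem JJ_comm {j : G} (hj : j ∈ JJ F W2) : j * F.T 0 1 = F.T 0 1 * j := by
  obtain ⟨h, -⟩ := mem_up.1 hj
  exact mem_centralizer_singleton_iff.1 h

include H

theorem Hyp3.JJ_nml : F.toFr.Nml (JJ F W2) := by
  intro c hc j hj
  obtain ⟨hjC, hjJ⟩ := mem_up.1 hj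
  have hcC : c ∈ centralizer ({F.T 0 1} : Set G) := mem_centralizer_singleton_iff.2 hc
  refine mem_up.2 ⟨mul_mem (mul_mem hcC hjC) (inv_mem hcC), ?_⟩
  rw [mk_mul' (mul_mem hcC hjC) (inv_mem hcC), mk_mul' hcC hjC, mk_inv' hcC]
  exact H.out.nml.conj_mem _ hjJ _

theorem Hyp3.jhypG : JHyp (JJ F W2) Fq := by
  obtain ⟨e⟩ := up_equiv H.M_eq_bot (normalClosure (W2 : Set (Q (F.T 0 1))))
  have e' : JJ F W2 ≃* normalClosure (W2 : Set (Q (F.T 0 1))) := e
  refine ⟨?_, ?_, H.out.facts.congr e'.symm, H.yiso.congr e'.symm⟩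
  · exact e'.symm.isSimpleGroup_congr.1 H.chyp.simple_J.1
  · intro h
    apply H.chyp.simple_J.2
    refine ⟨⟨fun a b => ?_⟩⟩
    apply e'.symm.injective
    rw [map_mul, map_mul]
    exact h.is_comm.comm _ _

theorem Hyp3.T23 : F.T 2 3 ∈ JJ F W2 := mem_up.2 ⟨H.out.t1C, H.out.t1J⟩

theorem Hyp3.T34 : F.T 3 4 ∈ JJ F W2 := mem_up.2 ⟨H.out.t2C, H.out.t2J⟩

theorem Hyp3.z0 {j : G} (hj : j ∈ JJ F W2) : j * F.z 0 = F.z 0 * j := by
  obtain ⟨hjC, hjJ⟩ := mem_up.1 hj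
  refine mk_inj H.M_eq_bot (mul_mem hjC H.out.zC) (mul_mem H.out.zC hjC) ?_
  rw [mk_mul' hjC H.out.zC, mk_mul' H.out.zC hjC]
  exact (H.out.zJ _ hjJ).symm

theorem Hyp3.decomp {c : G} (hc : c * F.T 0 1 = F.T 0 1 * c) : ∃ j ∈ JJ F W2, ∃ x, c = j * x ∧
    x * F.T 2 3 = F.T 2 3 * x ∧ x * F.T 3 4 = F.T 3 4 * x := by
  have hcC : c ∈ centralizer ({F.T 0 1} : Set G) := mem_centralizer_singleton_iff.2 hc
  obtain ⟨y, hy, d, h1, h2, h3⟩ := H.out.fratt (mkQ (F.T 0 1) c hcC)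
  obtain ⟨j, hj, rfl⟩ := exists_rep _ y
  obtain ⟨x, hx, rfl⟩ := exists_rep _ d
  refine ⟨j, mem_up.2 ⟨hj, hy⟩, x, ?_, ?_, ?_⟩
  · exact mk_inj H.M_eq_bot hcC (mul_mem hj hx) (by rw [h1, mk_mul' hj hx])
  · refine mk_inj H.M_eq_bot (mul_mem hx H.out.t1C) (mul_mem H.out.t1C hx) ?_
    rw [mk_mul' hx H.out.t1C, mk_mul' H.out.t1C hx]
    exact h2
  · refine mk_inj H.M_eq_bot (mul_mem hx H.out.t2C) (mul_mem H.out.t2C hx) ?_
    rw [mk_mul' hx H.out.t2C, mk_mul' H.out.t2C hx]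
    exact h3

/-- an element of `J_ij` commutes with `t_ij`, `z_i`, `z_j` -/
theorem Hyp3.tr_comm {i j : Fin 5} (hij : i ≠ j) {x : G} (hx : x ∈ F.toFr.tr (JJ F W2) (F.T i j)) :
    x * F.T i j = F.T i j * x ∧ x * F.z i = F.z i * x ∧ x * F.z j = F.z j * x := by
  obtain ⟨σ, s0, s1⟩ := Fr.exists_perm hij
  obtain ⟨n, hn⟩ := F.perm σ
  have hn01 : n * F.T 0 1 * n⁻¹ = F.T i j := by rw [hn, s0, s1]
  have hz : n * F.z 0 * n⁻¹ = F.z i := by rw [F.toFr.z_conj hn, s0]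
  have h1 := (F.toFr.mem_tr_iff H.JJ_nml hn01).1 hx
  have h2 := JJ_comm h1
  have h3 := H.z0 h1
  have h4 : x * F.T i j = F.T i j * x := by
    rw [← hn01]
    calc x * (n * F.T 0 1 * n⁻¹) = n * ((n⁻¹ * x * n) * F.T 0 1) * n⁻¹ := by group
      _ = n * (F.T 0 1 * (n⁻¹ * x * n)) * n⁻¹ := by rw [h2]
      _ = _ := by group
  have h5 : x * F.z i = F.z i * x := by
    rw [← hz]
    calc x * (n * F.z 0 * n⁻¹) = n * ((n⁻¹ * x * n) * F.z 0) * n⁻¹ := by group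
      _ = n * (F.z 0 * (n⁻¹ * x * n)) * n⁻¹ := by rw [h3]
      _ = _ := by group
  refine ⟨h4, h5, ?_⟩
  have h6 : F.z j = F.z i * F.T i j := (F.toFr.z_mul_T i j).symm
  rw [h6, ← mul_assoc, h5, mul_assoc, h4, mul_assoc]

/-- elements of odd order of `J_ij` commuting with `t_01` centralise `J` -/
theorem Hyp3.comm_J {i j k : Fin 5} (hij : i ≠ j) (hik : i ≠ k) (hjk : j ≠ k) (i0 : 0 ≠ i)
    (i1 : 1 ≠ i) (j0 : 0 ≠ j) (j1 : 1 ≠ j) (k0 : 0 ≠ k) (k1 : 1 ≠ k)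
    {x : G} (hx : x ∈ F.toFr.tr (JJ F W2) (F.T i j)) (hx1 : x * F.T 0 1 = F.T 0 1 * x)
    (ho : Odd (orderOf x)) : ∀ y ∈ JJ F W2, x * y = y * x := by
  obtain ⟨h1, h2, h3⟩ := H.tr_comm hij hx
  have e1 : F.T j k = F.T 0 1 * F.z i := by
    rw [← F.toFr.TT_eq_z (a := 0) (b := 1) (c := j) (d := k) (i := i) (by decide) j0 k0 i0 j1 k1 i1
      hjk hij.symm hik.symm, ← mul_assoc, F.T_sq, one_mul]
  have c1 : x * F.T j k = F.T j k * x := by
    rw [e1, ← mul_assoc, hx1, mul_assoc, h2, mul_assoc]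
  have e2 : F.T i k = F.T 0 1 * F.z j := by
    rw [← F.toFr.TT_eq_z (a := 0) (b := 1) (c := i) (d := k) (i := j) (by decide) i0 k0 j0 i1 k1 j1
      hik hij hjk.symm, ← mul_assoc, F.T_sq, one_mul]
  have c2 : x * F.T i k = F.T i k * x := by
    rw [e2, ← mul_assoc, hx1, mul_assoc, h3, mul_assoc]
  have key : ∀ a b : Fin 5, (a = i ∨ a = j ∨ a = k) → (b = i ∨ b = j ∨ b = k) →
      x * F.T a b = F.T a b * x := by
    have t : ∀ a : Fin 5, x * F.T a a = F.T a a * x := fun a => by rw [F.T_self]; group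
    rintro a b (rfl | rfl | rfl) (rfl | rfl | rfl)
    · exact t _
    · exact h1
    · exact c2
    · rw [F.T_symm]; exact h1
    · exact t _
    · exact c1
    · rw [F.T_symm]; exact c2
    · rw [F.T_symm]; exact c1
    · exact t _
  have hcov : ∀ a : Fin 5, 0 ≠ a → 1 ≠ a → (a = i ∨ a = j ∨ a = k) := by
    have : ∀ i j k : Fin 5, i ≠ j → i ≠ k → j ≠ k → 0 ≠ i → 1 ≠ i → 0 ≠ j → 1 ≠ j → 0 ≠ k →
      1 ≠ k → ∀ a : Fin 5, 0 ≠ a → 1 ≠ a → (a = i ∨ a = j ∨ a = k) := by decide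
    exact this i j k hij hik hjk i0 i1 j0 j1 k0 k1
  have x23 := key 2 3 (hcov 2 (by decide) (by decide)) (hcov 3 (by decide) (by decide))
  have x34 := key 3 4 (hcov 3 (by decide) (by decide)) (hcov 4 (by decide) (by decide))
  refine H.jhypG.odd_trivial H.card H.T23 (F.toFr.T_ne_one (by decide)) (F.T_sq 2 3) H.T34
    (F.toFr.T_ne_one (by decide)) (F.T_sq 3 4) ?_ (F.comm 2 3 3 4) ?_ ho x23 x34
  · intro h
    apply F.toFr.T_ne_one (i := 2) (j := 4) (by decide)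
    rw [← F.T_mul 2 3 4, h, F.T_sq]
  · intro y
    refine ⟨fun hy => H.JJ_nml x hx1 y hy, fun hy => ?_⟩
    have hxi : x⁻¹ * F.T 0 1 = F.T 0 1 * x⁻¹ := by
      calc x⁻¹ * F.T 0 1 = x⁻¹ * (F.T 0 1 * x) * x⁻¹ := by group
        _ = x⁻¹ * (x * F.T 0 1) * x⁻¹ := by rw [hx1]
        _ = _ := by group
    have := H.JJ_nml x⁻¹ hxi _ hy
    have e : x⁻¹ * (x * y * x⁻¹) * x⁻¹⁻¹ = y := by group
    rwa [e] at this

/-- the transported `Y` -/
theorem Hyp3.YY_tr {a b : Fin 5} (a0 : a ≠ 0) (a1 : a ≠ 1) (b0 : b ≠ 0) (b1 : b ≠ 1)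
    (hab : a ≠ b) : ∃ n : G, n * F.T 0 1 * n⁻¹ = F.T a b ∧ n * F.T 2 3 * n⁻¹ = F.T 0 1 ∧
      YY (F.toFr.tr (JJ F W2) (F.T a b)) (F.T 0 1) =
        (YY (JJ F W2) (F.T 2 3)).map (MulAut.conj n).toMonoidHom := by
  obtain ⟨σ, s0, s1, s2, s3⟩ := exists_perm4 (a := a) (b := b) (c := 0) (d := 1) hab a0 a1 b0 b1
    (by decide)
  obtain ⟨n, hn⟩ := F.perm σ
  have h1 : n * F.T 0 1 * n⁻¹ = F.T a b := by rw [hn, s0, s1]
  have h2 : n * F.T 2 3 * n⁻¹ = F.T 0 1 := by rw [hn, s2, s3]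
  refine ⟨n, h1, h2, ?_⟩
  rw [← YY_map, h2, tr_eq_map F.toFr H.JJ_nml h1]

/-- **`K = Y_01 (J_ij)`** and `m ∈ K`. -/
theorem Hyp3.KK_eq {i j k : Fin 5} (hij : i ≠ j) (hik : i ≠ k) (hjk : j ≠ k) (i0 : 0 ≠ i)
    (i1 : 1 ≠ i) (j0 : 0 ≠ j) (j1 : 1 ≠ j) (k0 : 0 ≠ k) (k1 : 1 ≠ k) :
    KK F (JJ F W2) = YY (F.toFr.tr (JJ F W2) (F.T i j)) (F.T 0 1) ∧ m ∈ KK F (JJ F W2) := by
  set Y := YY (F.toFr.tr (JJ F W2) (F.T i j)) (F.T 0 1) with hY
  have hYC : ∀ y ∈ Y, y ∈ centralizer ({F.T 0 1} : Set G) := fun y hy =>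
    mem_centralizer_singleton_iff.2 (YY_comm hy)
  have hodd : ∀ y : G, y ^ 3 = 1 → Odd (orderOf y) := fun y hy =>
    Odd.of_dvd_nat (by decide : Odd 3) (orderOf_dvd_of_pow_eq_one hy)
  have hYJ : ∀ y ∈ Y, ∀ z ∈ JJ F W2, y * z = z * y := by
    have h1 : Y ≤ centralizer (JJ F W2 : Set G) := by
      rw [hY]
      apply YY_gen
      intro y hy hy3
      rw [mem_centralizer_iff]
      intro z hz
      exact (H.comm_J hij hik hjk i0 i1 j0 j1 k0 k1 (YY_le _ _ hy) (YY_comm hy) (hodd y hy3) z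
        hz).symm
    intro y hy z hz
    exact (mem_centralizer_iff.1 (h1 hy) z hz).symm
  have hcard : Nat.card Y = 24 := by
    obtain ⟨n, -, -, h3⟩ := H.YY_tr i0.symm i1.symm j0.symm j1.symm hij
    rw [hY, h3, ← Nat.card_congr ((YY (JJ F W2) (F.T 2 3)).equivMapOfInjective _
      (MulAut.conj n).injective).toEquiv]
    exact H.jhypG.card H.card H.T23 (F.toFr.T_ne_one (by decide)) (F.T_sq 2 3)
  -- the image in `X`
  let f : Y →* Q (F.T 0 1) :=
    { toFun := fun y => mkQ (F.T 0 1) y (hYC y y.2)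
      map_one' := rfl
      map_mul' := fun _ _ => rfl }
  have hfinj : Function.Injective f := fun a b hab =>
    Subtype.ext (mk_inj H.M_eq_bot (hYC a a.2) (hYC b b.2) hab)
  obtain ⟨e⟩ := H.e8
  have h1 := eq_of_card H.chyp H.hK e (Y := f.range) ?_ ?_ ?_
  · obtain ⟨h2, h3⟩ := h1
    have hmem : ∀ x (hx : x ∈ centralizer ({F.T 0 1} : Set G)),
        mkQ (F.T 0 1) x hx ∈ f.range → x ∈ Y := by
      rintro x hx ⟨y, hy⟩
      have : (y : G) = x := mk_inj H.M_eq_bot (hYC y y.2) hx hy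
      rw [← this]
      exact y.2
    have hKY : KK F (JJ F W2) = Y := by
      apply le_antisymm
      · unfold KK
        rw [closure_le]
        rintro x ⟨hx1, hxJ, hx3⟩
        have hxC : x ∈ centralizer ({F.T 0 1} : Set G) := mem_centralizer_singleton_iff.2 hx1
        apply hmem x hxC
        apply h2
        · intro y hy
          obtain ⟨z, hz, rfl⟩ := exists_rep _ y
          have h4 := hxJ z (mem_up.2 ⟨hz, hy⟩)
          rw [← mk_mul' hxC hz, ← mk_mul' hz hxC]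
          exact mk_congr h4 _ _
        · rw [← mk_pow' hxC]
          have := mk_congr (b := F.T 0 1) hx3 (pow_mem hxC 3) (one_mem _)
          exact this
      · rw [hY]
        apply YY_gen
        intro y hy hy3
        exact subset_closure ⟨YY_comm hy, hYJ y hy, hy3⟩
    refine ⟨hKY, ?_⟩
    rw [hKY]
    obtain ⟨hm, hmQ⟩ := H.mQ
    exact hmem m hm (h3 hmQ)
  · rintro _ ⟨y, rfl⟩ z hz
    obtain ⟨z, hzC, rfl⟩ := exists_rep _ z
    have h4 := hYJ y y.2 z (mem_up.2 ⟨hzC, hz⟩)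
    show mkQ (F.T 0 1) y (hYC y y.2) * mkQ (F.T 0 1) z hzC = _
    rw [← mk_mul' (hYC y y.2) hzC]
    exact mk_congr h4 _ _
  · rw [← Nat.card_congr (MonoidHom.ofInjective hfinj).toEquiv]
    exact hcard
  · intro N hN
    have h2 : Y ≤ up (F.T 0 1) N := by
      rw [hY]
      apply YY_gen
      intro y hy hy3
      refine mem_up.2 ⟨hYC y hy, hN _ ⟨⟨y, hy⟩, rfl⟩ ?_⟩
      rw [← mk_pow' (hYC y hy)]
      exact mk_congr (b := F.T 0 1) hy3 (pow_mem (hYC y hy) 3) (one_mem _)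
    rintro _ ⟨y, rfl⟩
    exact (mem_up.1 (h2 y.2)).2

theorem Hyp3.KK_nml : F.toFr.Nml (KK F (JJ F W2)) := by
  intro c hc
  have hci : c⁻¹ * F.T 0 1 = F.T 0 1 * c⁻¹ := by
    calc c⁻¹ * F.T 0 1 = c⁻¹ * (F.T 0 1 * c) * c⁻¹ := by group
      _ = c⁻¹ * (c * F.T 0 1) * c⁻¹ := by rw [hc]
      _ = _ := by group
  have key : KK F (JJ F W2) ≤ (KK F (JJ F W2)).comap (MulAut.conj c).toMonoidHom := by
    conv_lhs => unfold KK
    rw [closure_le]
    rintro x ⟨h1, h2, h3⟩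
    refine subset_closure ⟨?_, ?_, ?_⟩
    · show c * x * c⁻¹ * F.T 0 1 = F.T 0 1 * (c * x * c⁻¹)
      calc c * x * c⁻¹ * F.T 0 1 = c * x * (c⁻¹ * F.T 0 1) := by group
        _ = c * (x * F.T 0 1) * c⁻¹ := by rw [hci]; group
        _ = (c * F.T 0 1) * x * c⁻¹ := by rw [h1]; group
        _ = _ := by rw [hc]; group
    · intro j hj
      show c * x * c⁻¹ * j = j * (c * x * c⁻¹)
      have h4 := h2 (c⁻¹ * j * c) (by
        have := H.JJ_nml c⁻¹ hci j hj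
        rwa [inv_inv] at this)
      calc c * x * c⁻¹ * j = c * (x * (c⁻¹ * j * c)) * c⁻¹ := by group
        _ = c * ((c⁻¹ * j * c) * x) * c⁻¹ := by rw [h4]
        _ = _ := by group
    · show (c * x * c⁻¹) ^ 3 = 1
      rw [conj_pow, h3, mul_one, mul_inv_cancel]
  exact fun h hh => key hh

/-- `K_ab = Y_ab (J)` for `a, b ∈ {2, 3, 4}` -/
theorem Hyp3.tr_KK {a b : Fin 5} (a0 : a ≠ 0) (a1 : a ≠ 1) (b0 : b ≠ 0) (b1 : b ≠ 1)
    (hab : a ≠ b) : F.toFr.tr (KK F (JJ F W2)) (F.T a b) = YY (JJ F W2) (F.T a b) := by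
  obtain ⟨σ, s0, s1, s2, s3⟩ := exists_perm4 (a := a) (b := b) (c := 0) (d := 1) hab a0 a1 b0 b1
    (by decide)
  obtain ⟨n, hn⟩ := F.perm σ
  have h1 : n * F.T 0 1 * n⁻¹ = F.T a b := by rw [hn, s0, s1]
  have h2 : n * F.T 2 3 * n⁻¹ = F.T 0 1 := by rw [hn, s2, s3]
  have h3 := (H.KK_eq (i := 2) (j := 3) (k := 4) (by decide) (by decide) (by decide) (by decide)
    (by decide) (by decide) (by decide) (by decide) (by decide)).1
  have h4 : (F.toFr.tr (JJ F W2) (F.T 2 3)).map (MulAut.conj n).toMonoidHom = JJ F W2 := by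
    ext x
    rw [← F.toFr.mem_tr_self H.JJ_nml (x := x), ← h2]
    constructor
    · rintro ⟨y, hy, rfl⟩
      exact F.toFr.conj_mem_tr n hy
    · intro hx
      refine ⟨n⁻¹ * x * n, ?_, by show n * (n⁻¹ * x * n) * n⁻¹ = x; group⟩
      rw [SetLike.mem_coe, ← F.toFr.conj_mem_tr_iff n]
      have : n * (n⁻¹ * x * n) * n⁻¹ = x := by group
      rwa [this]
  rw [tr_eq_map F.toFr H.KK_nml h1, h3, ← YY_map, h4, h1]

/-- **The frame with `J` and `K = SL(2,3)`.** -/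
theorem Hyp3.exists_kfr : ∃ F' : KFr G, F'.toFrX = F ∧
    Nonempty (F'.J ≃* normalClosure (W2 : Set (Q (F.T 0 1)))) ∧
    m ∈ F'.K ∧ Act F'.toFr (Equiv.swap 0 1) m ∧
    F'.toFr.tr F'.K (F'.T 2 3) = (Y 3 (⟨F'.T 2 3, F'.T23⟩ : F'.J)).map F'.J.subtype ∧
    F'.toFr.tr F'.K (F'.T 3 4) = (Y 3 (⟨F'.T 3 4, F'.T34⟩ : F'.J)).map F'.J.subtype ∧
    ∀ b : G, Odd (orderOf b) → CE F'.toFr b → b = 1 := by
  have h23 := H.tr_KK (a := 2) (b := 3) (by decide) (by decide) (by decide) (by decide) (by decide)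
  have h24 := H.tr_KK (a := 2) (b := 4) (by decide) (by decide) (by decide) (by decide) (by decide)
  have h34 := H.tr_KK (a := 3) (b := 4) (by decide) (by decide) (by decide) (by decide) (by decide)
  have hg := H.jhypG.gen H.T23 (F.toFr.T_ne_one (by decide)) (F.T_sq 2 3) H.T34
    (F.toFr.T_ne_one (by decide)) (F.T_sq 3 4) (by
      intro h
      apply F.toFr.T_ne_one (i := 2) (j := 4) (by decide)
      rw [← F.T_mul 2 3 4, h, F.T_sq]) (F.comm 2 3 3 4)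
  rw [F.T_mul, ← h23, ← h24, ← h34] at hg
  let F' : KFr G :=
    { F with
      J := JJ F W2
      J_comm := fun j hj => JJ_comm hj
      J_nml := H.JJ_nml
      T23 := H.T23
      T34 := H.T34
      decomp := fun c hc => H.decomp hc
      K := KK F (JJ F W2)
      K_comm := by
        intro k hk
        have h1 : KK F (JJ F W2) ≤ centralizer ({F.T 0 1} : Set G) := by
          unfold KK
          rw [closure_le]
          exact fun x hx => mem_centralizer_singleton_iff.2 hx.1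
        exact mem_centralizer_singleton_iff.1 (h1 hk)
      K_nml := H.KK_nml
      K_J := by
        intro k hk j hj
        have h1 : KK F (JJ F W2) ≤ centralizer ({j} : Set G) := by
          unfold KK
          rw [closure_le]
          exact fun x hx => mem_centralizer_singleton_iff.2 (hx.2.1 j hj)
        exact mem_centralizer_singleton_iff.1 (h1 hk)
      K_le := by rw [h23]; exact YY_le _ _
      J_gen := hg.trans (sup_le (sup_le (le_sup_left.trans le_sup_left) le_sup_right)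
        (le_sup_right.trans le_sup_left)) }
  refine ⟨F', rfl, up_equiv H.M_eq_bot _, ?_, H.act, ?_, ?_, fun b hb hE => H.odd_eq_one hb hE⟩
  · exact (H.KK_eq (i := 2) (j := 3) (k := 4) (by decide) (by decide) (by decide) (by decide)
      (by decide) (by decide) (by decide) (by decide) (by decide)).2
  · exact h23.trans (YY_eq _ H.T23)
  · exact h34.trans (YY_eq _ H.T34)

end

end Cfsg.Agent.SylowLFive.Three
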