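import Mathlib

/-!
# Automorphisms of a group of order 24 generated by elements of order 3

`eq_one`: an automorphism of odd order commuting with an automorphism of order 2 is trivial
(the automorphism group acts faithfully on the at most 4 Sylow 3-subgroups).
`comm_of_odd`: the same for elements of a group normalising such a subgroup.
-/

set_option autoImplicit false

namespace Cfsg.Agent.SylowLFive.TwentyFour

open Subgroup

section

variable {Y : Type*} [Group Y]

theorem mem_zpowers_three {x y : Y} (hx : x ^ 3 = 1) (h : y ∈ zpowers x) :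
    y = 1 ∨ y = x ∨ y = x⁻¹ := by
  obtain ⟨k, rfl⟩ := mem_zpowers_iff.1 h
  have h3 : x ^ (3 : ℤ) = 1 := by exact_mod_cast hx
  have e : x ^ k = x ^ (k % 3) := by
    conv_lhs => rw [← Int.mul_ediv_add_emod k 3, zpow_add, zpow_mul, h3, one_zpow, one_mul]
  rw [e]
  have h1 := Int.emod_nonneg k (show (3 : ℤ) ≠ 0 by decide)
  have h2 := Int.emod_lt_of_pos k (show (0 : ℤ) < 3 by decide)
  have h4 : k % 3 = 0 ∨ k % 3 = 1 ∨ k % 3 = 2 := by omega
  rcases h4 with h4 | h4 | h4
  · left; rw [h4, zpow_zero]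
  · right; left; rw [h4, zpow_one]
  · right; right
    rw [h4, eq_inv_iff_mul_eq_one]
    calc x ^ (2 : ℤ) * x = x ^ (3 : ℤ) := by
          rw [show (3 : ℤ) = 2 + 1 by norm_num, zpow_add, zpow_one]
      _ = 1 := h3

variable [Finite Y] (hcard : Nat.card Y = 24)

include hcard

theorem card_three {H : Subgroup Y} (hH : IsPGroup 3 H) : Nat.card H ≤ 3 := by
  obtain ⟨k, hk⟩ := IsPGroup.iff_card.1 hH
  have h1 : Nat.card H ∣ 24 := by rw [← hcard]; exact H.card_subgroup_dvd_card
  rw [hk] at h1 ⊢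
  by_contra h
  have h2 : 2 ≤ k := by
    by_contra h3
    have h4 : k = 0 ∨ k = 1 := by omega
    rcases h4 with rfl | rfl <;> norm_num at h
  have h3 : 3 ^ 2 ∣ 24 := (pow_dvd_pow 3 h2).trans h1
  norm_num at h3

theorem zpowers_eq {x : Y} (hx : x ^ 3 = 1) (hx1 : x ≠ 1) :
    ∃ P : Sylow 3 Y, (P : Subgroup Y) = zpowers x := by
  have : Fact (Nat.Prime 3) := ⟨Nat.prime_three⟩
  have ho : orderOf x = 3 := orderOf_eq_prime hx hx1
  have hp : IsPGroup 3 (zpowers x) := by
    apply IsPGroup.of_card (n := 1)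
    rw [Nat.card_zpowers, ho, pow_one]
  obtain ⟨P, hP⟩ := hp.exists_le_sylow
  refine ⟨P, ?_⟩
  symm
  apply Subgroup.eq_of_le_of_card_ge hP
  rw [Nat.card_zpowers, ho]
  exact card_three hcard P.isPGroup'

/-- the automorphism group acts faithfully on the Sylow 3-subgroups -/
theorem faithful (hgen : closure {y : Y | y ^ 3 = 1} = ⊤) (φ : MulAut Y)
    (h : ∀ P : Sylow 3 Y, φ • P = P) : φ = 1 := by
  have : Fact (Nat.Prime 3) := ⟨Nat.prime_three⟩
  have step : ∀ x : Y, x ^ 3 = 1 → φ x ∈ zpowers x := by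
    intro x hx
    by_cases hx1 : x = 1
    · rw [hx1, map_one]; exact one_mem _
    · obtain ⟨P, hP⟩ := zpowers_eq hcard hx hx1
      have h1 : φ x ∈ ((φ • P : Sylow 3 Y) : Subgroup Y) := by
        rw [Sylow.pointwise_smul_def]
        refine Subgroup.smul_mem_pointwise_smul x φ (P : Subgroup Y) ?_
        rw [hP]; exact mem_zpowers x
      rw [h P, hP] at h1
      exact h1
  have key : ∀ x : Y, x ^ 3 = 1 → φ x = x := by
    intro x hx
    by_cases hx1 : x = 1
    · rw [hx1, map_one]
    rcases mem_zpowers_three hx (step x hx) with h1 | h1 | h1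
    · exact absurd ((MulEquiv.map_eq_one_iff φ).1 h1) hx1
    · exact h1
    · exfalso
      -- another element of order 3
      obtain ⟨z, hz, hzx⟩ : ∃ z : Y, z ^ 3 = 1 ∧ z ∉ zpowers x := by
        by_contra hcon
        push Not at hcon
        have h2 : closure {y : Y | y ^ 3 = 1} ≤ zpowers x := by
          rw [closure_le]; exact fun y hy => hcon y hy
        rw [hgen, top_le_iff] at h2
        have h3 : Nat.card (zpowers x) = 3 := by
          rw [Nat.card_zpowers, orderOf_eq_prime hx hx1]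
        rw [h2, card_top, hcard] at h3
        norm_num at h3
      have hz1 : z ≠ 1 := fun h => hzx (h ▸ one_mem _)
      obtain ⟨ε, hε, hεz⟩ : ∃ w, (w = z ∨ w = z⁻¹) ∧ φ z = w := by
        rcases mem_zpowers_three hz (step z hz) with h2 | h2 | h2
        · exact absurd ((MulEquiv.map_eq_one_iff φ).1 h2) hz1
        · exact ⟨z, Or.inl rfl, h2⟩
        · exact ⟨z⁻¹, Or.inr rfl, h2⟩
      have hz' : (x * z * x⁻¹) ^ 3 = 1 := by rw [conj_pow, hz, mul_one, mul_inv_cancel]
      have e1 : φ (x * z * x⁻¹) = x⁻¹ * ε * x := by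
        rw [map_mul, map_mul, map_inv, h1, hεz, inv_inv]
      have h2 := step _ hz'
      rw [e1] at h2
      -- `x z x⁻¹ ∈ ⟨z⟩`
      have hx2 : x⁻¹ * x⁻¹ = x := by
        rw [← mul_inv_rev, inv_eq_iff_mul_eq_one, ← pow_two, ← pow_succ, hx]
      have h3 : x * ε * x⁻¹ ∈ zpowers z := by
        have h4 : x⁻¹ * (x⁻¹ * ε * x) * x ∈ zpowers z := by
          rcases mem_zpowers_three hz' h2 with h5 | h5 | h5
          · rw [h5]
            have : x⁻¹ * 1 * x = 1 := by group
            rw [this]; exact one_mem _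
          · rw [h5]
            have : x⁻¹ * (x * z * x⁻¹) * x = z := by group
            rw [this]; exact mem_zpowers z
          · rw [h5]
            have : x⁻¹ * (x * z * x⁻¹)⁻¹ * x = z⁻¹ := by group
            rw [this]; exact inv_mem (mem_zpowers z)
        have e2 : x⁻¹ * (x⁻¹ * ε * x) * x = x * ε * x⁻¹ := by
          calc x⁻¹ * (x⁻¹ * ε * x) * x = (x⁻¹ * x⁻¹) * ε * (x⁻¹ * x⁻¹)⁻¹ := by
                rw [mul_inv_rev, inv_inv]; simp only [mul_assoc]
            _ = x * ε * x⁻¹ := by rw [hx2]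
        rwa [e2] at h4
      have h4 : x * z * x⁻¹ ∈ zpowers z := by
        rcases hε with rfl | rfl
        · exact h3
        · have := inv_mem h3
          have e : (x * z⁻¹ * x⁻¹)⁻¹ = x * z * x⁻¹ := by group
          rwa [e] at this
      obtain ⟨P, hP⟩ := zpowers_eq hcard hz hz1
      have h5 : x ∈ normalizer ((P : Subgroup Y) : Set Y) := by
        rw [hP]
        have h6 : (zpowers z).map (MulAut.conj x).toMonoidHom = zpowers z := by
          apply Subgroup.eq_of_le_of_card_ge
          · rw [MonoidHom.map_zpowers, zpowers_le]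
            exact h4
          · rw [Subgroup.card_map_of_injective (MulAut.conj x).injective]
        rw [mem_normalizer_iff]
        intro y
        constructor
        · intro hy
          rw [← h6]
          exact ⟨y, hy, rfl⟩
        · intro hy
          rw [← h6] at hy
          obtain ⟨w, hw, hwy⟩ := hy
          have h7 : x * w * x⁻¹ = x * y * x⁻¹ := hwy
          have : w = y := mul_left_cancel (mul_right_cancel h7)
          rwa [← this]
      have h6 : IsPGroup 3 (zpowers x) := by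
        apply IsPGroup.of_card (n := 1)
        rw [Nat.card_zpowers, orderOf_eq_prime hx hx1, pow_one]
      have h7 : x ∈ zpowers x ⊓ (P : Subgroup Y) := by
        rw [← h6.inf_normalizer_sylow P]; exact ⟨mem_zpowers x, h5⟩
      rw [hP] at h7
      have h8 : zpowers x = zpowers z := by
        apply Subgroup.eq_of_le_of_card_ge
        · rw [zpowers_le]; exact h7.2
        · rw [Nat.card_zpowers, Nat.card_zpowers, orderOf_eq_prime hx hx1, orderOf_eq_prime hz hz1]
      apply hzx
      rw [h8]; exact mem_zpowers z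
  have h1 : closure {y : Y | y ^ 3 = 1} ≤ MonoidHom.eqLocus φ.toMonoidHom (MonoidHom.id Y) := by
    rw [closure_le]
    exact fun y hy => key y hy
  ext y
  have h2 : y ∈ closure {y : Y | y ^ 3 = 1} := by rw [hgen]; trivial
  exact h1 h2

theorem card_sylow : Nat.card (Sylow 3 Y) = 1 ∨ Nat.card (Sylow 3 Y) = 4 := by
  have : Fact (Nat.Prime 3) := ⟨Nat.prime_three⟩
  obtain ⟨P⟩ : Nonempty (Sylow 3 Y) := inferInstance
  have h1 := P.card_dvd_index
  have h2 := card_sylow_modEq_one 3 Y
  have h3 : Nat.card (P : Subgroup Y) = 3 := by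
    obtain ⟨x, hx⟩ := exists_prime_orderOf_dvd_card' (G := Y) 3 (by rw [hcard]; norm_num)
    have hx1 : x ≠ 1 := by
      rintro rfl; rw [orderOf_one] at hx; norm_num at hx
    obtain ⟨R, hR⟩ := zpowers_eq hcard (by rw [← hx, pow_orderOf_eq_one]) hx1
    rw [Nat.card_congr (P.equiv R).toEquiv, hR, Nat.card_zpowers, hx]
  have h4 : (P : Subgroup Y).index = 8 := by
    have := (P : Subgroup Y).card_mul_index
    rw [h3, hcard] at this
    omega
  rw [h4] at h1
  have h5 : Nat.card (Sylow 3 Y) ≤ 8 := Nat.le_of_dvd (by norm_num) h1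
  unfold Nat.ModEq at h2
  generalize Nat.card (Sylow 3 Y) = n at *
  interval_cases n <;> simp_all

omit [Group Y] [Finite Y] hcard in
set_option maxRecDepth 100000 in
theorem dec4 : ∀ a b : Equiv.Perm (Fin 4), b ≠ 1 → b * b = 1 → a * b = b * a → a ^ 4 = 1 := by
  decide

theorem eq_one (hgen : closure {y : Y | y ^ 3 = 1} = ⊤) {α β : MulAut Y} {n : ℕ} (hn : Odd n)
    (hα : α ^ n = 1) (hβ : β ≠ 1) (hβ2 : β * β = 1) (hc : α * β = β * α) : α = 1 := by
  have : Fact (Nat.Prime 3) := ⟨Nat.prime_three⟩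
  let Ψ := MulAction.toPermHom (MulAut Y) (Sylow 3 Y)
  have hΨ : ∀ φ, Ψ φ = 1 → φ = 1 := by
    intro φ h
    refine faithful hcard hgen φ fun P => ?_
    exact DFunLike.congr_fun h P
  rcases card_sylow hcard with h1 | h4
  · have := (Nat.card_eq_one_iff_unique.1 h1).1
    exact hΨ _ (Subsingleton.elim _ _)
  · let e : Sylow 3 Y ≃ Fin 4 := Finite.equivFinOfCardEq h4
    let Θ : MulAut Y →* Equiv.Perm (Fin 4) := e.permCongrHom.toMonoidHom.comp Ψ
    have hΘ : ∀ φ, Θ φ = 1 → φ = 1 := by
      intro φ h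
      exact hΨ _ ((MulEquiv.map_eq_one_iff e.permCongrHom).1 h)
    have h5 : Θ α ^ 4 = 1 := by
      refine dec4 (Θ α) (Θ β) (fun h => hβ (hΘ _ h)) ?_ ?_
      · rw [← map_mul, hβ2, map_one]
      · rw [← map_mul, ← map_mul, hc]
    rw [← map_pow] at h5
    have h6 := hΘ _ h5
    have h7 : orderOf α ∣ 4 := orderOf_dvd_of_pow_eq_one h6
    have h8 : orderOf α ∣ n := orderOf_dvd_of_pow_eq_one hα
    have h9 : Nat.Coprime 4 n := by
      have : Nat.Coprime (2 ^ 2) n := Nat.Coprime.pow_left 2 (Nat.coprime_two_left.2 hn)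
      exact this
    exact orderOf_eq_one_iff.1 (Nat.dvd_one.1 (h9 ▸ Nat.dvd_gcd h7 h8))

end

section group

variable {G : Type*} [Group G] {Y : Subgroup G}

theorem act_eq_one_iff (x : normalizer (Y : Set G)) :
    Y.normalizerMonoidHom x = 1 ↔ ∀ k ∈ Y, (x : G) * k = k * x := by
  have e : ∀ k : Y, ((Y.normalizerMonoidHom x k : Y) : G) = x * k * (x : G)⁻¹ := fun k => rfl
  constructor
  · intro h k hk
    have h1 := e ⟨k, hk⟩
    rw [h] at h1
    exact (mul_inv_eq_iff_eq_mul.1 h1.symm)
  · intro h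
    ext k
    rw [e, h k k.2, mul_inv_cancel_right]
    rfl

/-- an element of odd order commuting with an involution which acts non-trivially acts trivially -/
theorem comm_of_odd [Finite Y] (hcard : Nat.card Y = 24) (hgen : Y ≤ closure {y | y ∈ Y ∧ y ^ 3 = 1})
    {x t : G} (hx : x ∈ normalizer (Y : Set G)) (ht : t ∈ normalizer (Y : Set G)) {n : ℕ}
    (hn : Odd n) (hxn : x ^ n = 1) (htt : t * t = 1) (hxt : x * t = t * x)
    (hne : ¬ ∀ k ∈ Y, t * k = k * t) : ∀ k ∈ Y, x * k = k * x := by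
  refine (act_eq_one_iff ⟨x, hx⟩).1 ?_
  refine eq_one hcard ?_ (β := Y.normalizerMonoidHom ⟨t, ht⟩) hn ?_ ?_ ?_ ?_
  · rw [eq_top_iff]
    have h1 : closure {y | y ∈ Y ∧ y ^ 3 = 1} ≤ (closure {y : Y | y ^ 3 = 1}).map Y.subtype := by
      rw [closure_le]
      rintro y ⟨hy, hy3⟩
      exact ⟨⟨y, hy⟩, subset_closure (Subtype.ext hy3), rfl⟩
    intro y _
    obtain ⟨z, hz, hzy⟩ := h1 (hgen y.2)
    have : z = y := Subtype.ext hzy
    rwa [← this]
  · rw [← map_pow]
    have : (⟨x, hx⟩ : normalizer (Y : Set G)) ^ n = 1 := Subtype.ext hxn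
    rw [this, map_one]
  · intro h
    exact hne ((act_eq_one_iff ⟨t, ht⟩).1 h)
  · rw [← map_mul]
    have : (⟨t, ht⟩ * ⟨t, ht⟩ : normalizer (Y : Set G)) = 1 := Subtype.ext htt
    rw [this, map_one]
  · rw [← map_mul, ← map_mul]
    congr 1
    exact Subtype.ext hxt

end group

end Cfsg.Agent.SylowLFive.TwentyFour
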