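import Mathlib
import Cfsg.Agent.SylowLFive.TwentyFour
import Cfsg.Agent.TypeLFive.YCard
import Cfsg.Agent.TypeLFive.CentAbs
import Cfsg.Agent.ClassicalGeometry.PSL2Basic

/-!
# `q = 3`: facts on `X = C(t) / O(C(t))`

* `autV`: an element of odd order of `X` centralising a four-group of the normal subgroup `J`
  (`L₃(3)`, `U₃(3)`) centralises `J`;
* `cyc`: `C_X(J) ∩ C_X(Q₁)` is a cyclic 2-group.
-/

set_option autoImplicit false

namespace Cfsg.Agent.SylowLFive.ThreeX

open Subgroup Cfsg.Agent.TypeLFive.LThreeDef Cfsg.Agent.TypeLFive.YCard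

section autV

variable {X : Type*} [Group X] {J : Subgroup X}

/-- the group generated by the elements of order 3 of `C_J(w)` -/
def YY (J : Subgroup X) (w : X) : Subgroup X := closure {y | y ∈ J ∧ y * w = w * y ∧ y ^ 3 = 1}

theorem YY_le (w : X) : YY J w ≤ J := by
  rw [YY, closure_le]; exact fun y hy => hy.1

theorem YY_comm {w y : X} (hy : y ∈ YY J w) : y * w = w * y := by
  refine Subgroup.closure_induction (p := fun x _ => x * w = w * x) (fun x hx => hx.2.1) ?_ ?_ ?_ hy
  · rw [one_mul, mul_one]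
  · intro a b _ _ ha hb
    rw [mul_assoc, hb, ← mul_assoc, ha, mul_assoc]
  · intro a _ ha
    rw [inv_mul_eq_iff_eq_mul, ← mul_assoc, ha, mul_inv_cancel_right]

theorem YY_eq {w : X} (hw : w ∈ J) : (Y 3 (⟨w, hw⟩ : J)).map J.subtype = YY J w := by
  unfold Y YY
  rw [MonoidHom.map_closure]
  congr 1
  ext x
  constructor
  · rintro ⟨y, ⟨h1, h2⟩, rfl⟩
    exact ⟨y.2, congrArg Subtype.val h1, congrArg Subtype.val h2⟩
  · rintro ⟨h0, h1, h2⟩
    exact ⟨⟨x, h0⟩, ⟨Subtype.ext h1, Subtype.ext h2⟩, rfl⟩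

theorem YY_gen (w : X) : YY J w ≤ closure {y | y ∈ YY J w ∧ y ^ 3 = 1} := by
  conv_lhs => rw [YY]
  rw [closure_le]
  exact fun y hy => subset_closure ⟨subset_closure hy, hy.2.2⟩

theorem YY_norm [J.Normal] {x w : X} (h : x * w = w * x) :
    x ∈ normalizer (YY J w : Set X) := by
  have key : ∀ {x : X}, x * w = w * x → ∀ y ∈ YY J w, x * y * x⁻¹ ∈ YY J w := by
    intro x h
    have : YY J w ≤ (YY J w).comap (MulAut.conj x).toMonoidHom := by
      conv_lhs => rw [YY]
      rw [closure_le]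
      rintro y ⟨h1, h2, h3⟩
      refine subset_closure ⟨Normal.conj_mem inferInstance y h1 x, ?_, ?_⟩
      · show x * y * x⁻¹ * w = w * (x * y * x⁻¹)
        have hi : x⁻¹ * w = w * x⁻¹ := by
          rw [inv_mul_eq_iff_eq_mul, ← mul_assoc, h, mul_inv_cancel_right]
        calc x * y * x⁻¹ * w = x * (y * (x⁻¹ * w)) := by group
          _ = x * (y * w) * x⁻¹ := by rw [hi]; group
          _ = (x * w) * y * x⁻¹ := by rw [h2]; group
          _ = _ := by rw [h]; group
      · show (x * y * x⁻¹) ^ 3 = 1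
        rw [conj_pow, h3, mul_one, mul_inv_cancel]
    exact fun y hy => this hy
  have hi : x⁻¹ * w = w * x⁻¹ := by
    rw [inv_mul_eq_iff_eq_mul, ← mul_assoc, h, mul_inv_cancel_right]
  rw [mem_normalizer_iff]
  intro y
  refine ⟨key h y, fun hy => ?_⟩
  have := key hi _ hy
  have e : x⁻¹ * (x * y * x⁻¹) * x⁻¹⁻¹ = y := by group
  rwa [e] at this

variable [Finite X] {F₀ : Type*} [Field F₀] [Fintype F₀] (h3 : Fintype.card F₀ = 3)
  (hfacts : Facts J 3)
  (hiso : YIso J 3 F₀) (hs : IsSimpleGroup J) (hna : ¬ IsMulCommutative J)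

include h3 hiso in
theorem card_YY {w : X} (hw : w ∈ J) (h1 : w ≠ 1) (h2 : w * w = 1) :
    Nat.card (YY J w) = 24 := by
  obtain ⟨e⟩ := hiso ⟨w, hw⟩ (fun h => h1 (congrArg Subtype.val h)) (Subtype.ext h2)
  rw [← YY_eq hw, Subgroup.card_map_of_injective J.subtype_injective, Nat.card_congr e.toEquiv,
    ClassicalGeometry.PSL2Basic.card_SL2, h3]
  norm_num

include hfacts in
theorem sup_YY {t u : X} (ht : t ∈ J) (hu : u ∈ J) (t1 : t ≠ 1) (u1 : u ≠ 1) (htu : t ≠ u)
    (tt : t * t = 1) (uu : u * u = 1) (hc : t * u = u * t) :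
    YY J t ⊔ YY J u ⊔ YY J (t * u) = J := by
  have h := hfacts.gen ⟨t, ht⟩ ⟨u, hu⟩ (fun h => t1 (congrArg Subtype.val h)) (Subtype.ext tt)
    (fun h => u1 (congrArg Subtype.val h)) (Subtype.ext uu) (fun h => htu (congrArg Subtype.val h))
    (Subtype.ext hc)
  have h' := congrArg (Subgroup.map J.subtype) h
  rw [Subgroup.map_sup, Subgroup.map_sup, YY_eq, YY_eq, ← MonoidHom.range_eq_map,
    range_subtype] at h'
  rw [← YY_eq (mul_mem ht hu)]
  exact h'

include h3 hfacts hiso hs hna in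
/-- `u` does not centralise `Y_t`. -/
theorem not_comm {t u : X} (ht : t ∈ J) (hu : u ∈ J) (t1 : t ≠ 1) (u1 : u ≠ 1) (htu : t ≠ u)
    (tt : t * t = 1) (uu : u * u = 1) (hc : t * u = u * t) : ¬ ∀ k ∈ YY J t, u * k = k * u := by
  intro h
  have tu1 : t * u ≠ 1 := fun h => htu (by
    calc t = t * (u * u) := by rw [uu, mul_one]
      _ = (t * u) * u := by group
      _ = u := by rw [h, one_mul])
  have tu2 : (t * u) * (t * u) = 1 := by
    calc t * u * (t * u) = t * (u * t) * u := by group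
      _ = (t * t) * (u * u) := by rw [← hc]; group
      _ = 1 := by rw [tt, uu, mul_one]
  have e1 : YY J t = YY J u := by
    apply Subgroup.eq_of_le_of_card_ge
    · conv_lhs => rw [YY]
      rw [closure_le]
      intro y hy
      exact subset_closure ⟨hy.1, (h y (subset_closure hy)).symm, hy.2.2⟩
    · rw [card_YY h3 hiso ht t1 tt, card_YY h3 hiso hu u1 uu]
  have e2 : YY J t = YY J (t * u) := by
    apply Subgroup.eq_of_le_of_card_ge
    · conv_lhs => rw [YY]
      rw [closure_le]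
      intro y hy
      refine subset_closure ⟨hy.1, ?_, hy.2.2⟩
      calc y * (t * u) = (y * t) * u := by group
        _ = t * (y * u) := by rw [hy.2.1]; group
        _ = t * u * y := by rw [← h y (subset_closure hy)]; group
    · rw [card_YY h3 hiso ht t1 tt, card_YY h3 hiso (mul_mem ht hu) tu1 tu2]
  have e3 := sup_YY hfacts ht hu t1 u1 htu tt uu hc
  rw [← e1, ← e2, sup_idem, sup_idem] at e3
  -- `t` is central in `J`
  have h4 : (⟨t, ht⟩ : J) ∈ center J := by
    rw [mem_center_iff]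
    rintro ⟨j, hj⟩
    rw [← e3] at hj
    exact Subtype.ext (YY_comm hj)
  rcases (inferInstance : (center J).Normal).eq_bot_or_eq_top with h5 | h5
  · rw [h5, mem_bot] at h4
    exact t1 (congrArg Subtype.val h4)
  · apply hna
    constructor
    constructor
    intro a b
    have : a ∈ center J := by rw [h5]; trivial
    exact ((mem_center_iff.1 this) b).symm

include h3 hfacts hiso hs hna in
/-- An element of odd order centralising a four-group of `J` centralises `J`. -/
theorem autV [hJ : J.Normal] {t u x : X} (ht : t ∈ J) (hu : u ∈ J) (t1 : t ≠ 1) (u1 : u ≠ 1)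
    (htu : t ≠ u) (tt : t * t = 1) (uu : u * u = 1) (hc : t * u = u * t) {n : ℕ} (hn : Odd n)
    (hxn : x ^ n = 1) (hxt : x * t = t * x) (hxu : x * u = u * x) :
    ∀ j ∈ J, x * j = j * x := by
  have step : ∀ {t u : X}, t ∈ J → u ∈ J → t ≠ 1 → u ≠ 1 → t ≠ u → t * t = 1 → u * u = 1 →
      t * u = u * t → x * t = t * x → x * u = u * x → ∀ k ∈ YY J t, x * k = k * x := by
    intro t u ht hu t1 u1 htu tt uu hc hxt hxu
    have hfin : Finite (YY J t) := inferInstance
    exact TwentyFour.comm_of_odd (card_YY h3 hiso ht t1 tt) (YY_gen t) (YY_norm hxt)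
      (YY_norm hc.symm) hn hxn uu hxu (not_comm h3 hfacts hiso hs hna ht hu t1 u1 htu tt uu hc)
  have tu1 : t * u ≠ 1 := fun h => htu (by
    calc t = t * (u * u) := by rw [uu, mul_one]
      _ = (t * u) * u := by group
      _ = u := by rw [h, one_mul])
  have tu2 : (t * u) * (t * u) = 1 := by
    calc t * u * (t * u) = t * (u * t) * u := by group
      _ = (t * t) * (u * u) := by rw [← hc]; group
      _ = 1 := by rw [tt, uu, mul_one]
  have s1 := step ht hu t1 u1 htu tt uu hc hxt hxu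
  have s2 := step hu ht u1 t1 htu.symm uu tt hc.symm hxu hxt
  have s3 := step (mul_mem ht hu) ht tu1 t1 (fun h => u1 (by
      have : t * u = t * 1 := by rw [h, mul_one]
      exact mul_left_cancel this)) tu2 tt
    (by rw [mul_assoc, ← hc, ← mul_assoc]) (by rw [← mul_assoc, hxt, mul_assoc, hxu, mul_assoc])
    hxt
  have key : J ≤ centralizer ({x} : Set X) := by
    rw [← sup_YY hfacts ht hu t1 u1 htu tt uu hc]
    refine sup_le (sup_le ?_ ?_) ?_
    · exact fun k hk => mem_centralizer_singleton_iff.2 (s1 k hk).symm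
    · exact fun k hk => mem_centralizer_singleton_iff.2 (s2 k hk).symm
    · exact fun k hk => mem_centralizer_singleton_iff.2 (s3 k hk).symm
  exact fun j hj => (mem_centralizer_singleton_iff.1 (key hj)).symm

end autV

section cyc

open Cfsg.Agent.TypeLFive.CentAbs

variable {X : Type*} [Group X] [Finite X] {T : Sylow 2 X} {W1 W2 Q1 : Subgroup X}

/-- `C_X(J) ∩ C_X(Q₁)` is a cyclic 2-group. -/
theorem cyc (h : CHyp T W1 W2 Q1) (hQ : Q1.Normal) :
    ∃ c : X, ∀ x : X, (∀ j ∈ normalClosure (W2 : Set X), x * j = j * x) →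
      (∀ k ∈ Q1, x * k = k * x) → x ∈ zpowers c ∧ ∃ n : ℕ, x ^ 2 ^ n = 1 := by
  have : Fact (Nat.Prime 2) := ⟨Nat.prime_two⟩
  set J := normalClosure (W2 : Set X) with hJ
  have hJn : J.Normal := normalClosure_normal
  set Y0 : Subgroup X := centralizer (J : Set X) ⊓ centralizer (Q1 : Set X) with hY0
  have hY0n : Y0.Normal := inferInstance
  obtain ⟨P, hP⟩ := Cfsg.Agent.S0542.result 2 Y0 hY0n.isSubnormal T
  obtain ⟨hs, hna⟩ := h.simple_J
  -- `J ∩ Y0 = 1`
  have hJY : ∀ x ∈ Y0, x ∈ J → x = 1 := by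
    intro x hx hxJ
    have h1 : (⟨x, hxJ⟩ : ↥J) ∈ center ↥J := by
      rw [mem_center_iff]
      intro y
      exact Subtype.ext (mem_centralizer_iff.1 hx.1 y y.2)
    rcases (inferInstance : (center ↥J).Normal).eq_bot_or_eq_top with h5 | h5
    · rw [h5, mem_bot] at h1
      exact congrArg Subtype.val h1
    · exfalso
      apply hna
      constructor
      constructor
      intro a b
      have : a ∈ center ↥J := by rw [h5]; trivial
      exact ((mem_center_iff.1 this) b).symm
  obtain ⟨c, hc⟩ := h.centQ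
  -- the map to `⟨c⟩ J / J`
  have hmem : ∀ x : (P : Subgroup ↥Y0), QuotientGroup.mk' J (x : ↥Y0) ∈
      zpowers (QuotientGroup.mk' J c) := by
    rintro ⟨⟨x, hx⟩, hxP⟩
    rw [hP, mem_subgroupOf] at hxP
    obtain ⟨a, ha, b, hb, hab⟩ := h.fac x hxP
    have h1 : a ∈ zpowers c := by
      refine hc a ha ?_
      intro q hq
      have hb' : q * b = b * q := h.comm q (h.leW hq) b hb
      have hx' : q * x = x * q := mem_centralizer_iff.1 hx.2 q hq
      have h2 : a * q * b = q * a * b := by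
        calc a * q * b = a * (q * b) := by group
          _ = a * b * q := by rw [hb']; group
          _ = x * q := by rw [hab]
          _ = q * x := hx'.symm
          _ = q * a * b := by rw [hab]; group
      exact mul_right_cancel h2
    obtain ⟨k, hk⟩ := mem_zpowers_iff.1 h1
    have h2 : QuotientGroup.mk' J x = (QuotientGroup.mk' J c) ^ k := by
      have hb1 : QuotientGroup.mk' J b = 1 := (QuotientGroup.eq_one_iff b).2 (h.le_J hb)
      show QuotientGroup.mk' J x = _
      rw [hab, map_mul, hb1, mul_one, ← hk, map_zpow]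
    show QuotientGroup.mk' J x ∈ _
    rw [h2]
    exact ⟨k, rfl⟩
  let f : (P : Subgroup ↥Y0) →* zpowers (QuotientGroup.mk' J c) :=
    (((QuotientGroup.mk' J).comp Y0.subtype).comp (P : Subgroup ↥Y0).subtype).codRestrict _ hmem
  have hf : Function.Injective f := by
    rw [injective_iff_map_eq_one]
    intro x hx
    have h1 : QuotientGroup.mk' J ((x : ↥Y0) : X) = 1 := congrArg Subtype.val hx
    have h2 : ((x : ↥Y0) : X) ∈ J := (QuotientGroup.eq_one_iff _).1 h1
    exact Subtype.ext (Subtype.ext (hJY _ (x : ↥Y0).2 h2))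
  have hcyc : IsCyclic (P : Subgroup ↥Y0) := isCyclic_of_injective f hf
  -- the core of `Y0`
  have hcore : Cfsg.pPrimeCore 2 ↥Y0 = ⊥ := by
    have h1 := Lib.Cores.map_subtype_pPrimeCore (G := X) 2 (N := Y0) hY0n
    have h2 : Cfsg.pPrimeCore 2 X = ⊥ := h.core
    rw [h2, inf_bot_eq, Subgroup.map_eq_bot_iff, ker_subtype, le_bot_iff] at h1
    exact h1
  have hPtop : (P : Subgroup ↥Y0) = ⊤ := by
    by_cases hd : 2 ∣ Nat.card ↥Y0
    · have hmin : (Nat.card ↥Y0).minFac = 2 := Nat.minFac_eq_two_iff _ |>.2 hd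
      have hcomp := IsCyclic.isComplement' hmin (P := P) hcyc
      set N := (MonoidHom.transferSylow P (hcyc.normalizer_le_centralizer hmin)).ker with hN
      have hNo : (Nat.card N).Coprime 2 := by
        rw [Nat.coprime_comm, Nat.Prime.coprime_iff_not_dvd Nat.prime_two]
        exact MonoidHom.not_dvd_card_ker_transferSylow P _
      have hN1 : N ≤ Cfsg.pPrimeCore 2 ↥Y0 := Lib.Cores.le_pPrimeCore inferInstance hNo
      rw [hcore, le_bot_iff] at hN1
      rw [hN1, isComplement'_bot_left] at hcomp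
      exact hcomp
    · have h1 : (⊤ : Subgroup ↥Y0) ≤ Cfsg.pPrimeCore 2 ↥Y0 := by
        refine Lib.Cores.le_pPrimeCore inferInstance ?_
        rw [card_top, Nat.coprime_comm, Nat.Prime.coprime_iff_not_dvd Nat.prime_two]
        exact hd
      rw [hcore, le_bot_iff] at h1
      rw [h1, eq_bot_iff, ← h1]
      exact le_top
  obtain ⟨g, hg⟩ := hcyc.exists_generator
  refine ⟨((g : ↥Y0) : X), ?_⟩
  intro x hx1 hx2
  have hxY : x ∈ Y0 := ⟨mem_centralizer_iff.2 fun j hj => (hx1 j hj).symm,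
    mem_centralizer_iff.2 fun k hk => (hx2 k hk).symm⟩
  have hxP : (⟨x, hxY⟩ : ↥Y0) ∈ (P : Subgroup ↥Y0) := by rw [hPtop]; trivial
  constructor
  · obtain ⟨k, hk⟩ := mem_zpowers_iff.1 (hg ⟨⟨x, hxY⟩, hxP⟩)
    refine ⟨k, ?_⟩
    have := congrArg (fun y : (P : Subgroup ↥Y0) => ((y : ↥Y0) : X)) hk
    simpa using this
  · obtain ⟨n, hn⟩ := P.isPGroup' ⟨⟨x, hxY⟩, hxP⟩
    refine ⟨n, ?_⟩
    have := congrArg (fun y : (P : Subgroup ↥Y0) => ((y : ↥Y0) : X)) hn
    simpa using this

end cyc

end Cfsg.Agent.SylowLFive.ThreeX
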